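import Mathlib
import Groth.Prelude.Def_EGA4b
import Groth.Agent.CAlgReg.GlobalDim
import Groth.Agent.FlatInjCoker.Open
import Groth.Agent.QGorLib.FourTermFlat

/-!
Projective dimension of the fibre module over the fibre local ring: openness for modules flat over the base.
-/

set_option autoImplicit false
set_option synthInstance.maxHeartbeats 80000

universe u

open TensorProduct IsLocalRing Groth.Agent.CAlgReg

namespace Groth.Agent.RectDepth

section Pure

variable {A S F N : Type u} [CommRing A] [CommRing S] [Algebra A S]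
  [AddCommGroup F] [Module S F] [Module A F] [IsScalarTower A S F]
  [AddCommGroup N] [Module S N] [Module A N] [IsScalarTower A S N]

/-- The kernel of a surjection onto a flat module is pure. -/
theorem mem_smul_ker_of_flat [Module.Flat A N] (π : F →ₗ[S] N) (hπ : Function.Surjective π) (I : Ideal A)
    {x : F} (hx : π x = 0) (hxJ : x ∈ I.map (algebraMap A S) • (⊤ : Submodule S F)) :
    x ∈ I.map (algebraMap A S) • LinearMap.ker π := by
  have hex : Function.Exact ((LinearMap.ker π).subtype.restrictScalars A) (π.restrictScalars A) :=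
    LinearMap.exact_subtype_ker_map π
  have hinj := LinearMap.lTensor_injective_of_exact_of_flat (π.restrictScalars A) hπ
    ((LinearMap.ker π).subtype.restrictScalars A) Subtype.val_injective hex (A ⧸ I)
  have hz : ∀ {M : Type u} [AddCommGroup M] [Module A M] (m : M),
      (1 : A ⧸ I) ⊗ₜ[A] m = 0 ↔ m ∈ I • (⊤ : Submodule A M) := by
    intro M _ _ m
    rw [← (TensorProduct.quotTensorEquivQuotSMul M I).map_eq_zero_iff, ← map_one (Ideal.Quotient.mk I),
      TensorProduct.quotTensorEquivQuotSMul_mk_tmul, one_smul, Submodule.Quotient.mk_eq_zero]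
  have hI : ∀ (M : Type u) [AddCommGroup M] [Module S M] [Module A M] [IsScalarTower A S M],
      I • (⊤ : Submodule A M) = (I.map (algebraMap A S) • (⊤ : Submodule S M)).restrictScalars A := fun M _ _ _ _ => by
    rw [Ideal.smul_restrictScalars, Submodule.restrictScalars_top]
  have hxI : x ∈ I • (⊤ : Submodule A F) := by
    rw [hI]
    exact hxJ
  have hk : (⟨x, hx⟩ : LinearMap.ker π) ∈ I • (⊤ : Submodule A (LinearMap.ker π)) := by
    refine (hz _).1 (hinj ?_)
    rw [map_zero, LinearMap.lTensor_tmul]
    exact (hz x).2 hxI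
  rw [hI] at hk
  have := Submodule.mem_map_of_mem (f := (LinearMap.ker π).subtype)
    (show (⟨x, hx⟩ : LinearMap.ker π) ∈ I.map (algebraMap A S) • (⊤ : Submodule S (LinearMap.ker π)) from hk)
  rwa [Submodule.map_smul'', Submodule.map_top, Submodule.range_subtype] at this

/-- A flat module whose reduction is free is free. -/
theorem free_of_free_quotient [IsLocalRing S] [Module.Flat A N] [Module.FinitePresentation S N] (I : Ideal A)
    (hI : I.map (algebraMap A S) ≤ maximalIdeal S)
    [Module.Free (S ⧸ I.map (algebraMap A S)) (N ⧸ I.map (algebraMap A S) • (⊤ : Submodule S N))] :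
    Module.Free S N := by
  set J := I.map (algebraMap A S)
  have : Module.Finite (S ⧸ J) (N ⧸ J • (⊤ : Submodule S N)) :=
    Module.Finite.of_restrictScalars_finite S _ _
  let b := Module.Free.chooseBasis (S ⧸ J) (N ⧸ J • (⊤ : Submodule S N))
  choose v hv using fun i => Submodule.Quotient.mk_surjective _ (b i)
  let π := Fintype.linearCombination S v
  have hmk : ∀ c, Submodule.Quotient.mk (p := J • (⊤ : Submodule S N)) (π c) =
      ∑ i, Ideal.Quotient.mk J (c i) • b i := fun c => by
    rw [show π c = ∑ i, c i • v i from Fintype.linearCombination_apply S v c, ← Submodule.mkQ_apply, map_sum]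
    refine Finset.sum_congr rfl fun i _ => ?_
    rw [map_smul, Submodule.mkQ_apply, hv]
    exact (IsScalarTower.algebraMap_smul (S ⧸ J) (c i) (b i)).symm
  have hJ : J ≤ Ideal.jacobson ⊥ := hI.trans (IsLocalRing.maximalIdeal_le_jacobson _)
  have hπ : Function.Surjective π := by
    rw [← LinearMap.range_eq_top]
    refine top_le_iff.1 (Submodule.le_of_le_smul_of_le_jacobson_bot Module.Finite.fg_top hJ fun y _ => ?_)
    choose c hc using fun i => Ideal.Quotient.mk_surjective (b.repr (Submodule.Quotient.mk y) i)
    have hy : y - π c ∈ J • (⊤ : Submodule S N) := by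
      rw [← Submodule.Quotient.mk_eq_zero, Submodule.Quotient.mk_sub, hmk, sub_eq_zero]
      simp only [hc]
      exact (b.sum_repr _).symm
    exact Submodule.mem_sup.2 ⟨π c, ⟨c, rfl⟩, y - π c, hy, add_sub_cancel _ _⟩
  have hker : LinearMap.ker π = ⊥ := by
    refine Submodule.eq_bot_of_le_smul_of_le_jacobson_bot J _ (Module.FinitePresentation.fg_ker π hπ) (fun c hc => ?_) hJ
    refine mem_smul_ker_of_flat π hπ I hc ?_
    have h0 := hmk c
    rw [LinearMap.mem_ker.1 hc, Submodule.Quotient.mk_zero, eq_comm] at h0
    have hci : ∀ i, c i ∈ J := fun i =>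
      Ideal.Quotient.eq_zero_iff_mem.1 (Fintype.linearIndependent_iff.1 b.linearIndependent _ h0 i)
    rw [pi_eq_sum_univ' c]
    exact Submodule.sum_mem _ fun i _ => Submodule.smul_mem_smul (hci i) trivial
  exact Module.Free.of_equiv (LinearEquiv.ofBijective π ⟨LinearMap.ker_eq_bot.1 hker, hπ⟩)

end Pure

variable (A : Type u) {P : Type u} [CommRing A] [CommRing P] [Algebra A P]

theorem map_le_maximalIdeal (q : Ideal P) [q.IsPrime] :
    (q.comap (algebraMap A P)).map (algebraMap A (Localization.AtPrime q)) ≤ maximalIdeal (Localization.AtPrime q) := by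
  rw [Ideal.map_le_iff_le_comap, IsScalarTower.algebraMap_eq A P (Localization.AtPrime q), ← Ideal.comap_comap]
  exact Ideal.comap_mono (le_of_eq (IsLocalization.AtPrime.comap_maximalIdeal (Localization.AtPrime q) q).symm)

theorem nontrivial_fibLocRing (q : Ideal P) [q.IsPrime] : Nontrivial (EGA4.FibLocRing A P q) :=
  Ideal.Quotient.nontrivial_iff.2 fun h =>
    (maximalIdeal.isMaximal (Localization.AtPrime q)).ne_top (top_le_iff.1 (h ▸ map_le_maximalIdeal A q))

theorem isLocalRing_fibLocRing (q : Ideal P) [q.IsPrime] : IsLocalRing (EGA4.FibLocRing A P q) :=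
  have := nontrivial_fibLocRing A q
  EGA4.isLocalRing_quotient _ _

/-- The fibre module has projective dimension `≤ m` over the fibre local ring. -/
def FibPdLE (M : Type u) [AddCommGroup M] [Module P M] (m : ℕ) (q : PrimeSpectrum P) : Prop :=
  PdLT (EGA4.FibLocRing A P q.asIdeal) (EGA4.FibLocMod A P q.asIdeal M) (m + 1)

variable {M : Type u} [AddCommGroup M] [Module P M] [Module A M] [IsScalarTower A P M]

theorem fibPdLE_zero_iff [Module.Flat A M] [Module.FinitePresentation P M] (q : PrimeSpectrum P) :
    FibPdLE A M 0 q ↔ q ∈ Module.freeLocus P M := by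
  let S := Localization.AtPrime q.asIdeal
  let N := LocalizedModule q.asIdeal.primeCompl M
  let p := q.asIdeal.comap (algebraMap A P)
  have : Module.Flat A N := QGorLib.flat_of_linearMap_localized q.asIdeal
  have : Module.FinitePresentation S N :=
    inferInstanceAs (Module.FinitePresentation (Localization q.asIdeal.primeCompl) (LocalizedModule q.asIdeal.primeCompl M))
  have := isLocalRing_fibLocRing A q.asIdeal
  rw [Module.mem_freeLocus, FibPdLE]
  constructor
  · intro h
    have : Module.Projective (EGA4.FibLocRing A P q.asIdeal) (EGA4.FibLocMod A P q.asIdeal M) :=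
      (IsProjective.iff_projective (R := EGA4.FibLocRing A P q.asIdeal) _).2
        (CategoryTheory.projective_iff_hasProjectiveDimensionLT_one.2 h)
    have : Module.Finite (EGA4.FibLocRing A P q.asIdeal) (EGA4.FibLocMod A P q.asIdeal M) :=
      Module.Finite.of_restrictScalars_finite S _ _
    have : Module.Free (EGA4.FibLocRing A P q.asIdeal) (EGA4.FibLocMod A P q.asIdeal M) :=
      Module.free_of_flat_of_isLocalRing
    exact free_of_free_quotient (A := A) (S := S) (N := N) p (map_le_maximalIdeal A q.asIdeal)
  · intro h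
    have : Module.Free S N := h
    let e : (EGA4.FibLocRing A P q.asIdeal ⊗[S] N) ≃ₗ[EGA4.FibLocRing A P q.asIdeal] EGA4.FibLocMod A P q.asIdeal M :=
      LinearEquiv.extendScalarsOfSurjective Ideal.Quotient.mk_surjective (TensorProduct.quotTensorEquivQuotSMul N _)
    exact pdLT_congr e pdLT_one

theorem fibPdLE_succ_iff [Module.Flat A M] {F : Type u} [AddCommGroup F] [Module P F] [Module A F]
    [IsScalarTower A P F] [Module.Free P F] (π : F →ₗ[P] M) (hπ : Function.Surjective π) (m : ℕ) (q : PrimeSpectrum P) :
    FibPdLE A M (m + 1) q ↔ FibPdLE A (LinearMap.ker π) m q := by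
  let T := q.asIdeal.primeCompl
  let S := Localization.AtPrime q.asIdeal
  let p := q.asIdeal.comap (algebraMap A P)
  let J : Ideal S := p.map (algebraMap A S)
  let R := EGA4.FibLocRing A P q.asIdeal
  let ι : LocalizedModule T (LinearMap.ker π) →ₗ[S] LocalizedModule T F := LocalizedModule.map T (LinearMap.ker π).subtype
  let g : LocalizedModule T F →ₗ[S] LocalizedModule T M := LocalizedModule.map T π
  have hex : Function.Exact ι g := LocalizedModule.map_exact T _ π (LinearMap.exact_subtype_ker_map π)
  have hι : Function.Injective ι := LocalizedModule.map_injective T _ Subtype.val_injective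
  have hg : Function.Surjective g := LocalizedModule.map_surjective T π hπ
  have : Module.Flat A (LocalizedModule T M) := QGorLib.flat_of_linearMap_localized q.asIdeal
  have hle : ∀ {U V : Type u} [AddCommGroup U] [Module S U] [AddCommGroup V] [Module S V] (φ : U →ₗ[S] V),
      J • (⊤ : Submodule S U) ≤ (J • (⊤ : Submodule S V)).comap φ := fun φ => by
    rw [← Submodule.map_le_iff_le_comap, Submodule.map_smul'']
    exact Submodule.smul_mono le_rfl le_top
  let ι' : EGA4.FibLocMod A P q.asIdeal (LinearMap.ker π) →ₗ[R] EGA4.FibLocMod A P q.asIdeal F :=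
    LinearMap.extendScalarsOfSurjective Ideal.Quotient.mk_surjective (Submodule.mapQ _ _ ι (hle ι))
  let g' : EGA4.FibLocMod A P q.asIdeal F →ₗ[R] EGA4.FibLocMod A P q.asIdeal M :=
    LinearMap.extendScalarsOfSurjective Ideal.Quotient.mk_surjective (Submodule.mapQ _ _ g (hle g))
  have hι' : ∀ x, ι' (Submodule.Quotient.mk x) = Submodule.Quotient.mk (ι x) := fun x => rfl
  have hg' : ∀ x, g' (Submodule.Quotient.mk x) = Submodule.Quotient.mk (g x) := fun x => rfl
  have hsurj : Function.Surjective g' := fun y => by
    obtain ⟨y, rfl⟩ := Submodule.Quotient.mk_surjective _ y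
    obtain ⟨x, rfl⟩ := hg y
    exact ⟨Submodule.Quotient.mk x, hg' x⟩
  have hrange : LinearMap.ker g = LinearMap.range ι := LinearMap.exact_iff.1 hex
  have hexact : Function.Exact ι' g' := by
    intro y
    obtain ⟨y, rfl⟩ := Submodule.Quotient.mk_surjective _ y
    constructor
    · intro hy
      rw [hg', Submodule.Quotient.mk_eq_zero] at hy
      have hmap : (J • (⊤ : Submodule S (LocalizedModule T F))).map g = J • (⊤ : Submodule S (LocalizedModule T M)) := by
        rw [Submodule.map_smul'', Submodule.map_top, LinearMap.range_eq_top.2 hg]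
      obtain ⟨z, hz, hzy⟩ := hmap.ge hy
      obtain ⟨x, hx⟩ : y - z ∈ LinearMap.range ι := by
        rw [← hrange, LinearMap.mem_ker, map_sub, hzy, sub_self]
      refine ⟨Submodule.Quotient.mk x, ?_⟩
      rw [hι', hx, Submodule.Quotient.mk_sub, (Submodule.Quotient.mk_eq_zero _).2 hz, sub_zero]
    · rintro ⟨x, hx⟩
      obtain ⟨x, rfl⟩ := Submodule.Quotient.mk_surjective _ x
      rw [← hx, hι', hg', hex.apply_apply_eq_zero, Submodule.Quotient.mk_zero]
  have hinj : Function.Injective ι' := by
    rw [injective_iff_map_eq_zero]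
    intro x hx
    obtain ⟨x, rfl⟩ := Submodule.Quotient.mk_surjective _ x
    rw [hι', Submodule.Quotient.mk_eq_zero] at hx
    have := mem_smul_ker_of_flat (A := A) (S := S) g hg p (hex.apply_apply_eq_zero x) hx
    rw [hrange, ← Submodule.map_top, ← Submodule.map_smul''] at this
    obtain ⟨x', hx', hxx⟩ := this
    rw [Submodule.Quotient.mk_eq_zero]
    exact hι hxx ▸ hx'
  have : Module.Free S (LocalizedModule T F) :=
    Module.free_of_isLocalizedModule T (LocalizedModule.mkLinearMap T F)
  have : Module.Projective R (EGA4.FibLocMod A P q.asIdeal F) :=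
    Module.Projective.of_equiv (LinearEquiv.extendScalarsOfSurjective Ideal.Quotient.mk_surjective
      (TensorProduct.quotTensorEquivQuotSMul (LocalizedModule T F) J) : R ⊗[S] LocalizedModule T F ≃ₗ[R] _)
  exact ⟨fun h => pdLT_left ι' g' hinj hexact hsurj h, fun h => pdLT_right ι' g' hinj hexact hsurj h⟩

/-- The locus where the fibre module has projective dimension `≤ m` is open. -/
theorem isOpen_fibPdLE [Algebra.FinitePresentation A P] [Module.Flat A P] :
    ∀ (m : ℕ) (M : Type u) [AddCommGroup M] [Module P M] [Module A M] [IsScalarTower A P M] [Module.Flat A M]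
      [Module.FinitePresentation P M], IsOpen {q : PrimeSpectrum P | FibPdLE A M m q} := by
  intro m
  induction m with
  | zero =>
    intro M _ _ _ _ _ _
    simp only [fibPdLE_zero_iff]
    exact Module.isOpen_freeLocus
  | succ m ih =>
    intro M _ _ _ _ _ _
    obtain ⟨k, π, hπ, hfp, hfl⟩ := FlatFibrePD.exists_step A P (M := M)
    simp only [fibPdLE_succ_iff A π hπ]
    exact ih _

end Groth.Agent.RectDepth
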