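import Mathlib
import Groth.Agent.RectDepth.Pd
import Groth.Agent.CAlgReg.AusBuch
import Groth.Agent.DimTheory.Algebra

/-!
Rectified depth of the fibre module on an affine space: it equals `n - pd`, hence is lower semicontinuous.
-/

set_option autoImplicit false
set_option synthInstance.maxHeartbeats 80000

universe u

open TensorProduct IsLocalRing Groth.Agent.CAlgReg

namespace Groth.Agent.RectDepth

variable (A : Type u) {P : Type u} [CommRing A] [CommRing P] [Algebra A P]

/-- The point of the fibre defined by a prime. -/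
noncomputable def fprime (q : PrimeSpectrum P) :
    PrimeSpectrum ((q.comap (algebraMap A P)).asIdeal.Fiber P) :=
  PrimeSpectrum.preimageEquivFiber A P (q.comap (algebraMap A P)) ⟨q, rfl⟩

theorem fprime_comap (q : PrimeSpectrum P) :
    (fprime A q).asIdeal.comap (Algebra.TensorProduct.includeRight : P →ₐ[A] (q.comap (algebraMap A P)).asIdeal.Fiber P).toRingHom =
      q.asIdeal := by
  have := congrArg (fun z => z.1.asIdeal)
    ((PrimeSpectrum.preimageEquivFiber A P (q.comap (algebraMap A P))).symm_apply_apply ⟨q, rfl⟩)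
  exact this

/-- The dimension of the closure of the point in its fibre. -/
noncomputable def fdim (q : PrimeSpectrum P) : WithBot ℕ∞ :=
  ringKrullDim ((q.comap (algebraMap A P)).asIdeal.Fiber P ⧸ (fprime A q).asIdeal)

/-- The depth of the fibre module. -/
noncomputable def fdepth (M : Type u) [AddCommGroup M] [Module P M] (q : PrimeSpectrum P) : ℕ∞ :=
  haveI := isLocalRing_fibLocRing A q.asIdeal
  LocCoh.depth (EGA4.FibLocRing A P q.asIdeal) (EGA4.FibLocMod A P q.asIdeal M)

/-- The dimension of the support of the fibre module. -/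
noncomputable def fsupp (M : Type u) [AddCommGroup M] [Module P M] (q : PrimeSpectrum P) : WithBot ℕ∞ :=
  Module.supportDim (EGA4.FibLocRing A P q.asIdeal) (EGA4.FibLocMod A P q.asIdeal M)

/-- The fibre local ring is the local ring of the fibre. -/
theorem nonempty_fibLocRing_equiv (q : PrimeSpectrum P) :
    Nonempty (Localization.AtPrime (fprime A q).asIdeal ≃+* EGA4.FibLocRing A P q.asIdeal) := by
  let e := (Ideal.Fiber.algEquivAux₂ (q.comap (algebraMap A P)).asIdeal (fprime A q).asIdeal).toRingEquiv
  have h : ∀ (r : Ideal P) [r.IsPrime], r = q.asIdeal →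
      Nonempty ((Localization.AtPrime r ⧸ ((q.comap (algebraMap A P)).asIdeal.map (algebraMap A P)).map
        (algebraMap P (Localization.AtPrime r))) ≃+* EGA4.FibLocRing A P q.asIdeal) := by
    intro r _ hr
    subst hr
    refine ⟨(Ideal.quotientEquiv _ _ (RingEquiv.refl _) ?_)⟩
    rw [Ideal.map_map, Ideal.map_map, RingHom.comp_assoc, ← IsScalarTower.algebraMap_eq]
    rfl
  obtain ⟨e'⟩ := h _ (fprime_comap A q)
  exact ⟨e.trans e'⟩

variable {n : ℕ}

/-- The fibre local ring of an affine space is regular of dimension `n - fdim`. -/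
theorem regular_and_dim (q : PrimeSpectrum P)
    (e : (q.comap (algebraMap A P)).asIdeal.Fiber P ≃ₐ[(q.comap (algebraMap A P)).asIdeal.ResidueField]
      MvPolynomial (Fin n) (q.comap (algebraMap A P)).asIdeal.ResidueField) :
    IsRegularLocalRing (EGA4.FibLocRing A P q.asIdeal) ∧
      ∃ d r : ℕ, fdim A q = d ∧ ringKrullDim (EGA4.FibLocRing A P q.asIdeal) = r ∧ r + d = n := by
  set κ := (q.comap (algebraMap A P)).asIdeal.ResidueField
  set K := (q.comap (algebraMap A P)).asIdeal.Fiber P
  have : IsDomain K := MulEquiv.isDomain (MvPolynomial (Fin n) κ) e.toMulEquiv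
  have : Algebra.FiniteType κ K := Algebra.FiniteType.equiv inferInstance e.symm
  have : IsNoetherianRing K := Algebra.FiniteType.isNoetherianRing κ K
  have : IsRegularRing K := IsRegularRing.of_ringEquiv e.symm.toRingEquiv
  obtain ⟨eR⟩ := nonempty_fibLocRing_equiv A q
  have : IsRegularLocalRing (Localization.AtPrime (fprime A q).asIdeal) :=
    IsRegularRing.isRegularLocalRing_localization _
  have hreg : IsRegularLocalRing (EGA4.FibLocRing A P q.asIdeal) := IsRegularLocalRing.of_ringEquiv (R := Localization.AtPrime (fprime A q).asIdeal) (by exact eR)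
  refine ⟨hreg, ?_⟩
  have hK : ringKrullDim K = n := by
    rw [ringKrullDim_eq_of_ringEquiv e.toRingEquiv, MvPolynomial.ringKrullDim_of_isNoetherianRing,
      ringKrullDim_eq_zero_of_field]
    simp
  have hsum := DimTheory.height_add_ringKrullDim_quotient' κ (fprime A q).asIdeal
  obtain ⟨d, hd, -⟩ := DimTheory.exists_trdeg_eq κ (K ⧸ (fprime A q).asIdeal)
  have hR : ringKrullDim (EGA4.FibLocRing A P q.asIdeal) = (fprime A q).asIdeal.height := by
    exact (ringKrullDim_eq_of_ringEquiv eR).symm.trans
      (IsLocalization.AtPrime.ringKrullDim_eq_height (fprime A q).asIdeal (Localization.AtPrime (fprime A q).asIdeal))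
  rw [hK, hd] at hsum
  obtain ⟨r, hr⟩ := ENat.ne_top_iff_exists.1 (Ideal.height_ne_top_of_isPrime (I := (fprime A q).asIdeal))
  rw [← hr] at hsum hR
  refine ⟨d, r, hd, hR, ?_⟩
  have : ((d + r : ℕ) : WithBot ℕ∞) = ((n : ℕ) : WithBot ℕ∞) := by push_cast; exact hsum
  have := (Nat.cast_inj (R := WithBot ℕ∞)).1 this
  omega

/-- Rectified depth `≥ m` on an affine space is projective dimension `≤ n - m`. -/
theorem le_fdepth_add_iff (M : Type u) [AddCommGroup M] [Module P M] [Module.Finite P M] (q : PrimeSpectrum P)
    (e : (q.comap (algebraMap A P)).asIdeal.Fiber P ≃ₐ[(q.comap (algebraMap A P)).asIdeal.ResidueField]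
      MvPolynomial (Fin n) (q.comap (algebraMap A P)).asIdeal.ResidueField) (m : ℕ) :
    (m : WithBot ℕ∞) ≤ (fdepth A M q : WithBot ℕ∞) + fdim A q ↔
      q ∉ Module.support P M ∨ (m ≤ n ∧ FibPdLE A M (n - m) q) := by
  obtain ⟨hreg, d, r, hd, hr, hrd⟩ := regular_and_dim A q e
  set R := EGA4.FibLocRing A P q.asIdeal
  set N := EGA4.FibLocMod A P q.asIdeal M
  have : IsLocalRing R := isLocalRing_fibLocRing A q.asIdeal
  have : Module.Finite R N := Module.Finite.of_restrictScalars_finite (Localization.AtPrime q.asIdeal) _ _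
  have hdep : fdepth A M q = LocCoh.depth R N := rfl
  rw [hdep, hd]
  rcases subsingleton_or_nontrivial N with hN | hN
  · have hq : q ∉ Module.support P M := by
      rw [Module.notMem_support_iff]
      by_contra hs
      rw [not_subsingleton_iff_nontrivial] at hs
      have htop := Submodule.Quotient.subsingleton_iff.1 hN
      exact (Submodule.top_ne_ideal_smul_of_le_jacobson_annihilator (R := Localization.AtPrime q.asIdeal)
        (((map_le_maximalIdeal A q.asIdeal).trans (IsLocalRing.maximalIdeal_le_jacobson _)))) htop.symm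
    have : LocCoh.depth R N = ⊤ := Depth.idealDepth_of_subsingleton ..
    rw [this]
    exact ⟨fun _ => Or.inl hq, fun _ => le_top.trans (le_of_eq (by rfl))⟩
  · have hq : q ∈ Module.support P M := by
      rw [Module.mem_support_iff]
      by_contra hs
      rw [not_nontrivial_iff_subsingleton] at hs
      exact not_subsingleton N (Submodule.Quotient.mk_surjective _).subsingleton
    have h0 : ¬ PdLT R N 0 := fun h0 => not_subsingleton N
      (ModuleCat.subsingleton_of_isZero ((CategoryTheory.hasProjectiveDimensionLT_zero_iff_isZero _).1 h0))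
    have hex : ∃ e, PdLT R N (e + 1) := ⟨r, pdLT_of_isRegularLocalRing hr N⟩
    classical
    obtain ⟨h1, h2⟩ : PdLT R N (Nat.find hex + 1) ∧ ¬ PdLT R N (Nat.find hex) := by
      refine ⟨Nat.find_spec hex, ?_⟩
      rcases he : Nat.find hex with _ | e
      · exact h0
      · exact Nat.find_min hex (by omega : e < Nat.find hex)
    have hab := auslander_buchsbaum_aux _ N h1 h2
    rw [depth_self_eq_dim hr] at hab
    obtain ⟨t, ht⟩ : ∃ t : ℕ, LocCoh.depth R N = t :=
      ⟨_, (ENat.natCast_toNat (fun h => by rw [h, add_top] at hab; exact ENat.natCast_ne_top r hab)).symm⟩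
    rw [ht] at hab ⊢
    have hab' : r = Nat.find hex + t := by exact_mod_cast hab
    rw [show ((((t : ℕ∞) : WithBot ℕ∞)) + (d : WithBot ℕ∞)) = ((t + d : ℕ) : WithBot ℕ∞) by push_cast; rfl,
      Nat.cast_le]
    constructor
    · intro h
      exact Or.inr ⟨by omega, pdLT_mono (by omega) h1⟩
    · rintro (h | ⟨hm, h⟩)
      · exact absurd hq h
      · have := Nat.find_min' hex (show PdLT R N (n - m + 1) from h)
        omega

/-- Rectified depth of the fibre modules of a flat module on affine space is lower semicontinuous. -/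
theorem isOpen_le_fdepth_add [Algebra.FinitePresentation A P] [Module.Flat A P]
    (e : ∀ q : PrimeSpectrum P, (q.comap (algebraMap A P)).asIdeal.Fiber P ≃ₐ[(q.comap (algebraMap A P)).asIdeal.ResidueField]
      MvPolynomial (Fin n) (q.comap (algebraMap A P)).asIdeal.ResidueField)
    (M : Type u) [AddCommGroup M] [Module P M] [Module A M] [IsScalarTower A P M] [Module.Flat A M]
    [Module.FinitePresentation P M] (m : ℕ) :
    IsOpen {q : PrimeSpectrum P | (m : WithBot ℕ∞) ≤ (fdepth A M q : WithBot ℕ∞) + fdim A q} := by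
  simp only [fun q => le_fdepth_add_iff A M q (e q) m, Set.ofPred_or, Set.ofPred_and]
  refine IsOpen.union (Module.isClosed_support.isOpen_compl) (IsOpen.inter ?_ (isOpen_fibPdLE A (n - m) M))
  exact isOpen_const

end Groth.Agent.RectDepth
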