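import Mathlib
import Groth.Agent.RectDepth.Depth
import Groth.Agent.DimTheory.LocClosed

/-!
The dimension of the closure of a point in its fibre, on an affine chart with a presentation.
-/

set_option autoImplicit false
set_option linter.all false
noncomputable section

universe u

open CategoryTheory Limits AlgebraicGeometry TopologicalSpace

namespace Groth.Agent.RectDepth

variable {X Y : Scheme.{u}} (f : X ⟶ Y)

theorem locallyOfFiniteType_fiber [LocallyOfFiniteType f] (y : Y) :
    LocallyOfFiniteType (f.fiberToSpecResidueField y) :=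
  inferInstanceAs (LocallyOfFiniteType (pullback.snd f (Y.fromSpecResidueField y)))

/-- The closure dimension in the fibre of a relative affine scheme. -/
theorem height_fibre_spec {A P : Type u} [CommRing A] [CommRing P] [Algebra A P]
    (o : Spec (CommRingCat.of A) ⟶ Y) (ho : Function.Injective o)
    (q : PrimeSpectrum P) (y : Y) (hy : o (q.comap (algebraMap A P)) = y)
    (w : (Spec.map (CommRingCat.ofHom (algebraMap A P)) ≫ o).fiber y)
    (hw : (Spec.map (CommRingCat.ofHom (algebraMap A P)) ≫ o).fiberι y w = q) :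
    (Order.height w : WithBot ℕ∞) = fdim A q := by
  let p := q.comap (algebraMap A P)
  let hP := Spec.map (CommRingCat.ofHom (algebraMap A P)) ≫ o
  let K := p.asIdeal.Fiber P
  have hmem : ∀ a : hP.fiber y, hP.fiberι y a ∈ PrimeSpectrum.comap (algebraMap A P) ⁻¹' {p} := fun a => by
    have h1 : hP (hP.fiberι y a) = y := (Scheme.Hom.range_fiberι hP y).le ⟨a, rfl⟩
    exact ho (h1.trans hy.symm)
  have hrange : ∀ z : PrimeSpectrum.comap (algebraMap A P) ⁻¹' {p}, ∃ a : hP.fiber y, hP.fiberι y a = z.1 := by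
    rintro ⟨z, hz⟩
    refine (Scheme.Hom.range_fiberι hP y).ge ?_
    show o (PrimeSpectrum.comap (algebraMap A P) z) = y
    rw [show PrimeSpectrum.comap (algebraMap A P) z = p from hz]
    exact hy
  let E := PrimeSpectrum.preimageOrderIsoFiber A P p
  let Φ : hP.fiber y → Spec (CommRingCat.of K) := fun a => E ⟨hP.fiberι y a, hmem a⟩
  have hle : ∀ a b, Φ a ≤ Φ b ↔ a ≤ b := by
    intro a b
    show (Φ b) ⤳ (Φ a) ↔ b ⤳ a
    rw [← (hP.fiberι y).isEmbedding.isInducing.specializes_iff]
    show (E ⟨_, hmem b⟩) ⤳ (E ⟨_, hmem a⟩) ↔ _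
    rw [← PrimeSpectrum.le_iff_specializes, E.le_iff_le]
    exact PrimeSpectrum.le_iff_specializes _ _
  have hbij : Function.Bijective Φ := by
    refine ⟨fun a b hab => (hP.fiberι y).isEmbedding.injective (congrArg Subtype.val (E.injective hab)), fun z => ?_⟩
    obtain ⟨a, ha⟩ := hrange (E.symm z)
    exact ⟨a, (congrArg E (Subtype.ext ha)).trans (E.apply_symm_apply z)⟩
  let Ψ : hP.fiber y ≃o Spec (CommRingCat.of K) := { Equiv.ofBijective Φ hbij with map_rel_iff' := fun {a b} => hle a b }
  rw [← Order.height_orderIso Ψ w, DimTheory.height_spec]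
  refine congrArg (fun z : PrimeSpectrum K => ringKrullDim (K ⧸ z.asIdeal)) ?_
  show E ⟨hP.fiberι y w, hmem w⟩ = fprime A q
  exact congrArg E (Subtype.ext hw)

variable {U : Y.Opens} {V : X.Opens} (hV : IsAffineOpen V) (hU : IsAffineOpen U) (e : V ≤ f ⁻¹ᵁ U)

include hU in
/-- On a chart, the height of the point in its fibre is the closure dimension in affine space. -/
theorem height_eq_fdim [LocallyOfFiniteType f] {P : Type u} [CommRing P] [Algebra Γ(Y, U) P]
    [Algebra.FiniteType Γ(Y, U) P] (φ : P →+* Γ(X, V)) (hφs : Function.Surjective φ)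
    (hφ : φ.comp (algebraMap Γ(Y, U) P) = (f.appLE U V e).hom)
    (y : Y) (w : f.fiber y) (z : X) (hw : f.fiberι y w = z) (hz : z ∈ V) :
    (Order.height w : WithBot ℕ∞) = fdim Γ(Y, U) (PrimeSpectrum.comap φ (hV.primeIdealOf ⟨z, hz⟩)) := by
  let c : Spec Γ(X, V) ⟶ Spec (CommRingCat.of P) := Spec.map (CommRingCat.ofHom φ)
  have : IsClosedImmersion c := IsClosedImmersion.spec_of_surjective _ hφs
  let hP : Spec (CommRingCat.of P) ⟶ Y := Spec.map (CommRingCat.ofHom (algebraMap Γ(Y, U) P)) ≫ hU.fromSpec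
  have hPlft : LocallyOfFiniteType hP := by
    have : LocallyOfFiniteType (Spec.map (CommRingCat.ofHom (algebraMap Γ(Y, U) P))) :=
      (HasRingHomProperty.Spec_iff (P := @LocallyOfFiniteType)).2 (RingHom.finiteType_algebraMap.mpr inferInstance)
    infer_instance
  have hc : c ≫ hP = hV.fromSpec ≫ f := by
    rw [← hU.SpecMap_appLE_fromSpec f hV e]
    show Spec.map _ ≫ Spec.map _ ≫ _ = _
    rw [← Category.assoc, ← Spec.map_comp, ← CommRingCat.ofHom_comp, hφ]
    rfl
  let t := Y.fromSpecResidueField y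
  let T := pullback (hV.fromSpec ≫ f) t
  have hwj : (pullback.fst (hV.fromSpec ≫ f) t ≫ hV.fromSpec) ≫ f = pullback.snd (hV.fromSpec ≫ f) t ≫ t := by
    rw [Category.assoc]; exact pullback.condition
  let j' : T ⟶ f.fiber y := pullback.lift (pullback.fst _ t ≫ hV.fromSpec) (pullback.snd _ t) hwj
  have Hj : IsPullback (pullback.fst (hV.fromSpec ≫ f) t) j' hV.fromSpec (pullback.fst f t) :=
    IsPullback.of_bot (v₂₁ := pullback.snd f t) (v₂₂ := f) (h₃₁ := t)
      (by rw [show j' ≫ pullback.snd f t = pullback.snd _ t from pullback.lift_snd _ _ _]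
          exact IsPullback.of_hasPullback _ t)
      (pullback.lift_fst _ _ _).symm (IsPullback.of_hasPullback f t)
  have hwc : (pullback.fst (hV.fromSpec ≫ f) t ≫ c) ≫ hP = pullback.snd (hV.fromSpec ≫ f) t ≫ t := by
    rw [Category.assoc, hc]; exact pullback.condition
  let c' : T ⟶ hP.fiber y := pullback.lift (pullback.fst _ t ≫ c) (pullback.snd _ t) hwc
  have Hc : IsPullback (pullback.fst (hV.fromSpec ≫ f) t) c' c (pullback.fst hP t) :=
    IsPullback.of_bot (v₂₁ := pullback.snd hP t) (v₂₂ := hP) (h₃₁ := t)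
      (by rw [show c' ≫ pullback.snd hP t = pullback.snd _ t from pullback.lift_snd _ _ _, hc]
          exact IsPullback.of_hasPullback _ t)
      (pullback.lift_fst _ _ _).symm (IsPullback.of_hasPullback hP t)
  have : IsImmersion j' := MorphismProperty.of_isPullback Hj inferInstance
  have : IsImmersion c' := MorphismProperty.of_isPullback Hc inferInstance
  obtain ⟨v, hv1, hv2⟩ := Scheme.exists_preimage_of_isPullback Hj (hV.primeIdealOf ⟨z, hz⟩) w
    ((hV.fromSpec_primeIdealOf ⟨z, hz⟩).trans hw.symm)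
  have : LocallyOfFiniteType (f.fiberToSpecResidueField y) := locallyOfFiniteType_fiber f y
  have := locallyOfFiniteType_fiber hP y
  rw [← hv2, @DimTheory.height_immersion (Y.residueField y) _ (f.fiber y) T (f.fiberToSpecResidueField y) (locallyOfFiniteType_fiber f y) j' _ v,
    ← @DimTheory.height_immersion (Y.residueField y) _ (hP.fiber y) T (hP.fiberToSpecResidueField y) (locallyOfFiniteType_fiber hP y) c' _ v]
  have hq : hP.fiberι y (c' v) = PrimeSpectrum.comap φ (hV.primeIdealOf ⟨z, hz⟩) := by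
    have h1 := congr($(Hc.w) v)
    rw [Scheme.Hom.comp_apply, Scheme.Hom.comp_apply] at h1
    refine h1.symm.trans ?_
    rw [hv1]
    rfl
  refine height_fibre_spec hU.fromSpec hU.fromSpec.isOpenEmbedding.injective _ y ?_ (c' v) hq
  have h2 : hP (hP.fiberι y (c' v)) = y := (Scheme.Hom.range_fiberι hP y).le ⟨_, rfl⟩
  rw [hq] at h2
  exact h2

end Groth.Agent.RectDepth
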