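import Mathlib
import Groth.Agent.RectDepth.Depth
import Groth.Agent.Depth.Change
import Groth.Agent.FlatLocalDepth.FibreStalk
import Groth.Agent.DCohBridge.StalkPull
import Groth.Agent.FinLocFreeSections.FP
import Groth.Agent.FlatInjCoker.Scheme
import Groth.Agent.FlatOverBC.CMScheme

/-!
The depth of the stalk of the restriction of a module to a fibre, on an affine chart with a presentation.
-/

set_option autoImplicit false
set_option synthInstance.maxHeartbeats 80000
set_option linter.all false
noncomputable section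

universe u

open CategoryTheory Limits AlgebraicGeometry IsLocalRing TensorProduct
open Groth.Agent.FlatOver

namespace Groth.Agent.RectDepth

variable {X Y : Scheme.{u}} (f : X ⟶ Y)

/-- The support dimension does not change along a surjection of rings. -/
theorem supportDim_eq_of_surjective {S R M : Type u} [CommRing S] [CommRing R] [Algebra S R] [AddCommGroup M]
    [Module S M] [Module R M] [IsScalarTower S R M] [Module.Finite R M]
    (hs : Function.Surjective (algebraMap S R)) : Module.supportDim S M = Module.supportDim R M := by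
  have : Module.Finite S R := Module.Finite.of_surjective (Algebra.linearMap S R) hs
  have : Module.Finite S M := Module.Finite.trans R M
  rw [Module.supportDim_eq_ringKrullDim_quotient_annihilator, Module.supportDim_eq_ringKrullDim_quotient_annihilator]
  have hk : RingHom.ker ((Ideal.Quotient.mk (Module.annihilator R M)).comp (algebraMap S R)) = Module.annihilator S M := by
    ext a
    rw [RingHom.mem_ker, RingHom.comp_apply, Ideal.Quotient.eq_zero_iff_mem, Module.mem_annihilator,
      Module.mem_annihilator]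
    simp only [IsScalarTower.algebraMap_smul]
  exact ringKrullDim_eq_of_ringEquiv ((Ideal.quotEquivOfEq hk.symm).trans
    (RingHom.quotientKerEquivOfSurjective (Ideal.Quotient.mk_surjective.comp hs)))

/-- The image of the maximal ideal of the base in the stalk. -/
def baseIdeal (z : X) : Ideal (X.presheaf.stalk z) :=
  (maximalIdeal (Y.presheaf.stalk (f z))).map (f.stalkMap z).hom

/-- Depth of the fibre module stalk, read on the stalk upstairs. -/
theorem inv_fibreStalk (F : X.Modules) (y : Y) (w : f.fiber y) (z : X) (hw : f.fiberι y w = z)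
    [IsNoetherianRing ((f.fiber y).presheaf.stalk w)]
    [Module.Finite (X.presheaf.stalk z) (F.presheaf.stalk z)] :
    LocCoh.depth ((f.fiber y).presheaf.stalk w) (((Scheme.Modules.pullback (f.fiberι y)).obj F).presheaf.stalk w) =
      LocCoh.depth (X.presheaf.stalk z)
        (F.presheaf.stalk z ⧸ baseIdeal f z • (⊤ : Submodule (X.presheaf.stalk z) (F.presheaf.stalk z))) ∧
    Module.supportDim ((f.fiber y).presheaf.stalk w) (((Scheme.Modules.pullback (f.fiberι y)).obj F).presheaf.stalk w) =
      Module.supportDim (X.presheaf.stalk z)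
        (F.presheaf.stalk z ⧸ baseIdeal f z • (⊤ : Submodule (X.presheaf.stalk z) (F.presheaf.stalk z))) := by
  subst hw
  let O := X.presheaf.stalk (f.fiberι y w)
  let Rf := (f.fiber y).presheaf.stalk w
  let σ : O →+* Rf := ((f.fiberι y).stalkMap w).hom
  have hσ : Function.Surjective σ := (f.fiberι y).stalkMap_surjective w
  letI : Algebra O Rf := σ.toAlgebra
  let Mz := F.presheaf.stalk (f.fiberι y w)
  have hker : RingHom.ker σ = baseIdeal f (f.fiberι y w) :=
    le_antisymm (DivPts.ker_fiberι_stalkMap_le f y w)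
      (Ideal.map_le_iff_le_comap.2 fun a ha => DivPts.stalkMap_fiberι_eq_zero f y w ha)
  let e : ((Scheme.Modules.pullback (f.fiberι y)).obj F).presheaf.stalk w ≃ₗ[Rf] Rf ⊗[O] Mz :=
    ((DCohBridge.stalkPullIso (f.fiberι y) w).app F).toLinearEquiv
  have h1 : LocCoh.depth Rf (((Scheme.Modules.pullback (f.fiberι y)).obj F).presheaf.stalk w) =
      LocCoh.depth Rf (Rf ⊗[O] Mz) := Depth.idealDepth_congr e
  have : Module.Finite O Mz := ‹_›
  have : Module.Finite Rf (Rf ⊗[O] Mz) := inferInstance
  have h2 : LocCoh.depth Rf (Rf ⊗[O] Mz) = LocCoh.depth O (Rf ⊗[O] Mz) := Depth.depth_eq_of_surjective hσ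
  let ψ : (O ⧸ baseIdeal f (f.fiberι y w)) ≃ₐ[O] Rf :=
    (Ideal.quotientEquivAlgOfEq O hker.symm).trans
      (Ideal.quotientKerAlgEquivOfSurjective (f := Algebra.ofId O Rf) hσ)
  let ee := (TensorProduct.congr ψ.symm.toLinearEquiv (LinearEquiv.refl O Mz)).trans
      (TensorProduct.quotTensorEquivQuotSMul Mz (baseIdeal f (f.fiberι y w)))
  refine ⟨?_, ?_⟩
  · rw [h1, h2]
    exact Depth.idealDepth_congr ee
  · rw [Module.supportDim_eq_of_equiv e, ← supportDim_eq_of_surjective (S := O) hσ]
    exact Module.supportDim_eq_of_equiv ee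

variable {U : Y.Opens} {V : X.Opens} (hV : IsAffineOpen V) (hU : IsAffineOpen U) (e : V ≤ f ⁻¹ᵁ U)

theorem comap_primeIdealOf (z : X) (hz : z ∈ V) :
    (hV.primeIdealOf ⟨z, hz⟩).asIdeal.comap (f.appLE U V e).hom = (hU.primeIdealOf ⟨f z, e hz⟩).asIdeal := by
  let q := (hV.primeIdealOf ⟨z, hz⟩).asIdeal
  letI : Algebra Γ(X, V) (X.presheaf.stalk z) := (X.presheaf.germ V z hz).hom.toAlgebra
  haveI : IsLocalization.AtPrime (X.presheaf.stalk z) q := hV.isLocalization_stalk ⟨z, hz⟩
  letI : Algebra Γ(Y, U) (Y.presheaf.stalk (f z)) := (Y.presheaf.germ U (f z) (e hz)).hom.toAlgebra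
  let p₀ := (hU.primeIdealOf ⟨f z, e hz⟩).asIdeal
  haveI : IsLocalization.AtPrime (Y.presheaf.stalk (f z)) p₀ := hU.isLocalization_stalk ⟨f z, e hz⟩
  have hcomp : (f.stalkMap z).hom.comp (Y.presheaf.germ U (f z) (e hz)).hom =
      (X.presheaf.germ V z hz).hom.comp (f.appLE U V e).hom :=
    RingHom.ext fun r => germ_appLE_stalkMap f e z hz r
  show q.comap _ = p₀
  rw [show q = (maximalIdeal (X.presheaf.stalk z)).comap (algebraMap Γ(X, V) _) from
      (IsLocalization.AtPrime.comap_maximalIdeal (X.presheaf.stalk z) q).symm,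
    show p₀ = (maximalIdeal (Y.presheaf.stalk (f z))).comap (algebraMap Γ(Y, U) _) from
      (IsLocalization.AtPrime.comap_maximalIdeal (Y.presheaf.stalk (f z)) p₀).symm,
    ← IsLocalRing.maximalIdeal_comap (f.stalkMap z).hom, Ideal.comap_comap]
  exact ((Ideal.comap_comap _ _).trans (congrArg (fun φ => Ideal.comap φ _) hcomp)).symm

variable {P : Type u} [CommRing P] [Algebra Γ(Y, U) P]

/-- The chart prime of a point in a presentation. -/
def chartPrime (φ : P →+* Γ(X, V)) (z : X) (hz : z ∈ V) : PrimeSpectrum P :=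
  PrimeSpectrum.comap φ (hV.primeIdealOf ⟨z, hz⟩)

theorem chartPrime_comap (φ : P →+* Γ(X, V)) (hφ : φ.comp (algebraMap Γ(Y, U) P) = (f.appLE U V e).hom)
    (z : X) (hz : z ∈ V) :
    (chartPrime hV φ z hz).asIdeal.comap (algebraMap Γ(Y, U) P) = (hU.primeIdealOf ⟨f z, e hz⟩).asIdeal := by
  rw [chartPrime, PrimeSpectrum.comap_asIdeal, Ideal.comap_comap, hφ]
  exact comap_primeIdealOf f hV hU e z hz

include hU in
/-- Depth over the fibre local ring of a presentation, for any module localising to a module over the stalk. -/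
theorem inv_quot_localized (N : Type u) [AddCommGroup N] [Module Γ(X, V) N]
    (φ : P →+* Γ(X, V)) (hφs : Function.Surjective φ)
    (hφ : φ.comp (algebraMap Γ(Y, U) P) = (f.appLE U V e).hom)
    [Module P N] (hsmul : ∀ (r : P) (s : N), r • s = φ r • s) [Module.Finite P N]
    (z : X) (hz : z ∈ V) (Mz : Type u) [AddCommGroup Mz] [Module (X.presheaf.stalk z) Mz] [Module Γ(X, V) Mz]
    (hMz : ∀ (b : Γ(X, V)) (m : Mz), b • m = X.presheaf.germ V z hz b • m)
    (gl : N →ₗ[Γ(X, V)] Mz) [IsLocalizedModule (hV.primeIdealOf ⟨z, hz⟩).asIdeal.primeCompl gl]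
    [IsNoetherianRing (EGA4.FibLocRing Γ(Y, U) P (chartPrime hV φ z hz).asIdeal)] :
    LocCoh.depth (X.presheaf.stalk z)
        (Mz ⧸ baseIdeal f z • (⊤ : Submodule (X.presheaf.stalk z) (Mz))) =
      fdepth Γ(Y, U) N (chartPrime hV φ z hz) ∧
    Module.supportDim (X.presheaf.stalk z)
        (Mz ⧸ baseIdeal f z • (⊤ : Submodule (X.presheaf.stalk z) (Mz))) =
      fsupp Γ(Y, U) N (chartPrime hV φ z hz) := by
  let q := chartPrime hV φ z hz
  let qB := (hV.primeIdealOf ⟨z, hz⟩).asIdeal
  let A := Γ(Y, U)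
  let O := X.presheaf.stalk z
  let g : P →+* O := (X.presheaf.germ V z hz).hom.comp φ
  letI : Algebra Γ(X, V) O := (X.presheaf.germ V z hz).hom.toAlgebra
  haveI : IsLocalization.AtPrime O qB := hV.isLocalization_stalk ⟨z, hz⟩
  let S := Localization.AtPrime q.asIdeal
  have hunit : ∀ s : q.asIdeal.primeCompl, IsUnit (g s) := fun s =>
    IsLocalization.map_units O (⟨φ s, s.2⟩ : qB.primeCompl)
  let τ : S →+* O := IsLocalization.lift (M := q.asIdeal.primeCompl) hunit
  have hτ : ∀ r, τ (algebraMap P S r) = g r := fun r => IsLocalization.lift_eq hunit r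
  have hτs : Function.Surjective τ := by
    intro o
    obtain ⟨b, ⟨c, hc⟩, rfl⟩ := IsLocalization.exists_mk'_eq qB.primeCompl o
    obtain ⟨b, rfl⟩ := hφs b
    obtain ⟨c, rfl⟩ := hφs c
    refine ⟨IsLocalization.mk' S b (⟨c, hc⟩ : q.asIdeal.primeCompl), ?_⟩
    rw [IsLocalization.lift_mk'_spec]
    show g b = g c * _
    rw [mul_comm]
    exact (IsLocalization.mk'_spec O (φ b) (⟨φ c, hc⟩ : qB.primeCompl)).symm
  letI : Algebra S O := τ.toAlgebra
  letI : Module S Mz := Module.compHom Mz τ
  haveI : IsScalarTower S O Mz := .of_algebraMap_smul fun _ _ => rfl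
  letI : Module P Mz := Module.compHom Mz g
  haveI : IsScalarTower P S Mz := .of_algebraMap_smul fun r m => by
    show τ (algebraMap P S r) • m = g r • m
    rw [hτ]
  let gm : N →ₗ[P] Mz :=
    { toFun := gl
      map_add' := map_add _
      map_smul' := fun r s => by
        rw [hsmul]
        exact (map_smul gl (φ r) s).trans (hMz _ _) }
  haveI : IsLocalizedModule q.asIdeal.primeCompl gm := by
    refine ⟨fun s => ?_, fun y => ?_, fun {a b} hab => ?_⟩
    · rw [Module.End.isUnit_iff]
      have hu := IsLocalizedModule.map_units gl (⟨φ s, s.2⟩ : qB.primeCompl)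
      rw [Module.End.isUnit_iff] at hu
      refine (congrArg Function.Bijective (funext fun m => ?_)).mp hu
      exact hMz _ _
    · obtain ⟨⟨m, ⟨c, hc⟩⟩, hm⟩ := IsLocalizedModule.surj qB.primeCompl gl y
      obtain ⟨c, rfl⟩ := hφs c
      exact ⟨⟨m, ⟨c, hc⟩⟩, (hMz _ _).symm.trans hm⟩
    · obtain ⟨⟨c, hc⟩, hc'⟩ := IsLocalizedModule.exists_of_eq (S := qB.primeCompl) (f := gl) hab
      obtain ⟨c, rfl⟩ := hφs c
      refine ⟨⟨c, hc⟩, ?_⟩
      rw [Submonoid.smul_def, Submonoid.smul_def, hsmul, hsmul]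
      exact hc'
  let eM : LocalizedModule q.asIdeal.primeCompl N ≃ₗ[S] Mz :=
    (IsLocalizedModule.iso q.asIdeal.primeCompl gm).extendScalarsOfIsLocalization q.asIdeal.primeCompl S
  let J : Ideal S := (q.asIdeal.comap (algebraMap A P)).map (algebraMap A S)
  have hJ : J.map τ = baseIdeal f z := by
    letI : Algebra A (Y.presheaf.stalk (f z)) := (Y.presheaf.germ U (f z) (e hz)).hom.toAlgebra
    let p₀ := (hU.primeIdealOf ⟨f z, e hz⟩).asIdeal
    haveI : IsLocalization.AtPrime (Y.presheaf.stalk (f z)) p₀ := hU.isLocalization_stalk ⟨f z, e hz⟩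
    rw [baseIdeal, ← IsLocalization.AtPrime.map_eq_maximalIdeal p₀ (Y.presheaf.stalk (f z))]
    show ((q.asIdeal.comap (algebraMap A P)).map (algebraMap A S)).map τ = _
    rw [chartPrime_comap f hV hU e φ hφ z hz, Ideal.map_map]
    refine Eq.trans (congrArg (fun ψ => Ideal.map ψ p₀) (RingHom.ext fun a => ?_)) (Ideal.map_map _ _).symm
    show τ (algebraMap A S a) = _
    rw [IsScalarTower.algebraMap_apply A P S, hτ]
    show X.presheaf.germ V z hz ((φ.comp (algebraMap A P)) a) = _
    rw [hφ]
    exact (germ_appLE_stalkMap f e z hz a).symm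
  have : Module.Finite S (LocalizedModule q.asIdeal.primeCompl N) :=
    Module.Finite.of_isLocalizedModule q.asIdeal.primeCompl (LocalizedModule.mkLinearMap q.asIdeal.primeCompl N)
  have : Module.Finite S Mz := Module.Finite.equiv eM
  let Q := Mz ⧸ baseIdeal f z • (⊤ : Submodule O Mz)
  haveI := isLocalRing_fibLocRing A q.asIdeal
  have h1 : fdepth A N q = LocCoh.depth S (EGA4.FibLocMod A P q.asIdeal N) :=
    haveI : Module.Finite (EGA4.FibLocRing A P q.asIdeal) (EGA4.FibLocMod A P q.asIdeal N) :=
      Module.Finite.of_restrictScalars_finite S _ _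
    Depth.depth_eq_of_surjective Ideal.Quotient.mk_surjective
  have h2 : LocCoh.depth O Q = LocCoh.depth S Q := by
    have hnO : IsNoetherianRing (O ⧸ baseIdeal f z) :=
      isNoetherianRing_of_surjective (EGA4.FibLocRing A P q.asIdeal) _
        (Ideal.Quotient.lift J ((Ideal.Quotient.mk (baseIdeal f z)).comp τ) fun a ha =>
          Ideal.Quotient.eq_zero_iff_mem.2 (hJ ▸ Ideal.mem_map_of_mem τ ha))
        fun o => by
          obtain ⟨o, rfl⟩ := Ideal.Quotient.mk_surjective o
          obtain ⟨a, rfl⟩ := hτs o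
          exact ⟨Ideal.Quotient.mk J a, rfl⟩
    have hne : Nontrivial (O ⧸ baseIdeal f z) := Ideal.Quotient.nontrivial_iff.2 fun h =>
      (maximalIdeal.isMaximal O).ne_top (top_le_iff.1 (h ▸ (Ideal.map_le_iff_le_comap.2
        (IsLocalRing.maximalIdeal_comap (f.stalkMap z).hom).ge : baseIdeal f z ≤ maximalIdeal O)))
    haveI : IsLocalRing (O ⧸ baseIdeal f z) := EGA4.isLocalRing_quotient _ _
    haveI : Module.Finite S Q := Module.Finite.of_surjective
      ((baseIdeal f z • (⊤ : Submodule O Mz)).mkQ.restrictScalars S) (Submodule.mkQ_surjective _)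
    haveI : Module.Finite (O ⧸ baseIdeal f z) Q := Module.Finite.of_restrictScalars_finite S _ _
    rw [← Depth.depth_eq_of_surjective (R := O) (S := O ⧸ baseIdeal f z) (M := Q) Ideal.Quotient.mk_surjective,
      Depth.depth_eq_of_surjective (R := S) (S := O ⧸ baseIdeal f z) (M := Q)
        (Ideal.Quotient.mk_surjective.comp hτs)]
  have hsub : (J • (⊤ : Submodule S (LocalizedModule q.asIdeal.primeCompl N))).map (eM : _ →ₗ[S] Mz) =
      (baseIdeal f z • (⊤ : Submodule O Mz)).restrictScalars S := by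
    rw [Submodule.map_smul'', Submodule.map_top, LinearEquiv.range, ← hJ]
    exact ((Ideal.smul_restrictScalars J (⊤ : Submodule O Mz)).trans (by rw [Submodule.restrictScalars_top])).symm
  let ee := (Submodule.Quotient.equiv _ _ eM hsub).trans (Submodule.Quotient.restrictScalarsEquiv S _)
  refine ⟨?_, ?_⟩
  · rw [h1, h2]
    exact (Depth.idealDepth_congr ee).symm
  · haveI : Module.Finite O Mz := Module.Finite.of_restrictScalars_finite S _ _
    haveI : Module.Finite S (EGA4.FibLocMod A P q.asIdeal N) := inferInstance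
    haveI : Module.Finite (EGA4.FibLocRing A P q.asIdeal) (EGA4.FibLocMod A P q.asIdeal N) :=
      Module.Finite.of_restrictScalars_finite S _ _
    rw [← supportDim_eq_of_surjective (S := S) (R := O) (M := Q) hτs, fsupp,
      ← supportDim_eq_of_surjective (S := S) (R := EGA4.FibLocRing A P q.asIdeal)
        (M := EGA4.FibLocMod A P q.asIdeal N) Ideal.Quotient.mk_surjective]
    exact (Module.supportDim_eq_of_equiv ee).symm

include hU in
/-- Depth over the fibre local ring of a presentation. -/
theorem inv_quot_stalk (F : X.Modules) [F.IsQuasicoherent]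
    (φ : P →+* Γ(X, V)) (hφs : Function.Surjective φ)
    (hφ : φ.comp (algebraMap Γ(Y, U) P) = (f.appLE U V e).hom)
    [Module P Γ(F, V)] (hsmul : ∀ (r : P) (s : Γ(F, V)), r • s = φ r • s) [Module.Finite P Γ(F, V)]
    (z : X) (hz : z ∈ V)
    [IsNoetherianRing (EGA4.FibLocRing Γ(Y, U) P (chartPrime hV φ z hz).asIdeal)] :
    LocCoh.depth (X.presheaf.stalk z)
        (F.presheaf.stalk z ⧸ baseIdeal f z • (⊤ : Submodule (X.presheaf.stalk z) (F.presheaf.stalk z))) =
      fdepth Γ(Y, U) Γ(F, V) (chartPrime hV φ z hz) ∧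
    Module.supportDim (X.presheaf.stalk z)
        (F.presheaf.stalk z ⧸ baseIdeal f z • (⊤ : Submodule (X.presheaf.stalk z) (F.presheaf.stalk z))) =
      fsupp Γ(Y, U) Γ(F, V) (chartPrime hV φ z hz) := by
  letI := germModule F z hz
  haveI := isLocalizedModule_germₗ F hV z hz
  exact inv_quot_localized f hV hU e Γ(F, V) φ hφs hφ hsmul z hz (F.presheaf.stalk z) (fun _ _ => rfl) (germₗ F z hz)

end Groth.Agent.RectDepth
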