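import Mathlib
import Groth.Agent.RectDepth.Stalk
import Groth.Agent.RelDim.Open

/-!
The local dimension of the fibre of the support of a module, and the openness of bounded codepth on affine space.
-/

set_option autoImplicit false
set_option synthInstance.maxHeartbeats 80000
set_option linter.all false
noncomputable section

universe u

open IsLocalRing TensorProduct AlgebraicGeometry

namespace Groth.Agent.RectDepth

theorem coheight_of_isUpperSet {α : Type*} [Preorder α] {S : Set α} (hS : IsUpperSet S) (x : S) :
    Order.coheight x = Order.coheight x.1 := by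
  refine le_antisymm (Order.coheight_le_coheight_apply_of_strictMono (fun r : S => r.1) (fun _ _ h => h) x) ?_
  rw [← WithBot.coe_le_coe, Order.coheight_eq_krullDim_Ici, Order.coheight_eq_krullDim_Ici]
  exact Order.krullDim_le_of_strictMono
    (fun r : Set.Ici x.1 => (⟨⟨r.1, hS r.2 x.2⟩, r.2⟩ : Set.Ici x)) fun _ _ h => h

theorem ringKrullDim_quotient_eq_coheight {R : Type u} [CommRing R] (q : PrimeSpectrum R) :
    ringKrullDim (R ⧸ q.asIdeal) = (Order.coheight q : WithBot ℕ∞) := by
  rw [ringKrullDim_quotient, Order.coheight_eq_krullDim_Ici]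
  refine Order.krullDim_eq_of_orderIso (OrderIso.setCongr _ _ ?_)
  ext r
  exact Iff.rfl

variable (A : Type u) {P : Type u} [CommRing A] [CommRing P] [Algebra A P]
variable (M : Type u) [AddCommGroup M] [Module P M]

theorem mem_support_localized_iff (q : Ideal P) [q.IsPrime] (r : PrimeSpectrum (Localization.AtPrime q)) :
    r ∈ Module.support (Localization.AtPrime q) (LocalizedModule q.primeCompl M) ↔
      PrimeSpectrum.comap (algebraMap P (Localization.AtPrime q)) r ∈ Module.support P M := by
  let S := Localization.AtPrime q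
  let ι := LocalizedModule.mkLinearMap q.primeCompl M
  have hs : ∀ s : q.primeCompl, algebraMap P S s ∉ r.asIdeal := fun s h =>
    r.2.ne_top (Ideal.eq_top_of_isUnit_mem _ h (IsLocalization.map_units S s))
  rw [Module.mem_support_iff', Module.mem_support_iff']
  constructor
  · rintro ⟨x, hx⟩
    obtain ⟨⟨m, s⟩, hm⟩ := IsLocalizedModule.surj q.primeCompl ι x
    refine ⟨m, fun a ha h => hx (algebraMap P S a * algebraMap P S s)
      (fun hm' => (r.2.mem_or_mem hm').elim ha (hs s)) ?_⟩
    rw [mul_smul, algebraMap_smul, algebraMap_smul, show (s : P) • x = ι m from hm, ← map_smul, h, map_zero]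
  · rintro ⟨m, hm⟩
    refine ⟨ι m, fun a ha h => ?_⟩
    obtain ⟨b, s, rfl⟩ := IsLocalization.exists_mk'_eq q.primeCompl a
    have hb : algebraMap P S b ∉ r.asIdeal := fun hb =>
      ha (by
        rw [IsLocalization.mk'_eq_mul_mk'_one]
        exact r.asIdeal.mul_mem_right _ hb)
    have h0 : b • ι m = 0 := by
      have := congrArg (fun y => algebraMap P S s • y) h
      simp only [smul_zero, smul_smul] at this
      rw [IsLocalization.mk'_spec'] at this
      rwa [algebraMap_smul] at this
    rw [← map_smul, IsLocalizedModule.eq_zero_iff q.primeCompl ι] at h0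
    obtain ⟨t, ht⟩ := h0
    refine hm (t * b) (fun hmem => ?_) (by rw [mul_smul]; exact ht)
    rcases (PrimeSpectrum.comap (algebraMap P S) r).2.mem_or_mem hmem with h' | h'
    · exact hs t h'
    · exact hb h'

/-- The part of the support of a module over a prime of the base. -/
def fibSupp (p : PrimeSpectrum A) : Set (PrimeSpectrum P) :=
  {r | PrimeSpectrum.comap (algebraMap A P) r = p ∧ r ∈ Module.support P M}

variable [Module.Finite P M]

theorem fdim_eq_coheight (q : PrimeSpectrum P) (hq : q ∈ Module.support P M) :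
    fdim A q = (Order.coheight (⟨q, rfl, hq⟩ : fibSupp A M (PrimeSpectrum.comap (algebraMap A P) q)) : WithBot ℕ∞) := by
  let p := PrimeSpectrum.comap (algebraMap A P) q
  let T : Set (PrimeSpectrum P) := PrimeSpectrum.comap (algebraMap A P) ⁻¹' {p}
  let S : Set T := {r | r.1 ∈ Module.support P M}
  have hS : IsUpperSet S := fun a b hab ha => Module.mem_support_mono hab ha
  let ψ : fibSupp A M p ≃o S :=
    { toFun := fun r => ⟨⟨r.1, r.2.1⟩, r.2.2⟩
      invFun := fun r => ⟨r.1.1, r.1.2, r.2⟩
      left_inv := fun r => rfl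
      right_inv := fun r => rfl
      map_rel_iff' := Iff.rfl }
  let E := PrimeSpectrum.preimageOrderIsoFiber A P p
  rw [fdim, ringKrullDim_quotient_eq_coheight, ← Order.coheight_orderIso ψ, coheight_of_isUpperSet hS]
  exact congrArg _ (Order.coheight_orderIso E ⟨q, rfl⟩)

theorem fsupp_eq_height (q : PrimeSpectrum P) (hq : q ∈ Module.support P M) :
    fsupp A M q = (Order.height (⟨q, rfl, hq⟩ : fibSupp A M (PrimeSpectrum.comap (algebraMap A P) q)) : WithBot ℕ∞) := by
  let p := PrimeSpectrum.comap (algebraMap A P) q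
  let S := Localization.AtPrime q.asIdeal
  let I : Ideal S := p.asIdeal.map (algebraMap A S)
  let N := LocalizedModule q.asIdeal.primeCompl M
  haveI : Module.Finite S N :=
    Module.Finite.of_isLocalizedModule q.asIdeal.primeCompl (LocalizedModule.mkLinearMap q.asIdeal.primeCompl M)
  haveI : Module.Finite (EGA4.FibLocRing A P q.asIdeal) (EGA4.FibLocMod A P q.asIdeal M) :=
    Module.Finite.of_restrictScalars_finite S _ _
  rw [fsupp, ← supportDim_eq_of_surjective (S := S) (R := EGA4.FibLocRing A P q.asIdeal)
    (M := EGA4.FibLocMod A P q.asIdeal M) Ideal.Quotient.mk_surjective, Order.height_eq_krullDim_Iic]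
  show Order.krullDim (Module.support S (N ⧸ I • (⊤ : Submodule S N))) = _
  let E := IsLocalization.AtPrime.primeSpectrumOrderIso S q.asIdeal
  have hE : ∀ r, (E r).1 = PrimeSpectrum.comap (algebraMap P S) r := fun r => rfl
  have hmem : ∀ r : PrimeSpectrum S, r ∈ Module.support S (N ⧸ I • (⊤ : Submodule S N)) ↔
      (E r).1 ∈ fibSupp A M p := fun r => by
    rw [Module.support_quotient, Set.mem_inter_iff, mem_support_localized_iff, hE, and_comm]
    refine and_congr ?_ Iff.rfl
    rw [PrimeSpectrum.mem_zeroLocus, SetLike.coe_subset_coe, Ideal.map_le_iff_le_comap,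
      IsScalarTower.algebraMap_eq A P S, ← Ideal.comap_comap]
    constructor
    · intro h
      refine PrimeSpectrum.ext (le_antisymm ?_ h)
      exact Ideal.comap_mono (f := algebraMap A P) (E r).2
    · intro h
      exact (congrArg PrimeSpectrum.asIdeal h).ge
  refine Order.krullDim_eq_of_orderIso
    { toFun := fun r => ⟨⟨(E r.1).1, (hmem r.1).1 r.2⟩, (E r.1).2⟩
      invFun := fun r => ⟨E.symm ⟨r.1.1, r.2⟩, (hmem _).2 (by rw [E.apply_symm_apply]; exact r.1.2)⟩
      left_inv := fun r => Subtype.ext (E.symm_apply_apply r.1)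
      right_inv := fun r => by
        refine Subtype.ext (Subtype.ext ?_)
        show (E (E.symm _)).1 = _
        rw [E.apply_symm_apply]
      map_rel_iff' := fun {a b} => E.le_iff_le }

theorem fsupp_eq_bot (q : PrimeSpectrum P) (hq : q ∉ Module.support P M) : fsupp A M q = ⊥ := by
  rw [Module.notMem_support_iff] at hq
  exact (Module.supportDim_eq_bot_iff_subsingleton _ _).2 (Submodule.mkQ_surjective _).subsingleton

/-- The local dimension of the fibre of the support. -/
theorem fsupp_add_fdim [Algebra.FiniteType A P] (q' : PrimeSpectrum (P ⧸ Module.annihilator P M))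
    (Q : PrimeSpectrum ((q'.asIdeal.under A).Fiber (P ⧸ Module.annihilator P M)))
    (hQ : Q.asIdeal.comap (Algebra.TensorProduct.includeRight.toRingHom) = q'.asIdeal) :
    fsupp A M (PrimeSpectrum.comap (Ideal.Quotient.mk _) q') + fdim A (PrimeSpectrum.comap (Ideal.Quotient.mk _) q') =
      FlatMor.localDim (PrimeSpectrum ((q'.asIdeal.under A).Fiber (P ⧸ Module.annihilator P M))) Q := by
  let J := Module.annihilator P M
  let B' := P ⧸ J
  let q := PrimeSpectrum.comap (Ideal.Quotient.mk J) q'
  let p := PrimeSpectrum.comap (algebraMap A P) q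
  let p' : PrimeSpectrum A := ⟨q'.asIdeal.under A, inferInstance⟩
  have hpp : p = p' := PrimeSpectrum.ext (Ideal.comap_comap _ _)
  let K' := p'.asIdeal.Fiber B'
  let EJ := Ideal.primeSpectrumQuotientOrderIsoZeroLocus J
  have hsupp : Module.support P M = PrimeSpectrum.zeroLocus (J : Set P) := Module.support_eq_zeroLocus ..
  have hq : q ∈ Module.support P M := hsupp ▸ (EJ q').2
  have hEJ : ∀ r, (EJ r).1 = PrimeSpectrum.comap (Ideal.Quotient.mk J) r := fun r => rfl
  have hcomap : ∀ r : PrimeSpectrum B', PrimeSpectrum.comap (algebraMap A P) (EJ r).1 =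
      PrimeSpectrum.comap (algebraMap A B') r := fun r => PrimeSpectrum.ext (Ideal.comap_comap _ _)
  let ψ : (PrimeSpectrum.comap (algebraMap A B') ⁻¹' {p'}) ≃o fibSupp A M p :=
    { toFun := fun r => ⟨(EJ r.1).1, (hcomap r.1).trans (Eq.trans r.2 hpp.symm), hsupp.symm ▸ (EJ r.1).2⟩
      invFun := fun r => ⟨EJ.symm ⟨r.1, hsupp ▸ r.2.2⟩, by
        show PrimeSpectrum.comap _ _ = p'
        rw [← hcomap, EJ.apply_symm_apply]
        exact r.2.1.trans hpp⟩
      left_inv := fun r => Subtype.ext (EJ.symm_apply_apply r.1)
      right_inv := fun r => by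
        refine Subtype.ext ?_
        show (EJ (EJ.symm _)).1 = _
        rw [EJ.apply_symm_apply]
      map_rel_iff' := fun {a b} => EJ.le_iff_le }
  let E := PrimeSpectrum.preimageOrderIsoFiber A B' p'
  have hEQ : ψ (E.symm Q) = ⟨q, rfl, hq⟩ := Subtype.ext
    (congrArg (PrimeSpectrum.comap (Ideal.Quotient.mk J)) (PrimeSpectrum.ext hQ))
  let sf := Spec.map (CommRingCat.ofHom (algebraMap p'.asIdeal.ResidueField K'))
  haveI : LocallyOfFiniteType sf := (HasRingHomProperty.Spec_iff (P := @LocallyOfFiniteType)).2
    (RingHom.finiteType_algebraMap.mpr inferInstance)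
  let Φ := primeSpectrumOrderIsoSpec K'
  rw [fsupp_eq_height A M q hq, fdim_eq_coheight A M q hq, ← WithBot.coe_add, ← hEQ, Order.height_orderIso,
    Order.coheight_orderIso, Order.height_orderIso, Order.coheight_orderIso, ← Order.height_orderIso Φ Q,
    ← Order.coheight_orderIso Φ Q]
  refine Eq.trans ?_ (FieldExtLD.localDim_eq (k := p'.asIdeal.ResidueField) sf (OrderDual.ofDual (Φ Q))).symm
  rw [add_comm]
  rfl

/-- Bounded dimension of the fibre of the support is an open condition. -/
theorem isOpen_fsupp_add_fdim_le [Algebra.FiniteType A P] (a : ℕ) :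
    IsOpen {q : PrimeSpectrum P | fsupp A M q + fdim A q ≤ a} := by
  let J := Module.annihilator P M
  have hemb := PrimeSpectrum.isClosedEmbedding_comap_of_surjective _ _ (Ideal.Quotient.mk_surjective (I := J))
  obtain ⟨O, hO, hOeq⟩ := hemb.isInducing.isOpen_iff.1 (RelDim.isOpen_dimLocus A (P ⧸ J) a)
  have hsupp : Module.support P M = PrimeSpectrum.zeroLocus (J : Set P) := Module.support_eq_zeroLocus ..
  have heq : {q : PrimeSpectrum P | fsupp A M q + fdim A q ≤ a} = (Module.support P M)ᶜ ∪ O := by
    ext q
    rw [Set.mem_union, Set.mem_compl_iff, Set.mem_ofPred_eq]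
    rcases em (q ∈ Module.support P M) with hq | hq
    · simp only [hq, not_true_eq_false, false_or]
      obtain ⟨q', rfl⟩ : q ∈ Set.range (PrimeSpectrum.comap (Ideal.Quotient.mk J)) := by
        rw [range_comap_of_surjective _ _ Ideal.Quotient.mk_surjective, Ideal.mk_ker]
        exact hsupp ▸ hq
      rw [show PrimeSpectrum.comap (Ideal.Quotient.mk J) q' ∈ O ↔ q' ∈ RelDim.dimLocus A (P ⧸ J) a from
        (Set.ext_iff.1 hOeq q')]
      obtain ⟨Q, hQ⟩ := RelDim.exists_fibre_point A (P ⧸ J) q'
      constructor
      · intro h Q' hQ'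
        rw [← fsupp_add_fdim A M q' Q' hQ']
        exact h
      · intro h
        rw [fsupp_add_fdim A M q' Q hQ]
        exact h Q hQ
    · simp only [hq, not_false_eq_true, true_or, iff_true]
      rw [fsupp_eq_bot A M q hq, WithBot.bot_add]
      exact bot_le
  rw [heq]
  exact Module.isClosed_support.isOpen_compl.union hO

variable {n : ℕ}

/-- Bounded codepth of the fibre modules is an open condition. -/
theorem isOpen_fsupp_le_fdepth_add [Algebra.FinitePresentation A P] [Module.Flat A P]
    (e : ∀ q : PrimeSpectrum P, (q.comap (algebraMap A P)).asIdeal.Fiber P ≃ₐ[(q.comap (algebraMap A P)).asIdeal.ResidueField]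
      MvPolynomial (Fin n) (q.comap (algebraMap A P)).asIdeal.ResidueField)
    [Module A M] [IsScalarTower A P M] [Module.Flat A M] [Module.FinitePresentation P M] (k : ℕ) :
    IsOpen {q : PrimeSpectrum P | fsupp A M q ≤ (fdepth A M q : WithBot ℕ∞) + k} := by
  have heq : {q : PrimeSpectrum P | fsupp A M q ≤ (fdepth A M q : WithBot ℕ∞) + k} = (Module.support P M)ᶜ ∪
      ⋃ a : ℕ, {q | fsupp A M q + fdim A q ≤ a} ∩
        {q | ((a - k : ℕ) : WithBot ℕ∞) ≤ (fdepth A M q : WithBot ℕ∞) + fdim A q} := by
    ext q
    simp only [Set.mem_union, Set.mem_compl_iff, Set.mem_ofPred_eq, Set.mem_iUnion, Set.mem_inter_iff]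
    rcases em (q ∈ Module.support P M) with hq | hq
    · obtain ⟨hreg, d, r, hd, hr, -⟩ := regular_and_dim A q (e q)
      obtain ⟨s, hs⟩ : ∃ s : ℕ, fsupp A M q = s := by
        have h1 : fsupp A M q ≤ r := (Module.supportDim_le_ringKrullDim _ _).trans_eq hr
        rw [fsupp_eq_height A M q hq] at h1 ⊢
        generalize Order.height (⟨q, rfl, hq⟩ : fibSupp A M (PrimeSpectrum.comap (algebraMap A P) q)) = c at h1
        induction c using ENat.recTopCoe with
        | top => exact absurd (WithBot.coe_le_coe.1 h1) (by simp)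
        | coe c => exact ⟨c, rfl⟩
      simp only [hq, not_true_eq_false, false_or]
      rw [hs, hd]
      generalize fdepth A M q = t
      induction t using ENat.recTopCoe with
      | top =>
        refine iff_of_true ?_ ⟨s + d, le_of_eq (by push_cast; rfl), ?_⟩
        · exact le_top.trans (le_of_eq rfl)
        · exact le_top.trans (le_of_eq rfl)
      | coe t =>
        constructor
        · intro h
          have : s ≤ t + k := by exact_mod_cast h
          refine ⟨s + d, le_of_eq (by push_cast; rfl), ?_⟩
          have : s + d - k ≤ t + d := by omega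
          exact (Nat.cast_le (α := WithBot ℕ∞)).2 this |>.trans (le_of_eq (by push_cast; rfl))
        · rintro ⟨a, h1, h2⟩
          have h1' : s + d ≤ a := by exact_mod_cast h1
          have h2' : a - k ≤ t + d :=
            (Nat.cast_le (α := WithBot ℕ∞)).1 (h2.trans (le_of_eq (by push_cast; rfl)))
          have : s ≤ t + k := by omega
          exact_mod_cast this
    · simp only [hq, not_false_eq_true, true_or, iff_true]
      rw [fsupp_eq_bot A M q hq]
      exact bot_le
  rw [heq]
  exact Module.isClosed_support.isOpen_compl.union (isOpen_iUnion fun a =>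
    (isOpen_fsupp_add_fdim_le A M a).inter (isOpen_le_fdepth_add A e M _))

end Groth.Agent.RectDepth
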