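import Mathlib
import Groth.Agent.RectDepth.Stalk
import Groth.Agent.RectDepth.Height
import Groth.Agent.FlatOver.Basic
import Groth.Prelude.Def_FlatMod2
import Groth.Agent.RectDepth.Semicont
import Groth.Agent.RectDepth.SupDim

/-!
Upper semicontinuity of the codepth of the restriction to the fibre of a flat module (EGA IV 12.1.1).
-/

set_option autoImplicit false
set_option synthInstance.maxHeartbeats 80000
set_option linter.all false
noncomputable section

universe u

open CategoryTheory Limits AlgebraicGeometry TopologicalSpace TensorProduct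
open Groth.Agent.FlatOver

namespace Groth.Agent.RectDepth

variable {X Y : Scheme.{u}} (f : X ⟶ Y)

/-- The codepth of the fibre stalk of a module is at most `k`. -/
def CodepthLE (F : X.Modules) (k : ℕ) (x : X) : Prop :=
  Module.supportDim ((f.fiber (f x)).presheaf.stalk (f.asFiber x))
      (((Scheme.Modules.pullback (f.fiberι (f x))).obj F).presheaf.stalk (f.asFiber x)) ≤
    (depthAt f F x : WithBot ℕ∞) + k

/-- On a chart with a presentation, the codepth is read in affine space. -/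
theorem codepthLE_iff [LocallyOfFiniteType f] (F : X.Modules) [F.IsQuasicoherent] {U : Y.Opens} {V : X.Opens}
    (hV : IsAffineOpen V) (hU : IsAffineOpen U) (e : V ≤ f ⁻¹ᵁ U) {P : Type u} [CommRing P]
    [Algebra Γ(Y, U) P] [Algebra.FiniteType Γ(Y, U) P] (φ : P →+* Γ(X, V)) (hφs : Function.Surjective φ)
    (hφ : φ.comp (algebraMap Γ(Y, U) P) = (f.appLE U V e).hom)
    [Module P Γ(F, V)] (hsmul : ∀ (r : P) (s : Γ(F, V)), r • s = φ r • s) [Module.Finite P Γ(F, V)]
    (z : X) (hz : z ∈ V)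
    [IsNoetherianRing (EGA4.FibLocRing Γ(Y, U) P (chartPrime hV φ z hz).asIdeal)]
    (k : ℕ) : CodepthLE f F k z ↔ fsupp Γ(Y, U) Γ(F, V) (chartPrime hV φ z hz) ≤
      (fdepth Γ(Y, U) Γ(F, V) (chartPrime hV φ z hz) : WithBot ℕ∞) + k := by
  have hN : IsLocallyNoetherian (f.fiber (f z)) := FlatOverBC.isLocallyNoetherian_fiber f _
  haveI : IsNoetherianRing ((f.fiber (f z)).presheaf.stalk (f.asFiber z)) := inferInstance
  letI := germModule F z hz
  haveI := isLocalizedModule_germₗ F hV z hz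
  haveI : Module.Finite Γ(X, V) Γ(F, V) := by
    letI := φ.toAlgebra
    haveI : IsScalarTower P Γ(X, V) Γ(F, V) := .of_algebraMap_smul fun r s => (hsmul r s).symm
    exact Module.Finite.of_restrictScalars_finite P Γ(X, V) Γ(F, V)
  letI : Algebra Γ(X, V) (X.presheaf.stalk z) := (X.presheaf.germ V z hz).hom.toAlgebra
  haveI : IsLocalization.AtPrime (X.presheaf.stalk z) (hV.primeIdealOf ⟨z, hz⟩).asIdeal := hV.isLocalization_stalk ⟨z, hz⟩
  haveI : IsScalarTower Γ(X, V) (X.presheaf.stalk z) (F.presheaf.stalk z) := .of_algebraMap_smul fun _ _ => rfl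
  haveI : Module.Finite (X.presheaf.stalk z) (F.presheaf.stalk z) :=
    Module.Finite.of_isLocalizedModule (hV.primeIdealOf ⟨z, hz⟩).asIdeal.primeCompl (germₗ F z hz)
  have h1 := inv_fibreStalk f F (f z) (f.asFiber z) z (Scheme.Hom.fiberι_asFiber f z)
  have h2 := inv_quot_stalk f hV hU e F φ hφs hφ hsmul z hz
  rw [CodepthLE, depthAt, h1.1, h1.2, h2.1, h2.2]

/-- The codepth of the fibres of a flat module of finite presentation is upper semicontinuous. -/
theorem isOpen_codepthLE [LocallyOfFinitePresentation f] (F : X.Modules) (hF : CohB1.IsFP F)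
    (hflat : FlatMod.IsFlatOver f F) (k : ℕ) : IsOpen {x : X | CodepthLE f F k x} := by
  haveI := isQuasicoherent_of_isFP hF
  rw [isOpen_iff_forall_mem_open]
  intro x hx
  obtain ⟨U, hU, hxU, -⟩ := exists_isAffineOpen_mem_and_subset (x := f x) (U := ⊤) trivial
  obtain ⟨V, hV, hxV, e⟩ := exists_isAffineOpen_mem_and_subset (x := x) (U := f ⁻¹ᵁ U) hxU
  letI : Algebra Γ(Y, U) Γ(X, V) := (f.appLE U V e).hom.toAlgebra
  haveI : Algebra.FinitePresentation Γ(Y, U) Γ(X, V) := Scheme.Hom.finitePresentation_appLE f hU hV e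
  obtain ⟨d, φ, hφs, hker⟩ := Algebra.FinitePresentation.out (R := Γ(Y, U)) (A := Γ(X, V))
  let P := MvPolynomial (Fin d) Γ(Y, U)
  letI : Algebra P Γ(X, V) := φ.toRingHom.toAlgebra
  haveI : IsScalarTower Γ(Y, U) P Γ(X, V) := IsScalarTower.of_algebraMap_eq fun a => (φ.commutes a).symm
  letI := baseModule f F e
  haveI : IsScalarTower Γ(Y, U) Γ(X, V) Γ(F, V) := .of_algebraMap_smul fun _ _ ↦ rfl
  letI : Module P Γ(F, V) := Module.compHom Γ(F, V) φ.toRingHom
  haveI : IsScalarTower P Γ(X, V) Γ(F, V) := .of_algebraMap_smul fun _ _ ↦ rfl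
  haveI : IsScalarTower Γ(Y, U) P Γ(F, V) := .of_algebraMap_smul fun a s => by
    show φ (algebraMap Γ(Y, U) P a) • s = _
    rw [φ.commutes]
    exact IsScalarTower.algebraMap_smul Γ(X, V) a s
  haveI : Module.Flat Γ(Y, U) Γ(F, V) := flat_of_isFlatOverAt f F e hV hU fun y _ => hflat y
  haveI : Module.FinitePresentation P Γ(X, V) :=
    Module.finitePresentation_of_surjective (Algebra.linearMap P Γ(X, V)) hφs (by exact hker)
  haveI : Module.FinitePresentation Γ(X, V) Γ(F, V) := FinLocFreeSections.finitePresentation_sections F hF hV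
  haveI : Module.FinitePresentation P Γ(F, V) := Module.FinitePresentation.trans _ Γ(F, V) Γ(X, V)
  let eK : ∀ q : PrimeSpectrum P, (q.comap (algebraMap Γ(Y, U) P)).asIdeal.Fiber P
      ≃ₐ[(q.comap (algebraMap Γ(Y, U) P)).asIdeal.ResidueField]
      MvPolynomial (Fin d) (q.comap (algebraMap Γ(Y, U) P)).asIdeal.ResidueField :=
    fun q => MvPolynomial.algebraTensorAlgEquiv Γ(Y, U) _
  have key : ∀ y (hy : y ∈ V), CodepthLE f F k y ↔
      fsupp Γ(Y, U) Γ(F, V) (chartPrime hV φ.toRingHom y hy) ≤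
        (fdepth Γ(Y, U) Γ(F, V) (chartPrime hV φ.toRingHom y hy) : WithBot ℕ∞) + k := fun y hy => by
    haveI := (regular_and_dim Γ(Y, U) _ (eK (chartPrime hV φ.toRingHom y hy))).1
    exact codepthLE_iff f F hV hU e φ.toRingHom hφs φ.comp_algebraMap (fun _ _ => rfl) y hy k
  let O := PrimeSpectrum.comap φ.toRingHom ⁻¹'
    {q : PrimeSpectrum P | fsupp Γ(Y, U) Γ(F, V) q ≤ (fdepth Γ(Y, U) Γ(F, V) q : WithBot ℕ∞) + k}
  have hO : IsOpen O :=
    (isOpen_fsupp_le_fdepth_add Γ(Y, U) Γ(F, V) eK k).preimage (PrimeSpectrum.continuous_comap φ.toRingHom)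
  refine ⟨hV.fromSpec '' O, ?_, hV.fromSpec.isOpenEmbedding.isOpenMap _ hO, hV.primeIdealOf ⟨x, hxV⟩, ?_,
    hV.fromSpec_primeIdealOf _⟩
  · rintro _ ⟨q, hq, rfl⟩
    have hy : hV.fromSpec q ∈ V := hV.range_fromSpec.le ⟨q, rfl⟩
    refine (key _ hy).2 ?_
    have heq : hV.primeIdealOf ⟨_, hy⟩ = q :=
      hV.fromSpec.isOpenEmbedding.injective (hV.fromSpec_primeIdealOf _)
    simp only [chartPrime, heq]
    exact hq
  · exact (key _ hxV).1 hx

end Groth.Agent.RectDepth
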