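import Mathlib
import Groth.Agent.RectDepth.Codepth

/-!
Codepth zero is the Cohen–Macaulay condition.
-/

set_option autoImplicit false
set_option linter.all false
noncomputable section

universe u

open CategoryTheory Limits AlgebraicGeometry TensorProduct
open Groth.Agent.FlatOver

namespace Groth.Agent.RectDepth

variable {X Y : Scheme.{u}} (f : X ⟶ Y)

theorem finite_stalk_of_isFP {F : X.Modules} (hF : CohB1.IsFP F) (z : X) :
    Module.Finite (X.presheaf.stalk z) (F.presheaf.stalk z) := by
  haveI := isQuasicoherent_of_isFP hF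
  obtain ⟨V, hV, hz, -⟩ := exists_isAffineOpen_mem_and_subset (x := z) (U := ⊤) trivial
  haveI : Module.FinitePresentation Γ(X, V) Γ(F, V) := FinLocFreeSections.finitePresentation_sections F hF hV
  letI := germModule F z hz
  haveI := isLocalizedModule_germₗ F hV z hz
  letI : Algebra Γ(X, V) (X.presheaf.stalk z) := (X.presheaf.germ V z hz).hom.toAlgebra
  haveI : IsLocalization.AtPrime (X.presheaf.stalk z) (hV.primeIdealOf ⟨z, hz⟩).asIdeal := hV.isLocalization_stalk ⟨z, hz⟩
  haveI : IsScalarTower Γ(X, V) (X.presheaf.stalk z) (F.presheaf.stalk z) := .of_algebraMap_smul fun _ _ => rfl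
  exact Module.Finite.of_isLocalizedModule (hV.primeIdealOf ⟨z, hz⟩).asIdeal.primeCompl (germₗ F z hz)

theorem finite_pullback_stalk {F : X.Modules} (hF : CohB1.IsFP F) {Z : Scheme.{u}} (g : Z ⟶ X) (w : Z) :
    Module.Finite (Z.presheaf.stalk w) (((Scheme.Modules.pullback g).obj F).presheaf.stalk w) := by
  letI : Algebra (X.presheaf.stalk (g w)) (Z.presheaf.stalk w) := (g.stalkMap w).hom.toAlgebra
  haveI := finite_stalk_of_isFP hF (g w)
  let e : ((Scheme.Modules.pullback g).obj F).presheaf.stalk w ≃ₗ[Z.presheaf.stalk w]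
      Z.presheaf.stalk w ⊗[X.presheaf.stalk (g w)] F.presheaf.stalk (g w) :=
    ((DCohBridge.stalkPullIso g w).app F).toLinearEquiv
  exact Module.Finite.equiv e.symm

theorem cm_iff_codepth_zero {R M : Type u} [CommRing R] [IsNoetherianRing R] [IsLocalRing R] [AddCommGroup M]
    [Module R M] [Module.Finite R M] :
    (Subsingleton M ∨ LocCoh.IsCohenMacaulayModule R M) ↔
      Module.supportDim R M ≤ (LocCoh.depth R M : WithBot ℕ∞) + (0 : ℕ) := by
  rw [Nat.cast_zero, add_zero]
  constructor
  · rintro (h | h)
    · rw [Module.supportDim_eq_bot_of_subsingleton]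
      exact bot_le
    · exact h.le
  · intro h
    rcases subsingleton_or_nontrivial M with hM | hM
    · exact Or.inl hM
    · exact Or.inr (le_antisymm h Depth.depth_le_supportDim)

theorem cm_fibre_iff [LocallyOfFiniteType f] {F : X.Modules} (hF : CohB1.IsFP F) (y : Y) (w : f.fiber y) :
    (Subsingleton (((Scheme.Modules.pullback (f.fiberι y)).obj F).presheaf.stalk w) ∨
      LocCoh.IsCohenMacaulayModule ((f.fiber y).presheaf.stalk w)
        (((Scheme.Modules.pullback (f.fiberι y)).obj F).presheaf.stalk w)) ↔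
    Module.supportDim ((f.fiber y).presheaf.stalk w) (((Scheme.Modules.pullback (f.fiberι y)).obj F).presheaf.stalk w) ≤
      (LocCoh.depth ((f.fiber y).presheaf.stalk w)
        (((Scheme.Modules.pullback (f.fiberι y)).obj F).presheaf.stalk w) : WithBot ℕ∞) + (0 : ℕ) := by
  have hN : IsLocallyNoetherian (f.fiber y) := FlatOverBC.isLocallyNoetherian_fiber f _
  haveI : IsNoetherianRing ((f.fiber y).presheaf.stalk w) := inferInstance
  haveI := finite_pullback_stalk hF (f.fiberι y) w
  exact cm_iff_codepth_zero

end Groth.Agent.RectDepth
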