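import Mathlib
import Groth.Agent.RectDepth.CM
import Groth.Agent.FlatLocalDepth.Comp

/-!
Codepth of the local ring of the fibre of a flat morphism: openness.
-/

set_option autoImplicit false
set_option synthInstance.maxHeartbeats 80000
set_option linter.all false
noncomputable section

universe u

open CategoryTheory Limits AlgebraicGeometry TopologicalSpace IsLocalRing

namespace Groth.Agent.RectDepth

theorem depth_ringEquiv {R S : Type u} [CommRing R] [CommRing S] [IsNoetherianRing S] [IsLocalRing R]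
    [IsLocalRing S] (e : R ≃+* S) : LocCoh.depth R R = LocCoh.depth S S := by
  letI := e.toRingHom.toAlgebra
  rw [Depth.depth_eq_of_surjective (R := R) (S := S) (M := S) e.surjective]
  exact Depth.depth_congr (LinearEquiv.ofBijective (Algebra.linearMap R S) e.bijective)

variable {X Y : Scheme.{u}} (f : X ⟶ Y)

theorem baseIdeal_le (x : X) : baseIdeal f x ≤ maximalIdeal (X.presheaf.stalk x) :=
  Ideal.map_le_iff_le_comap.2 (IsLocalRing.maximalIdeal_comap (f.stalkMap x).hom).ge

instance isLocalRing_fibreQuot (x : X) : IsLocalRing (X.presheaf.stalk x ⧸ baseIdeal f x) := by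
  have : Nontrivial (X.presheaf.stalk x ⧸ baseIdeal f x) := Ideal.Quotient.nontrivial_iff.2 fun h =>
    (maximalIdeal.isMaximal _).ne_top (top_le_iff.1 (h ▸ baseIdeal_le f x))
  exact EGA4.isLocalRing_quotient _ _

/-- The codepth of the local ring of the fibre, read on the quotient of the stalk, is at most `k`. -/
def RCodepthLE (k : ℕ) (x : X) : Prop :=
  ringKrullDim (X.presheaf.stalk x ⧸ baseIdeal f x) ≤
    (LocCoh.depth (X.presheaf.stalk x ⧸ baseIdeal f x) (X.presheaf.stalk x ⧸ baseIdeal f x) : WithBot ℕ∞) + k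

theorem rCodepthLE_iff [LocallyOfFiniteType f] (k : ℕ) (x : X) :
    RCodepthLE f k x ↔ ringKrullDim ((f.fiber (f x)).presheaf.stalk (f.asFiber x)) ≤
      (LocCoh.depth ((f.fiber (f x)).presheaf.stalk (f.asFiber x)) ((f.fiber (f x)).presheaf.stalk (f.asFiber x)) : WithBot ℕ∞) + k := by
  obtain ⟨e⟩ := FlatLocalDepth.nonempty_asFiber_stalk_equiv f x
  have hN : IsLocallyNoetherian (f.fiber (f x)) := FlatOverBC.isLocallyNoetherian_fiber f _
  have := FlatLocalDepth.isNoetherianRing_fibre_quotient f x hN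
  haveI : IsNoetherianRing (X.presheaf.stalk x ⧸ baseIdeal f x) := this
  haveI : IsNoetherianRing ((f.fiber (f x)).presheaf.stalk (f.asFiber x)) := inferInstance
  let e' : (X.presheaf.stalk x ⧸ baseIdeal f x) ≃+* (f.fiber (f x)).presheaf.stalk (f.asFiber x) := e
  rw [RCodepthLE, ringKrullDim_eq_of_ringEquiv e', depth_ringEquiv e']

/-- The codepth of the local rings of the fibres of a flat morphism is upper semicontinuous. -/
theorem isOpen_rCodepthLE [Flat f] [LocallyOfFinitePresentation f] (k : ℕ) :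
    IsOpen {x : X | RCodepthLE f k x} := by
  rw [isOpen_iff_forall_mem_open]
  intro x hx
  obtain ⟨U, hU, hxU, -⟩ := exists_isAffineOpen_mem_and_subset (x := f x) (U := ⊤) trivial
  obtain ⟨V, hV, hxV, e⟩ := exists_isAffineOpen_mem_and_subset (x := x) (U := f ⁻¹ᵁ U) hxU
  letI : Algebra Γ(Y, U) Γ(X, V) := (f.appLE U V e).hom.toAlgebra
  haveI : Algebra.FinitePresentation Γ(Y, U) Γ(X, V) := Scheme.Hom.finitePresentation_appLE f hU hV e
  haveI : Module.Flat Γ(Y, U) Γ(X, V) := RingHom.flat_algebraMap_iff.1 (f.flat_appLE hU hV e)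
  obtain ⟨d, φ, hφs, hker⟩ := Algebra.FinitePresentation.out (R := Γ(Y, U)) (A := Γ(X, V))
  let P := MvPolynomial (Fin d) Γ(Y, U)
  letI : Algebra P Γ(X, V) := φ.toRingHom.toAlgebra
  haveI : IsScalarTower Γ(Y, U) P Γ(X, V) := IsScalarTower.of_algebraMap_eq fun a => (φ.commutes a).symm
  haveI : Module.FinitePresentation P Γ(X, V) :=
    Module.finitePresentation_of_surjective (Algebra.linearMap P Γ(X, V)) hφs (by exact hker)
  let eK : ∀ q : PrimeSpectrum P, (q.comap (algebraMap Γ(Y, U) P)).asIdeal.Fiber P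
      ≃ₐ[(q.comap (algebraMap Γ(Y, U) P)).asIdeal.ResidueField]
      MvPolynomial (Fin d) (q.comap (algebraMap Γ(Y, U) P)).asIdeal.ResidueField :=
    fun q => MvPolynomial.algebraTensorAlgEquiv Γ(Y, U) _
  have key : ∀ y (hy : y ∈ V), RCodepthLE f k y ↔
      fsupp Γ(Y, U) Γ(X, V) (chartPrime hV φ.toRingHom y hy) ≤
        (fdepth Γ(Y, U) Γ(X, V) (chartPrime hV φ.toRingHom y hy) : WithBot ℕ∞) + k := fun y hy => by
    haveI := (regular_and_dim Γ(Y, U) _ (eK (chartPrime hV φ.toRingHom y hy))).1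
    let O := X.presheaf.stalk y
    let J := baseIdeal f y
    letI : Algebra Γ(X, V) O := (X.presheaf.germ V y hy).hom.toAlgebra
    haveI : IsLocalization.AtPrime O (hV.primeIdealOf ⟨y, hy⟩).asIdeal := hV.isLocalization_stalk ⟨y, hy⟩
    have h := inv_quot_localized f hV hU e Γ(X, V) φ.toRingHom hφs φ.comp_algebraMap (fun _ _ => rfl) y hy O
      (fun _ _ => rfl) (Algebra.linearMap Γ(X, V) O)
    have hN : IsLocallyNoetherian (f.fiber (f y)) := FlatOverBC.isLocallyNoetherian_fiber f _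
    haveI : IsNoetherianRing (O ⧸ J) := FlatLocalDepth.isNoetherianRing_fibre_quotient f y hN
    let E : (O ⧸ J • (⊤ : Submodule O O)) ≃ₗ[O] O ⧸ J := Submodule.quotEquivOfEq _ _ (by simp)
    rw [RCodepthLE, Depth.depth_eq_of_surjective (R := O) (S := O ⧸ J) (M := O ⧸ J) Ideal.Quotient.mk_surjective,
      ← Depth.depth_congr E, h.1, ← Module.supportDim_quotient_eq_ringKrullDim, ← Module.supportDim_eq_of_equiv E,
      h.2]
  let W := PrimeSpectrum.comap φ.toRingHom ⁻¹'
    {q : PrimeSpectrum P | fsupp Γ(Y, U) Γ(X, V) q ≤ (fdepth Γ(Y, U) Γ(X, V) q : WithBot ℕ∞) + k}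
  have hW : IsOpen W :=
    (isOpen_fsupp_le_fdepth_add Γ(Y, U) Γ(X, V) eK k).preimage (PrimeSpectrum.continuous_comap φ.toRingHom)
  refine ⟨hV.fromSpec '' W, ?_, hV.fromSpec.isOpenEmbedding.isOpenMap _ hW, hV.primeIdealOf ⟨x, hxV⟩, ?_,
    hV.fromSpec_primeIdealOf _⟩
  · rintro _ ⟨q, hq, rfl⟩
    have hy : hV.fromSpec q ∈ V := hV.range_fromSpec.le ⟨q, rfl⟩
    refine (key _ hy).2 ?_
    have heq : hV.primeIdealOf ⟨_, hy⟩ = q :=
      hV.fromSpec.isOpenEmbedding.injective (hV.fromSpec_primeIdealOf _)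
    simp only [chartPrime, heq]
    exact hq
  · exact (key _ hxV).1 hx

end Groth.Agent.RectDepth
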