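import Groth.Agent.RectDepth.FibreBC
import Groth.Agent.RectDepth.RingCodepth
import Groth.Agent.FlatOverBC.CMScheme

/-!
The codepth of the fibre at a point: base change and restriction to an open.
-/

set_option autoImplicit false
set_option linter.all false
set_option backward.isDefEq.respectTransparency.types false
noncomputable section

namespace Groth.Agent.RectDepth

open CategoryTheory Limits AlgebraicGeometry IsLocalRing TensorProduct Groth.Agent.FlatOverBC

universe u

variable {X S X' S' : Scheme.{u}} {f : X ⟶ S} {f' : X' ⟶ S'} {g' : X' ⟶ X} {g : S' ⟶ S}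

/-- The codepth of the local ring of the fibre is exactly `n`. -/
def RCodepthEQ (f : X ⟶ S) (n : ℕ) (x : X) : Prop :=
  ringKrullDim (X.presheaf.stalk x ⧸ baseIdeal f x) =
    (LocCoh.depth (X.presheaf.stalk x ⧸ baseIdeal f x) (X.presheaf.stalk x ⧸ baseIdeal f x) : WithBot ℕ∞) + n

theorem rCodepthEQ_iff (f : X ⟶ S) [LocallyOfFiniteType f] (n : ℕ) (x : X) :
    RCodepthEQ f n x ↔ ringKrullDim ((f.fiber (f x)).presheaf.stalk (f.asFiber x)) =
      (LocCoh.depth ((f.fiber (f x)).presheaf.stalk (f.asFiber x)) ((f.fiber (f x)).presheaf.stalk (f.asFiber x)) : WithBot ℕ∞) + n := by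
  obtain ⟨e⟩ := FlatLocalDepth.nonempty_asFiber_stalk_equiv f x
  have hN : IsLocallyNoetherian (f.fiber (f x)) := FlatOverBC.isLocallyNoetherian_fiber f _
  haveI : IsNoetherianRing ((f.fiber (f x)).presheaf.stalk (f.asFiber x)) := inferInstance
  let e' : (X.presheaf.stalk x ⧸ baseIdeal f x) ≃+* (f.fiber (f x)).presheaf.stalk (f.asFiber x) := e
  rw [RCodepthEQ, ringKrullDim_eq_of_ringEquiv e', depth_ringEquiv e']

theorem exists_ringEquiv_comp {V : Scheme.{u}} (j : V ⟶ X) (f : X ⟶ S) [IsOpenImmersion j] (v : V) :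
    Nonempty ((X.presheaf.stalk (j v) ⧸ baseIdeal f (j v)) ≃+* (V.presheaf.stalk v ⧸ baseIdeal (j ≫ f) v)) := by
  let e := (asIso (j.stalkMap v)).commRingCatIsoToRingEquiv
  have hI : baseIdeal (j ≫ f) v = (baseIdeal f (j v)).map e.toRingHom := by
    rw [baseIdeal, baseIdeal, Ideal.map_map, Scheme.Hom.stalkMap_comp]
    rfl
  exact ⟨Ideal.quotientEquiv _ _ e hI⟩

theorem rCodepthEQ_comp_iff {V : Scheme.{u}} (j : V ⟶ X) (f : X ⟶ S) [IsOpenImmersion j] [LocallyOfFiniteType f]
    (v : V) (n : ℕ) : RCodepthEQ (j ≫ f) n v ↔ RCodepthEQ f n (j v) := by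
  obtain ⟨e⟩ := exists_ringEquiv_comp j f v
  haveI : IsNoetherianRing (V.presheaf.stalk v ⧸ baseIdeal (j ≫ f) v) :=
    FlatLocalDepth.isNoetherianRing_fibre_quotient (j ≫ f) v (FlatOverBC.isLocallyNoetherian_fiber _ _)
  rw [RCodepthEQ, RCodepthEQ, ringKrullDim_eq_of_ringEquiv e, depth_ringEquiv e]

theorem rCodepthLE_comp_iff {V : Scheme.{u}} (j : V ⟶ X) (f : X ⟶ S) [IsOpenImmersion j] [LocallyOfFiniteType f]
    (v : V) (n : ℕ) : RCodepthLE (j ≫ f) n v ↔ RCodepthLE f n (j v) := by
  obtain ⟨e⟩ := exists_ringEquiv_comp j f v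
  haveI : IsNoetherianRing (V.presheaf.stalk v ⧸ baseIdeal (j ≫ f) v) :=
    FlatLocalDepth.isNoetherianRing_fibre_quotient (j ≫ f) v (FlatOverBC.isLocallyNoetherian_fiber _ _)
  rw [RCodepthLE, RCodepthLE, ringKrullDim_eq_of_ringEquiv e, depth_ringEquiv e]

/-- The codepth of the fibre at a point is insensitive to base change. -/
theorem rCodepthEQ_baseChange_iff [LocallyOfFiniteType f] [LocallyOfFiniteType f'] (hc : IsPullback g' f' f g) (x' : X') (n : ℕ) :
    RCodepthEQ f' n x' ↔ RCodepthEQ f n (g' x') := by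
  have hN := FlatOverBC.isLocallyNoetherian_fiber f (f (g' x'))
  have hNC := FlatLocalDepth.isNoetherianRing_fibre_quotient f' x' (FlatOverBC.isLocallyNoetherian_fiber f' _)
  have hfg : LocallyOfFiniteType f ∨ LocallyOfFiniteType g := Or.inl inferInstance
  have h2 : g (f' x') = f (g' x') := by
    rw [← Scheme.Hom.comp_apply, ← hc.w, Scheme.Hom.comp_apply]
  obtain ⟨ψ, hψ, hψs, hA, hB⟩ := exists_tensor_localization hc x' (f (g' x')) rfl h2
  let O := S.presheaf.stalk (f (g' x'))
  let A := X.presheaf.stalk (g' x')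
  let B := S'.presheaf.stalk (f' x')
  let φA : O ⟶ A :=
    (S.presheaf.stalkCongr (.of_eq (rfl : f (g' x') = _))).inv ≫ f.stalkMap (g' x')
  let φB : O ⟶ B := (S.presheaf.stalkCongr (.of_eq h2)).inv ≫ g.stalkMap (f' x')
  letI : Algebra O A := φA.hom.toAlgebra
  letI : Algebra O B := φB.hom.toAlgebra
  haveI : IsLocalHom (algebraMap O A) := inferInstanceAs (IsLocalHom φA.hom)
  haveI : IsLocalHom (algebraMap O B) := inferInstanceAs (IsLocalHom φB.hom)
  have hI : (maximalIdeal O).map (algebraMap O A) =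
      (maximalIdeal O).map (f.stalkMap (g' x')).hom := by
    show (maximalIdeal O).map φA.hom = _
    rw [show φA = f.stalkMap (g' x') from stalkCongr_inv_eq _]
  have hNA : IsNoetherianRing (A ⧸ (maximalIdeal O).map (algebraMap O A)) := by
    rw [hI]
    exact FlatLocalDepth.isNoetherianRing_fibre_quotient f (g' x') hN
  have hfg' : Algebra.EssFiniteType (ResidueField O) (ResidueField A) ∨
      Algebra.EssFiniteType (ResidueField O) (ResidueField B) := by
    rcases hfg with hf | hg
    · haveI : Algebra.EssFiniteType O A :=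
        RingHom.EssFiniteType.respectsIso.2 (f.stalkMap (g' x')).hom
          (S.presheaf.stalkCongr (.of_eq (rfl : f (g' x') = _))).commRingCatIsoToRingEquiv.symm
          (LocallyOfFiniteType.stalkMap f (g' x'))
      exact Or.inl (essFiniteType_residueField O A)
    · haveI : Algebra.EssFiniteType O B :=
        RingHom.EssFiniteType.respectsIso.2 (g.stalkMap (f' x')).hom
          (S.presheaf.stalkCongr (.of_eq h2)).commRingCatIsoToRingEquiv.symm
          (LocallyOfFiniteType.stalkMap g (f' x'))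
      exact Or.inr (essFiniteType_residueField O B)
  haveI : IsLocalRing (A ⧸ (maximalIdeal O).map (algebraMap O A)) := by
    rw [hI]; exact isLocalRing_fibreQuot f (g' x')
  haveI : IsLocalRing (X'.presheaf.stalk x' ⧸ (maximalIdeal (S'.presheaf.stalk (f' x'))).map (f'.stalkMap x').hom) :=
    isLocalRing_fibreQuot f' x'
  refine (codepth_fibre_iff ψ hψ hψs (g'.stalkMap x').hom (f'.stalkMap x').hom hA hB hNA hNC hfg' n).trans ?_
  have hiff : ∀ I J : Ideal A, I = J → ∀ [IsLocalRing (A ⧸ I)] [IsLocalRing (A ⧸ J)],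
      ((ringKrullDim (A ⧸ I) = (LocCoh.depth (A ⧸ I) (A ⧸ I) : WithBot ℕ∞) + n) ↔
        (ringKrullDim (A ⧸ J) = (LocCoh.depth (A ⧸ J) (A ⧸ J) : WithBot ℕ∞) + n)) := fun I J h => by subst h; intros; rfl
  exact @hiff _ _ hI _ (isLocalRing_fibreQuot f (g' x'))

end Groth.Agent.RectDepth
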