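import Mathlib

/-!
Conditions on all the points of a fibre of a closed map.
-/

set_option autoImplicit false
set_option linter.all false

universe u

open CategoryTheory AlgebraicGeometry

namespace Groth.Agent.RectDepth

variable {X Y : Scheme.{u}} (f : X ⟶ Y)

theorem forall_fiber_iff (P : ∀ y : Y, ↥(f.fiber y) → Prop) (y : Y) :
    (∀ w, P y w) ↔ ∀ x : X, f x = y → P (f x) (f.asFiber x) := by
  refine ⟨fun h x hx => ?_, fun h w => ?_⟩
  · subst hx
    exact h _
  · have hy : f (f.fiberι y w) = y := (Scheme.Hom.range_fiberι f y).le ⟨w, rfl⟩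
    have h1 := h _ hy
    revert h1
    generalize hx : f.fiberι y w = x at hy
    subst hy
    have : w = f.asFiber x :=
      (f.fiberι (f x)).isEmbedding.injective (hx.trans (Scheme.Hom.fiberι_asFiber f x).symm)
    rw [this]
    exact id

/-- Openness of a fibrewise condition for a closed map. -/
theorem isOpen_forall_fiber (hf : IsClosedMap f) (P : ∀ y : Y, ↥(f.fiber y) → Prop)
    (h : IsOpen {x : X | P (f x) (f.asFiber x)}) : IsOpen {y : Y | ∀ w, P y w} := by
  have : {y : Y | ∀ w, P y w} = (f '' {x : X | P (f x) (f.asFiber x)}ᶜ)ᶜ := by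
    ext y
    simp only [Set.mem_ofPred_eq, forall_fiber_iff f P y, Set.mem_compl_iff, Set.mem_image, not_exists, not_and]
    exact ⟨fun h x hx hxy => hx (h x hxy), fun h x hxy => by_contra fun hx => h x hx hxy⟩
  rw [this]
  exact (hf _ h.isClosed_compl).isOpen_compl

end Groth.Agent.RectDepth
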