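import Mathlib
import Groth.Agent.RectDepth.RingCodepth
import Groth.Agent.RectDepth.Proper
import Groth.Agent.Depth.CM

/-!
Serre's condition `(S_k)` of the local ring of a fibre, read on the generizations of the point in its fibre.
-/

set_option autoImplicit false
set_option synthInstance.maxHeartbeats 80000
set_option linter.all false
noncomputable section

universe u

open CategoryTheory AlgebraicGeometry IsLocalRing

namespace Groth.Agent.RectDepth

/-- The defining inequality of `(S_k)` for a local ring. -/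
def SkIneq (k : ℕ) (R : Type u) [CommRing R] [IsLocalRing R] : Prop :=
  min (k : WithBot ℕ∞) (ringKrullDim R) ≤ (LocCoh.depth R R : WithBot ℕ∞)

theorem skIneq_ringEquiv {k : ℕ} {R S : Type u} [CommRing R] [CommRing S] [IsNoetherianRing S] [IsLocalRing R]
    [IsLocalRing S] (e : R ≃+* S) : SkIneq k R ↔ SkIneq k S := by
  rw [SkIneq, SkIneq, ringKrullDim_eq_of_ringEquiv e, depth_ringEquiv e]

theorem hasSk_iff (k : ℕ) (R : Type u) [CommRing R] [IsNoetherianRing R] :
    LocCoh.HasSk k R R ↔ ∀ (p : Ideal R) [p.IsPrime], SkIneq k (Localization.AtPrime p) := by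
  refine forall_congr' fun p => forall_congr' fun hp => ?_
  rw [Depth.supportDim_localizedSelf, Depth.depth_congr (Depth.localizedSelfEquiv p.primeCompl), SkIneq,
    IsLocalization.AtPrime.ringKrullDim_eq_height p (Localization.AtPrime p)]

/-- Primes of a stalk correspond to generizations, with the same local rings. -/
theorem forall_generization_iff {Z : Scheme.{u}} [IsLocallyNoetherian Z] (x : Z) (k : ℕ) :
    LocCoh.HasSk k (Z.presheaf.stalk x) (Z.presheaf.stalk x) ↔
      ∀ y : Z, y ⤳ x → SkIneq k (Z.presheaf.stalk y) := by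
  obtain ⟨V, hV, hx, -⟩ := exists_isAffineOpen_mem_and_subset (x := x) (U := ⊤) trivial
  rw [hasSk_iff]
  let q := hV.primeIdealOf ⟨x, hx⟩
  letI : Algebra Γ(Z, V) (Z.presheaf.stalk x) := (Z.presheaf.germ V x hx).hom.toAlgebra
  haveI : IsLocalization.AtPrime (Z.presheaf.stalk x) q.asIdeal := hV.isLocalization_stalk ⟨x, hx⟩
  let E := IsLocalization.AtPrime.primeSpectrumOrderIso (Z.presheaf.stalk x) q.asIdeal
  have main : ∀ (p : PrimeSpectrum (Z.presheaf.stalk x)) (y : Z) (hy : y ∈ V), hV.primeIdealOf ⟨y, hy⟩ = (E p).1 →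
      (SkIneq k (Localization.AtPrime p.asIdeal) ↔ SkIneq k (Z.presheaf.stalk y)) := by
    intro p y hy h
    letI : Algebra Γ(Z, V) (Z.presheaf.stalk y) := (Z.presheaf.germ V y hy).hom.toAlgebra
    haveI : IsLocalization.AtPrime (Z.presheaf.stalk y) (hV.primeIdealOf ⟨y, hy⟩).asIdeal := hV.isLocalization_stalk ⟨y, hy⟩
    have h' : (hV.primeIdealOf ⟨y, hy⟩).asIdeal = p.asIdeal.comap (algebraMap Γ(Z, V) (Z.presheaf.stalk x)) :=
      congrArg PrimeSpectrum.asIdeal h
    haveI : IsLocalization.AtPrime (Z.presheaf.stalk y) (p.asIdeal.comap (algebraMap Γ(Z, V) (Z.presheaf.stalk x))) := by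
      have aux : ∀ (I J : Ideal Γ(Z, V)) [I.IsPrime] [J.IsPrime], I = J → IsLocalization.AtPrime (Z.presheaf.stalk y) I →
          IsLocalization.AtPrime (Z.presheaf.stalk y) J := fun I J _ _ e hh => by subst e; exact hh
      exact aux _ _ h' (hV.isLocalization_stalk ⟨y, hy⟩)
    haveI := IsLocalization.isLocalization_isLocalization_atPrime_isLocalization q.asIdeal.primeCompl
      (Localization.AtPrime p.asIdeal) p.asIdeal
    exact skIneq_ringEquiv (IsLocalization.algEquiv (p.asIdeal.comap (algebraMap Γ(Z, V) (Z.presheaf.stalk x))).primeCompl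
      (Localization.AtPrime p.asIdeal) (Z.presheaf.stalk y)).toRingEquiv
  constructor
  · intro h y hy
    have hyV : y ∈ V := hy.mem_open V.2 hx
    have hle : hV.primeIdealOf ⟨y, hyV⟩ ≤ q := by
      rw [PrimeSpectrum.le_iff_specializes]
      refine hV.fromSpec.isOpenEmbedding.isInducing.specializes_iff.1 ?_
      exact (hV.fromSpec_primeIdealOf ⟨y, hyV⟩).symm ▸ (hV.fromSpec_primeIdealOf ⟨x, hx⟩).symm ▸ hy
    exact (main (E.symm ⟨_, hle⟩) y hyV (by rw [E.apply_symm_apply])).1 (h (E.symm ⟨_, hle⟩).asIdeal)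
  · intro h p hp
    let r := (E ⟨p, hp⟩).1
    have hyV : hV.fromSpec r ∈ V := hV.range_fromSpec.le ⟨r, rfl⟩
    have hr : hV.primeIdealOf ⟨_, hyV⟩ = r := hV.fromSpec.isOpenEmbedding.injective (hV.fromSpec_primeIdealOf _)
    refine (main ⟨p, hp⟩ _ hyV hr).2 (h _ ?_)
    exact (((PrimeSpectrum.le_iff_specializes _ _).1 (E ⟨p, hp⟩).2).map hV.fromSpec.continuous).trans
      (specializes_of_eq (hV.fromSpec_primeIdealOf ⟨x, hx⟩))

variable {X Y : Scheme.{u}} (f : X ⟶ Y)

/-- `(S_k)` inequality at a point of a fibre, read on the quotient of the stalk. -/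
def FibIneq (k : ℕ) (z : X) : Prop := SkIneq k (X.presheaf.stalk z ⧸ baseIdeal f z)

theorem fibIneq_iff [LocallyOfFiniteType f] (k : ℕ) (z : X) :
    FibIneq f k z ↔ SkIneq k ((f.fiber (f z)).presheaf.stalk (f.asFiber z)) := by
  obtain ⟨e⟩ := FlatLocalDepth.nonempty_asFiber_stalk_equiv f z
  have hN : IsLocallyNoetherian (f.fiber (f z)) := FlatOverBC.isLocallyNoetherian_fiber f _
  haveI : IsNoetherianRing ((f.fiber (f z)).presheaf.stalk (f.asFiber z)) := inferInstance
  exact skIneq_ringEquiv (R := X.presheaf.stalk z ⧸ baseIdeal f z) e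

/-- `(S_k)` of the local ring of a fibre is a condition on the generizations in the fibre. -/
theorem hasSk_fibre_iff [LocallyOfFiniteType f] (k : ℕ) (x : X) :
    LocCoh.HasSk k ((f.fiber (f x)).presheaf.stalk (f.asFiber x)) ((f.fiber (f x)).presheaf.stalk (f.asFiber x)) ↔
      ∀ z : X, z ⤳ x → f z = f x → FibIneq f k z := by
  haveI : IsLocallyNoetherian (f.fiber (f x)) := FlatOverBC.isLocallyNoetherian_fiber f _
  rw [forall_generization_iff]
  have h := forall_fiber_iff f (fun y w => f.fiberι y w ⤳ x → SkIneq k ((f.fiber y).presheaf.stalk w)) (f x)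
  have hs : ∀ w : f.fiber (f x), w ⤳ f.asFiber x ↔ f.fiberι (f x) w ⤳ x := fun w => by
    rw [← (f.fiberι (f x)).isEmbedding.isInducing.specializes_iff, Scheme.Hom.fiberι_asFiber]
  simp only [hs]
  rw [h]
  simp only [Scheme.Hom.fiberι_asFiber, fibIneq_iff]
  exact ⟨fun h z hz hfz => h z hfz hz, fun h z hfz hz => h z hz hfz⟩

end Groth.Agent.RectDepth
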