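import Mathlib
import Groth.Agent.RectDepth.SkPoint
import Groth.Agent.RectDepth.CodepthBC

/-!
`(S_k)` of the fibres and restriction to an open.
-/

set_option autoImplicit false
set_option linter.all false
noncomputable section

universe u

open CategoryTheory AlgebraicGeometry IsLocalRing

namespace Groth.Agent.RectDepth

variable {X S : Scheme.{u}}

theorem fibIneq_comp_iff {V : Scheme.{u}} (j : V ⟶ X) (f : X ⟶ S) [IsOpenImmersion j] [LocallyOfFiniteType f]
    (v : V) (k : ℕ) : FibIneq (j ≫ f) k v ↔ FibIneq f k (j v) := by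
  obtain ⟨e⟩ := exists_ringEquiv_comp j f v
  haveI : IsNoetherianRing (V.presheaf.stalk v ⧸ baseIdeal (j ≫ f) v) :=
    FlatLocalDepth.isNoetherianRing_fibre_quotient (j ≫ f) v (FlatOverBC.isLocallyNoetherian_fiber _ _)
  exact (skIneq_ringEquiv e).symm

theorem hasSk_fibre_comp_iff {V : Scheme.{u}} (j : V ⟶ X) (f : X ⟶ S) [IsOpenImmersion j] [LocallyOfFiniteType f]
    (v : V) (k : ℕ) :
    LocCoh.HasSk k (((j ≫ f).fiber ((j ≫ f) v)).presheaf.stalk ((j ≫ f).asFiber v))
        (((j ≫ f).fiber ((j ≫ f) v)).presheaf.stalk ((j ≫ f).asFiber v)) ↔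
      LocCoh.HasSk k ((f.fiber (f (j v))).presheaf.stalk (f.asFiber (j v))) ((f.fiber (f (j v))).presheaf.stalk (f.asFiber (j v))) := by
  rw [hasSk_fibre_iff, hasSk_fibre_iff]
  constructor
  · intro h z hz hfz
    obtain ⟨w, rfl⟩ : z ∈ Set.range j := hz.mem_open j.isOpenEmbedding.isOpen_range ⟨v, rfl⟩
    exact (fibIneq_comp_iff j f w k).1 (h w (j.isOpenEmbedding.isInducing.specializes_iff.1 hz) hfz)
  · intro h w hw hfw
    exact (fibIneq_comp_iff j f w k).2 (h (j w) (hw.map j.continuous) hfw)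

end Groth.Agent.RectDepth
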