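import Mathlib
import Groth.Agent.RectDepth.SkPoint
import Groth.Agent.RectDepth.CodepthBC
import Groth.Agent.FibreDimChart.Bound
import Groth.Agent.FibreDimChart.Mono

/-!
Openness of the `(S_k)` locus of the fibres of a flat morphism (EGA IV 12.1.6, for the structure sheaf).
-/

set_option autoImplicit false
set_option synthInstance.maxHeartbeats 80000
set_option linter.all false
noncomputable section

universe u

open CategoryTheory Limits AlgebraicGeometry TopologicalSpace IsLocalRing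

namespace Groth.Agent.RectDepth

variable {X Y : Scheme.{u}} (f : X ⟶ Y)

/-- The rectified depth of the local ring of the fibre. -/
def rdepthRing (x : X) : WithBot ℕ∞ :=
  (LocCoh.depth (X.presheaf.stalk x ⧸ baseIdeal f x) (X.presheaf.stalk x ⧸ baseIdeal f x) : WithBot ℕ∞) +
    (Order.height (f.asFiber x) : WithBot ℕ∞)

/-- The rectified depth of the local rings of the fibres of a flat morphism is lower semicontinuous. -/
theorem isOpen_le_rdepthRing [Flat f] [LocallyOfFinitePresentation f] (m : ℕ) :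
    IsOpen {x : X | (m : WithBot ℕ∞) ≤ rdepthRing f x} := by
  rw [isOpen_iff_forall_mem_open]
  intro x hx
  obtain ⟨U, hU, hxU, -⟩ := exists_isAffineOpen_mem_and_subset (x := f x) (U := ⊤) trivial
  obtain ⟨V, hV, hxV, e⟩ := exists_isAffineOpen_mem_and_subset (x := x) (U := f ⁻¹ᵁ U) hxU
  letI : Algebra Γ(Y, U) Γ(X, V) := (f.appLE U V e).hom.toAlgebra
  haveI : Algebra.FinitePresentation Γ(Y, U) Γ(X, V) := Scheme.Hom.finitePresentation_appLE f hU hV e
  haveI : Module.Flat Γ(Y, U) Γ(X, V) := RingHom.flat_algebraMap_iff.1 (f.flat_appLE hU hV e)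
  obtain ⟨d, φ, hφs, hker⟩ := Algebra.FinitePresentation.out (R := Γ(Y, U)) (A := Γ(X, V))
  let P := MvPolynomial (Fin d) Γ(Y, U)
  letI : Algebra P Γ(X, V) := φ.toRingHom.toAlgebra
  haveI : IsScalarTower Γ(Y, U) P Γ(X, V) := IsScalarTower.of_algebraMap_eq fun a => (φ.commutes a).symm
  haveI : Module.FinitePresentation P Γ(X, V) :=
    Module.finitePresentation_of_surjective (Algebra.linearMap P Γ(X, V)) hφs (by exact hker)
  let eK : ∀ q : PrimeSpectrum P, (q.comap (algebraMap Γ(Y, U) P)).asIdeal.Fiber P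
      ≃ₐ[(q.comap (algebraMap Γ(Y, U) P)).asIdeal.ResidueField]
      MvPolynomial (Fin d) (q.comap (algebraMap Γ(Y, U) P)).asIdeal.ResidueField :=
    fun q => MvPolynomial.algebraTensorAlgEquiv Γ(Y, U) _
  have key : ∀ y (hy : y ∈ V), rdepthRing f y =
      (fdepth Γ(Y, U) Γ(X, V) (chartPrime hV φ.toRingHom y hy) : WithBot ℕ∞) +
        fdim Γ(Y, U) (chartPrime hV φ.toRingHom y hy) := fun y hy => by
    haveI := (regular_and_dim Γ(Y, U) _ (eK (chartPrime hV φ.toRingHom y hy))).1
    let O := X.presheaf.stalk y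
    let J := baseIdeal f y
    letI : Algebra Γ(X, V) O := (X.presheaf.germ V y hy).hom.toAlgebra
    haveI : IsLocalization.AtPrime O (hV.primeIdealOf ⟨y, hy⟩).asIdeal := hV.isLocalization_stalk ⟨y, hy⟩
    have h := inv_quot_localized f hV hU e Γ(X, V) φ.toRingHom hφs φ.comp_algebraMap (fun _ _ => rfl) y hy O
      (fun _ _ => rfl) (Algebra.linearMap Γ(X, V) O)
    have hN : IsLocallyNoetherian (f.fiber (f y)) := FlatOverBC.isLocallyNoetherian_fiber f _
    haveI : IsNoetherianRing (O ⧸ J) := FlatLocalDepth.isNoetherianRing_fibre_quotient f y hN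
    let E : (O ⧸ J • (⊤ : Submodule O O)) ≃ₗ[O] O ⧸ J := Submodule.quotEquivOfEq _ _ (by simp)
    rw [rdepthRing, Depth.depth_eq_of_surjective (R := O) (S := O ⧸ J) (M := O ⧸ J) Ideal.Quotient.mk_surjective,
      ← Depth.depth_congr E, h.1,
      height_eq_fdim f hV hU e φ.toRingHom hφs φ.comp_algebraMap (f y) (f.asFiber y) y (Scheme.Hom.fiberι_asFiber f y) hy]
    rfl
  let W := PrimeSpectrum.comap φ.toRingHom ⁻¹'
    {q : PrimeSpectrum P | (m : WithBot ℕ∞) ≤ (fdepth Γ(Y, U) Γ(X, V) q : WithBot ℕ∞) + fdim Γ(Y, U) q}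
  have hW : IsOpen W :=
    (isOpen_le_fdepth_add Γ(Y, U) eK Γ(X, V) m).preimage (PrimeSpectrum.continuous_comap φ.toRingHom)
  refine ⟨hV.fromSpec '' W, ?_, hV.fromSpec.isOpenEmbedding.isOpenMap _ hW, hV.primeIdealOf ⟨x, hxV⟩, ?_,
    hV.fromSpec_primeIdealOf _⟩
  · rintro _ ⟨q, hq, rfl⟩
    have hy : hV.fromSpec q ∈ V := hV.range_fromSpec.le ⟨q, rfl⟩
    show _ ≤ rdepthRing f _
    rw [key _ hy]
    have heq : hV.primeIdealOf ⟨_, hy⟩ = q :=
      hV.fromSpec.isOpenEmbedding.injective (hV.fromSpec_primeIdealOf _)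
    simp only [chartPrime, heq]
    exact hq
  · have h := hx
    rw [Set.mem_ofPred_eq, key _ hxV] at h
    exact h

/-- Heights in fibres are not changed by an immersion of the source. -/
theorem height_asFiber_comp [LocallyOfFiniteType f] {Z : Scheme.{u}} (j : Z ⟶ X) [IsImmersion j] (z : Z) :
    Order.height ((j ≫ f).asFiber z) = Order.height (f.asFiber (j z)) := by
  let y := f (j z)
  let t := Y.fromSpecResidueField y
  have hwj : (pullback.fst (j ≫ f) t ≫ j) ≫ f = pullback.snd (j ≫ f) t ≫ t := by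
    rw [Category.assoc]; exact pullback.condition
  let j' : pullback (j ≫ f) t ⟶ pullback f t := pullback.lift (pullback.fst _ t ≫ j) (pullback.snd _ t) hwj
  have Hj : IsPullback (pullback.fst (j ≫ f) t) j' j (pullback.fst f t) :=
    IsPullback.of_bot (v₂₁ := pullback.snd f t) (v₂₂ := f) (h₃₁ := t)
      (by rw [show j' ≫ pullback.snd f t = pullback.snd _ t from pullback.lift_snd _ _ _]
          exact IsPullback.of_hasPullback _ t)
      (pullback.lift_fst _ _ _).symm (IsPullback.of_hasPullback f t)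
  have : IsImmersion j' := MorphismProperty.of_isPullback Hj inferInstance
  have hz : j' ((j ≫ f).asFiber z) = f.asFiber (j z) := by
    refine (f.fiberι y).isEmbedding.injective ?_
    have h1 := congr($(Hj.w) ((j ≫ f).asFiber z))
    rw [Scheme.Hom.comp_apply, Scheme.Hom.comp_apply] at h1
    refine h1.symm.trans ?_
    rw [Scheme.Hom.fiberι_asFiber]
    exact congrArg j (Scheme.Hom.fiberι_asFiber (j ≫ f) z)
  rw [← hz]
  exact (@DimTheory.height_immersion (Y.residueField y) _ (pullback f t) (pullback (j ≫ f) t)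
    (pullback.snd f t) (locallyOfFiniteType_fiber f y) j' this ((j ≫ f).asFiber z)).symm

/-- The finite invariants of the local ring of a fibre. -/
theorem exists_invariants [LocallyOfFiniteType f] (z : X) :
    ∃ t d h : ℕ, LocCoh.depth (X.presheaf.stalk z ⧸ baseIdeal f z) (X.presheaf.stalk z ⧸ baseIdeal f z) = (t : ℕ∞) ∧
      ringKrullDim (X.presheaf.stalk z ⧸ baseIdeal f z) = (d : WithBot ℕ∞) ∧ Order.height (f.asFiber z) = (h : ℕ∞) ∧
      rdepthRing f z = ((t + h : ℕ) : WithBot ℕ∞) ∧ t ≤ d ∧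
      (∀ k, RCodepthLE f k z ↔ d ≤ t + k) ∧ (∀ k, FibIneq f k z ↔ min k d ≤ t) := by
  haveI : IsNoetherianRing (X.presheaf.stalk z ⧸ baseIdeal f z) :=
    FlatLocalDepth.isNoetherianRing_fibre_quotient f z (FlatOverBC.isLocallyNoetherian_fiber f _)
  obtain ⟨d, hd⟩ := CAlgReg.exists_dim (R := X.presheaf.stalk z ⧸ baseIdeal f z)
  have hle := Depth.depth_le_ringKrullDim (R := X.presheaf.stalk z ⧸ baseIdeal f z)
    (M := X.presheaf.stalk z ⧸ baseIdeal f z)
  rw [hd] at hle
  obtain ⟨t, ht⟩ := WithTop.ne_top_iff_exists.mp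
    (ne_top_of_le_ne_top (ENat.natCast_ne_top d) (WithBot.coe_le_coe.1 hle))
  have := locallyOfFiniteType_fiber f (f z)
  obtain ⟨h, hh⟩ := ENat.ne_top_iff_exists.1
    (@DimTheory.height_lt_top (Y.residueField (f z)) _ _ (f.fiberToSpecResidueField (f z)) this (f.asFiber z)).ne
  refine ⟨t, d, h, ht.symm, hd, hh.symm, ?_, ?_, fun k => ?_, fun k => ?_⟩
  · rw [rdepthRing, ← ht, ← hh]; push_cast; rfl
  · rw [← ht] at hle; exact Nat.cast_le.1 (WithBot.coe_le_coe.1 hle)
  · rw [RCodepthLE, hd, ← ht]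
    exact (Iff.of_eq (congrArg _ (by push_cast; rfl :
      ((t : ℕ∞) : WithBot ℕ∞) + (k : WithBot ℕ∞) = ((t + k : ℕ) : WithBot ℕ∞)))).trans Nat.cast_le
  · rw [FibIneq, SkIneq, hd, ← ht,
      ← (Nat.mono_cast (α := WithBot ℕ∞)).map_min]
    exact Nat.cast_le (α := WithBot ℕ∞)

/-- The `(S_k)` locus of the fibres of a flat morphism is open. -/
theorem isOpen_fibre_hasSk [Flat f] [LocallyOfFinitePresentation f] (k : ℕ) :
    IsOpen {x : X | LocCoh.HasSk k ((f.fiber (f x)).presheaf.stalk (f.asFiber x))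
      ((f.fiber (f x)).presheaf.stalk (f.asFiber x))} := by
  have hmem : ∀ x, x ∈ {x : X | LocCoh.HasSk k ((f.fiber (f x)).presheaf.stalk (f.asFiber x))
      ((f.fiber (f x)).presheaf.stalk (f.asFiber x))} ↔ ∀ z : X, z ⤳ x → f z = f x → FibIneq f k z :=
    fun x => hasSk_fibre_iff f k x
  let W : ℕ → Closeds X := fun r =>
    ⟨{x | RCodepthLE f 0 x}ᶜ ∩ {x | ((r + 1 : ℕ) : WithBot ℕ∞) ≤ rdepthRing f x}ᶜ,
      (isOpen_rCodepthLE f 0).isClosed_compl.inter (isOpen_le_rdepthRing f _).isClosed_compl⟩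
  let ι : ∀ r, (Scheme.IdealSheafData.vanishingIdeal (W r)).subscheme ⟶ X := fun r =>
    (Scheme.IdealSheafData.vanishingIdeal (W r)).subschemeι
  have hι : ∀ r, Set.range (ι r) = (W r : Set X) := fun r => by
    rw [Scheme.IdealSheafData.range_subschemeι, Scheme.IdealSheafData.coe_support_vanishingIdeal]
  let B : ℕ → Set X := fun r => ι r '' {z | r < k ∨ ¬ FlatMor.fibreDimAt (ι r ≫ f) z ≤ ((r - k : ℕ) : WithBot ℕ∞)}
  have hB : ∀ r, IsClosed (B r) := fun r => by
    refine (ι r).isClosedEmbedding.isClosedMap _ ?_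
    by_cases h : r < k
    · simp [h]
    · simp only [h, false_or]
      exact (FibreDimChart.isOpen_fibreDimAt_le (ι r ≫ f) (r - k)).isClosed_compl
  rw [isOpen_iff_forall_mem_open]
  intro x₀ hx₀
  obtain ⟨D, hD⟩ := FibreDimChart.exists_nat_fibreDimAt_le f x₀
  refine ⟨{x | FlatMor.fibreDimAt f x ≤ D} ∩ ⋂ r ∈ Finset.range (D + k), (B r)ᶜ, ?_,
    (FibreDimChart.isOpen_fibreDimAt_le f D).inter (isOpen_biInter_finset fun r _ => (hB r).isOpen_compl), hD, ?_⟩
  · rintro x ⟨hxD, hxB⟩
    rw [hmem]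
    intro z hzx hfz
    by_contra hbad
    obtain ⟨t, d, h, -, -, hh, hr, htd, hcd, hin⟩ := exists_invariants f z
    rw [hin] at hbad
    have hzW : z ∈ (W (t + h) : Set X) := by
      refine ⟨fun h0 => ?_, fun h1 => ?_⟩
      · have := (hcd 0).1 h0; omega
      · rw [Set.mem_ofPred_eq, hr, Nat.cast_le] at h1; omega
    have hxW : x ∈ (W (t + h) : Set X) := hzx.mem_closed (W (t + h)).isClosed hzW
    obtain ⟨zx, hzx'⟩ := (hι (t + h)).ge hxW
    obtain ⟨zz, hzz⟩ := (hι (t + h)).ge hzW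
    -- the fibre of `x` in `W` has dimension at least `h`
    have hsp : zz ⤳ zx := by
      refine (ι (t + h)).isEmbedding.isInducing.specializes_iff.1 ?_
      rw [hzz, hzx']; exact hzx
    have hf' : (ι (t + h) ≫ f) zz = (ι (t + h) ≫ f) zx := by
      rw [Scheme.Hom.comp_apply, Scheme.Hom.comp_apply, hzz, hzx', hfz]
    have hdim : (h : WithBot ℕ∞) ≤ FlatMor.fibreDimAt (ι (t + h) ≫ f) zx := by
      refine le_trans ?_ (FibreDimChart.fibreDimAt_le_of_specializes _ hsp)
      have := locallyOfFiniteType_fiber (ι (t + h) ≫ f) ((ι (t + h) ≫ f) zz)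
      rw [FlatMor.fibreDimAt, @FieldExtLD.localDim_eq (Y.residueField ((ι (t + h) ≫ f) zz)) _ _
        ((ι (t + h) ≫ f).fiberToSpecResidueField _) this, height_asFiber_comp f (ι (t + h)) zz, hzz, hh]
      exact WithBot.coe_le_coe.2 le_self_add
    have hxDn : h ≤ D := by
      have h1 : (h : WithBot ℕ∞) ≤ FlatMor.fibreDimAt f x := by
        refine le_trans ?_ (FibreDimChart.fibreDimAt_le_of_specializes f hzx)
        have := locallyOfFiniteType_fiber f (f z)
        rw [FlatMor.fibreDimAt, @FieldExtLD.localDim_eq (Y.residueField (f z)) _ _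
          (f.fiberToSpecResidueField _) this, hh]
        exact WithBot.coe_le_coe.2 le_self_add
      exact_mod_cast h1.trans hxD
    have hr' : t + h ∈ Finset.range (D + k) := Finset.mem_range.2 (by omega)
    refine Set.mem_iInter₂.1 hxB _ hr' ⟨zx, ?_, hzx'⟩
    rcases Nat.lt_or_ge (t + h) k with hlt | hge
    · exact Or.inl hlt
    · refine Or.inr fun hle => ?_
      have : h ≤ t + h - k := (Nat.cast_le (α := WithBot ℕ∞)).1 (hdim.trans hle)
      omega
  · refine Set.mem_iInter₂.2 fun r _ => ?_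
    rintro ⟨w, hw, hwx⟩
    let g := ι r ≫ f
    have := locallyOfFiniteType_fiber g (g w)
    obtain ⟨m, hm, -, hmh⟩ := @DimTheory.exists_height_eq_add_coheight (Y.residueField (g w)) _ _
      (g.fiberToSpecResidueField (g w)) this (g.asFiber w)
    let zz := g.fiberι (g w) m
    have hgz : g zz = g w := (Scheme.Hom.range_fiberι g (g w)).le ⟨m, rfl⟩
    have hsp : zz ⤳ w := by
      have h1 := (show m ⤳ g.asFiber w from hm).map (g.fiberι (g w)).continuous
      rwa [Scheme.Hom.fiberι_asFiber] at h1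
    have hheq : ∀ (y : Y) (n : g.fiber y) (z : _) (hz : g.fiberι y n = z),
        Order.height n = Order.height (g.asFiber z) := by
      intro y n z hz
      have hy : g z = y := hz ▸ (Scheme.Hom.range_fiberι g y).le ⟨n, rfl⟩
      subst hy
      rw [(g.fiberι (g z)).isEmbedding.injective (hz.trans (Scheme.Hom.fiberι_asFiber g z).symm)]
    obtain ⟨t, d, h, -, -, hh, hr, htd, hcd, hin⟩ := exists_invariants f (ι r zz)
    have hfd : FlatMor.fibreDimAt g w = (h : WithBot ℕ∞) := by
      rw [FlatMor.fibreDimAt, @FieldExtLD.localDim_eq (Y.residueField (g w)) _ _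
        (g.fiberToSpecResidueField (g w)) this, ← hmh, hheq _ m zz rfl, height_asFiber_comp f (ι r) zz, hh]
      rfl
    have hW : ι r zz ∈ (W r : Set X) := (hι r).le ⟨zz, rfl⟩
    have h1 : ¬ d ≤ t := fun hle => hW.1 ((hcd 0).2 (by omega))
    have h2 : ¬ r + 1 ≤ t + h := fun hle => hW.2 (by
      rw [Set.mem_ofPred_eq, hr, Nat.cast_le]; exact hle)
    have hgood := (hmem x₀).1 hx₀ (ι r zz) (hwx ▸ hsp.map (ι r).continuous) (by
      rw [← hwx, ← Scheme.Hom.comp_apply, ← Scheme.Hom.comp_apply]; exact hgz)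
    rw [hin] at hgood
    rcases hw with hlt | hnle
    · omega
    · have : ¬ h ≤ r - k := fun hle => hnle (by rw [hfd]; exact_mod_cast hle)
      omega

end Groth.Agent.RectDepth
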