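import Mathlib
import Groth.Agent.RectDepth.SkOpen
import Groth.Agent.RectDepth.SkComp
import Groth.Agent.FibreDimChart.BaseChange

/-!
`(S_k)` of the local rings of fibres is insensitive to base change.
-/

set_option autoImplicit false
set_option linter.all false
set_option backward.isDefEq.respectTransparency.types false
noncomputable section

universe u

open CategoryTheory Limits AlgebraicGeometry TopologicalSpace IsLocalRing

namespace Groth.Agent.RectDepth

variable {X S X' S' : Scheme.{u}} (f : X ⟶ S)

theorem height_eq_of_fiberι (y : S) (n : f.fiber y) (z : X) (hz : f.fiberι y n = z) :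
    Order.height n = Order.height (f.asFiber z) := by
  have hy : f z = y := hz ▸ (Scheme.Hom.range_fiberι f y).le ⟨n, rfl⟩
  subst hy
  rw [(f.fiberι (f z)).isEmbedding.injective (hz.trans (Scheme.Hom.fiberι_asFiber f z).symm)]

/-- The local dimension of the fibre splits as dimension of the local ring plus dimension of the closure. -/
theorem fibreDimAt_eq_add [LocallyOfFiniteType f] (z : X) :
    FlatMor.fibreDimAt f z = ringKrullDim (X.presheaf.stalk z ⧸ baseIdeal f z) +
      (Order.height (f.asFiber z) : WithBot ℕ∞) := by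
  obtain ⟨e⟩ := FlatLocalDepth.nonempty_asFiber_stalk_equiv f z
  let e' : (X.presheaf.stalk z ⧸ baseIdeal f z) ≃+* (f.fiber (f z)).presheaf.stalk (f.asFiber z) := e
  rw [ringKrullDim_eq_of_ringEquiv e', ringKrullDim_stalk_eq_coheight, FlatMor.fibreDimAt,
    @FieldExtLD.localDim_eq (S.residueField (f z)) _ _ (f.fiberToSpecResidueField (f z))
      (locallyOfFiniteType_fiber f (f z)) (f.asFiber z), ← WithBot.coe_add, add_comm]

/-- The reduced closure of a point. -/
abbrev closurePt (z : X) : Scheme.{u} :=
  (Scheme.IdealSheafData.vanishingIdeal ⟨closure {z}, isClosed_closure⟩).subscheme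

/-- Its immersion. -/
abbrev closureι (z : X) : closurePt z ⟶ X :=
  (Scheme.IdealSheafData.vanishingIdeal ⟨closure {z}, isClosed_closure⟩).subschemeι

instance isClosedImmersion_closureι (z : X) : IsClosedImmersion (closureι z) :=
  inferInstanceAs (IsClosedImmersion (Scheme.IdealSheafData.vanishingIdeal _).subschemeι)

theorem range_closureι (z : X) : Set.range (closureι z) = closure {z} := by
  rw [closureι, Scheme.IdealSheafData.range_subschemeι, Scheme.IdealSheafData.coe_support_vanishingIdeal]
  rfl

/-- All fibre dimensions of the closure of `z` in the fibre of `z` equal the height of `z` in it. -/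
theorem fibreDimAt_closure [LocallyOfFiniteType f] (z : X) (c : closurePt z) (hc : f (closureι z c) = f z) :
    FlatMor.fibreDimAt (closureι z ≫ f) c = (Order.height (f.asFiber z) : WithBot ℕ∞) := by
  let g := closureι z ≫ f
  obtain ⟨z₀, hz₀⟩ := (range_closureι z).ge (subset_closure rfl)
  have hgen : ∀ a : closurePt z, z₀ ⤳ a := fun a => by
    refine (closureι z).isEmbedding.isInducing.specializes_iff.1 ?_
    rw [hz₀]
    exact specializes_iff_mem_closure.2 ((range_closureι z).le ⟨a, rfl⟩)
  have hlft := locallyOfFiniteType_fiber g (g c)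
  obtain ⟨m, hm, hmax, hmh⟩ := @DimTheory.exists_height_eq_add_coheight (S.residueField (g c)) _ _
    (g.fiberToSpecResidueField (g c)) hlft (g.asFiber c)
  have hgz : g z₀ = g c := by
    show f (closureι z z₀) = f (closureι z c)
    rw [hz₀, hc]
  obtain ⟨w, hw⟩ : ∃ w, g.fiberι (g c) w = z₀ := (Scheme.Hom.range_fiberι g (g c)).ge hgz
  have hwm : w ⤳ m := by
    refine (g.fiberι (g c)).isEmbedding.isInducing.specializes_iff.1 ?_
    rw [hw]; exact hgen _
  have hmw : m ⤳ w := hmax w hwm
  rw [FlatMor.fibreDimAt, @FieldExtLD.localDim_eq (S.residueField (g c)) _ _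
    (g.fiberToSpecResidueField (g c)) hlft (g.asFiber c), ← hmh, ← (hwm.antisymm hmw).eq,
    height_eq_of_fiberι g _ w z₀ hw, height_asFiber_comp f (closureι z) z₀, hz₀]

variable {f} {f' : X' ⟶ S'} {g' : X' ⟶ X} {g : S' ⟶ S}

/-- The square of the closure of a point. -/
theorem isPullback_closure (hc : IsPullback g' f' f g) (z : X) :
    IsPullback (pullback.fst (closureι z) g') (pullback.snd (closureι z) g' ≫ f') (closureι z ≫ f) g :=
  (IsPullback.of_hasPullback (closureι z) g').paste_vert hc

/-- The height of a point in its fibre does not increase under base change. -/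
theorem height_asFiber_le_baseChange [LocallyOfFiniteType f] (hc : IsPullback g' f' f g) (z' : X') :
    Order.height (f'.asFiber z') ≤ Order.height (f.asFiber (g' z')) := by
  have : LocallyOfFiniteType f' := MorphismProperty.of_isPullback hc inferInstance
  obtain ⟨z₀, hz₀⟩ := (range_closureι (g' z')).ge (subset_closure rfl)
  obtain ⟨c', hc1, hc2⟩ := Scheme.exists_preimage_of_isPullback (IsPullback.of_hasPullback (closureι (g' z')) g') z₀ z' hz₀
  have hd := FibreDimChart.fibreDimAt_of_isPullback _ _ _ _ (isPullback_closure hc (g' z')) c'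
  rw [hc1, fibreDimAt_closure f (g' z') z₀ (by rw [hz₀])] at hd
  have hlft := locallyOfFiniteType_fiber (pullback.snd (closureι (g' z')) g' ≫ f')
    ((pullback.snd (closureι (g' z')) g' ≫ f') c')
  rw [FlatMor.fibreDimAt, @FieldExtLD.localDim_eq _ _ _ _ hlft, height_asFiber_comp f', hc2, WithBot.coe_inj] at hd
  exact le_self_add.trans hd.le

/-- Generizations in a fibre lift along a base change, with the same height in the fibre. -/
theorem exists_lift_generization [LocallyOfFiniteType f] (hc : IsPullback g' f' f g) (x' : X') (z : X)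
    (hz : z ⤳ g' x') (hfz : f z = f (g' x')) :
    ∃ z' : X', z' ⤳ x' ∧ f' z' = f' x' ∧ g' z' = z ∧ Order.height (f'.asFiber z') = Order.height (f.asFiber z) := by
  have : LocallyOfFiniteType f' := MorphismProperty.of_isPullback hc inferInstance
  obtain ⟨xC, hxC⟩ := (range_closureι z).ge (specializes_iff_mem_closure.1 hz)
  obtain ⟨c', hc1, hc2⟩ := Scheme.exists_preimage_of_isPullback (IsPullback.of_hasPullback (closureι z) g') xC x' hxC
  let p := pullback.snd (closureι z) g'
  let gg := p ≫ f'
  have hd : FlatMor.fibreDimAt gg c' = (Order.height (f.asFiber z) : WithBot ℕ∞) := by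
    rw [FibreDimChart.fibreDimAt_of_isPullback _ _ _ _ (isPullback_closure hc z) c', hc1,
      fibreDimAt_closure f z xC (by rw [hxC, hfz])]
  have hlft := locallyOfFiniteType_fiber gg (gg c')
  obtain ⟨m, hm, -, hmh⟩ := @DimTheory.exists_height_eq_add_coheight (S'.residueField (gg c')) _ _
    (gg.fiberToSpecResidueField (gg c')) hlft (gg.asFiber c')
  rw [FlatMor.fibreDimAt, @FieldExtLD.localDim_eq _ _ _ _ hlft, WithBot.coe_inj, ← hmh,
    height_eq_of_fiberι gg _ m _ rfl, height_asFiber_comp f'] at hd
  let zz := gg.fiberι (gg c') m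
  have hsp : zz ⤳ c' := by
    have h1 := (show m ⤳ gg.asFiber c' from hm).map (gg.fiberι (gg c')).continuous
    rwa [Scheme.Hom.fiberι_asFiber] at h1
  have hfzz : f' (p zz) = f' x' := by
    rw [← hc2]
    exact (Scheme.Hom.range_fiberι gg (gg c')).le ⟨m, rfl⟩
  have hgz : g' (p zz) = closureι z (pullback.fst (closureι z) g' zz) :=
    congr($(pullback.condition (f := closureι z) (g := g')) zz).symm
  have hzc : z ⤳ g' (p zz) := by
    rw [hgz]; exact specializes_iff_mem_closure.2 ((range_closureι z).le ⟨_, rfl⟩)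
  have hfc : f (g' (p zz)) = f z := by
    rw [hfz]
    exact ((congr($(hc.w) (p zz))).trans (congrArg g hfzz)).trans (congr($(hc.w) x')).symm
  refine ⟨p zz, hc2 ▸ hsp.map p.continuous, hfzz, ?_, hd⟩
  by_contra hne
  have hle := height_asFiber_le_baseChange hc (p zz)
  rw [hd] at hle
  obtain ⟨w, hw⟩ : ∃ w, f.fiberι (f z) w = g' (p zz) := (Scheme.Hom.range_fiberι f (f z)).ge hfc
  have hwz : f.asFiber z ⤳ w := by
    refine (f.fiberι (f z)).isEmbedding.isInducing.specializes_iff.1 ?_
    rw [Scheme.Hom.fiberι_asFiber, hw]; exact hzc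
  have hlt : w < f.asFiber z := lt_of_le_not_ge hwz fun h => hne (by
    rw [← hw, ← ((show w ⤳ f.asFiber z from h).antisymm hwz).eq.symm, Scheme.Hom.fiberι_asFiber])
  have hfin : Order.height w < ⊤ :=
    @DimTheory.height_lt_top (S.residueField (f z)) _ _ (f.fiberToSpecResidueField (f z))
      (locallyOfFiniteType_fiber f (f z)) w
  have := Order.height_strictMono hlt hfin
  rw [height_eq_of_fiberι f _ w _ hw] at this
  exact absurd (hle.trans_lt this) (lt_irrefl _)

/-- The invariants of a point and of a point above it. -/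
theorem exists_invariants_baseChange [LocallyOfFiniteType f] (hc : IsPullback g' f' f g) (z' : X') :
    ∃ t d t' d' h h' : ℕ, (∀ k, FibIneq f k (g' z') ↔ min k d ≤ t) ∧ (∀ k, FibIneq f' k z' ↔ min k d' ≤ t') ∧
      t ≤ d ∧ d + h = d' + h' ∧ d' + t = d + t' ∧ h' ≤ h ∧
      Order.height (f.asFiber (g' z')) = (h : ℕ∞) ∧ Order.height (f'.asFiber z') = (h' : ℕ∞) := by
  have : LocallyOfFiniteType f' := MorphismProperty.of_isPullback hc inferInstance
  obtain ⟨t, d, h, ht, hd, hh, -, hle, -, hin⟩ := exists_invariants f (g' z')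
  obtain ⟨t', d', h', ht', hd', hh', -, hle', -, hin'⟩ := exists_invariants f' z'
  refine ⟨t, d, t', d', h, h', hin, hin', hle, ?_, ?_, ?_, hh, hh'⟩
  · have h1 := FibreDimChart.fibreDimAt_of_isPullback f g g' f' hc z'
    rw [fibreDimAt_eq_add, fibreDimAt_eq_add, hd, hd', hh, hh'] at h1
    have h2 : ((d' + h' : ℕ) : WithBot ℕ∞) = ((d + h : ℕ) : WithBot ℕ∞) := by push_cast; exact h1
    exact (Nat.cast_inj.1 h2).symm
  · have h1 := rCodepthEQ_baseChange_iff hc z' (d - t)
    rw [RCodepthEQ, RCodepthEQ, ht, ht', hd, hd'] at h1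
    have h2 := h1.2 (by conv_lhs => rw [show d = t + (d - t) by omega]
                        push_cast; rfl)
    have h3 : ((d' : ℕ) : WithBot ℕ∞) = ((t' + (d - t) : ℕ) : WithBot ℕ∞) := by push_cast; exact h2
    have := Nat.cast_inj.1 h3
    omega
  · have := height_asFiber_le_baseChange hc z'
    rw [hh, hh'] at this
    exact Nat.cast_le.1 this

/-- `(S_k)` of the local ring of the fibre is insensitive to base change. -/
theorem hasSk_fibre_baseChange_iff [LocallyOfFiniteType f] (hc : IsPullback g' f' f g) (x' : X') (k : ℕ) :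
    LocCoh.HasSk k ((f'.fiber (f' x')).presheaf.stalk (f'.asFiber x')) ((f'.fiber (f' x')).presheaf.stalk (f'.asFiber x')) ↔
      LocCoh.HasSk k ((f.fiber (f (g' x'))).presheaf.stalk (f.asFiber (g' x')))
        ((f.fiber (f (g' x'))).presheaf.stalk (f.asFiber (g' x'))) := by
  have : LocallyOfFiniteType f' := MorphismProperty.of_isPullback hc inferInstance
  rw [hasSk_fibre_iff, hasSk_fibre_iff]
  constructor
  · intro H z hz hfz
    obtain ⟨z', hz', hfz', rfl, hht⟩ := exists_lift_generization hc x' z hz hfz
    obtain ⟨t, d, t', d', h, h', hin, hin', hle, he1, he2, -, hh, hh'⟩ := exists_invariants_baseChange hc z'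
    have hhe : h' = h := by rw [hh, hh'] at hht; exact_mod_cast hht
    have := (hin' k).1 (H z' hz' hfz')
    rw [hin]
    omega
  · intro H z' hz' hfz'
    obtain ⟨t, d, t', d', h, h', hin, hin', hle, he1, he2, hhle, -, -⟩ := exists_invariants_baseChange hc z'
    have hf : f (g' z') = f (g' x') := by
      rw [← Scheme.Hom.comp_apply, ← Scheme.Hom.comp_apply, hc.w, Scheme.Hom.comp_apply, Scheme.Hom.comp_apply, hfz']
    have := (hin k).1 (H (g' z') (hz'.map g'.continuous) hf)
    rw [hin']
    omega

end Groth.Agent.RectDepth
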