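import Mathlib
import Groth.Agent.RectDepth.CM
import Groth.Agent.RectDepth.SkBC

/-!
Openness of the locus where the restriction of a flat module to the fibre satisfies `(S_k)` at every
generization in the fibre.
-/

set_option autoImplicit false
set_option synthInstance.maxHeartbeats 80000
set_option linter.all false
noncomputable section

universe u

open CategoryTheory Limits AlgebraicGeometry TopologicalSpace IsLocalRing

namespace Groth.Agent.RectDepth

variable {X Y : Scheme.{u}} (f : X ⟶ Y)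

/-- `(S_k)` inequality of the fibre stalk of a module. -/
def MIneq (F : X.Modules) (k : ℕ) (z : X) : Prop :=
  min (k : WithBot ℕ∞) (Module.supportDim ((f.fiber (f z)).presheaf.stalk (f.asFiber z))
      (((Scheme.Modules.pullback (f.fiberι (f z))).obj F).presheaf.stalk (f.asFiber z))) ≤
    (depthAt f F z : WithBot ℕ∞)

theorem mIneq_of_subsingleton (F : X.Modules) (k : ℕ) (z : X)
    [Subsingleton (((Scheme.Modules.pullback (f.fiberι (f z))).obj F).presheaf.stalk (f.asFiber z))] :
    MIneq f F k z := by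
  rw [MIneq, Module.supportDim_eq_bot_of_subsingleton]
  exact (min_le_right _ _).trans bot_le

theorem exists_invariants_mod [LocallyOfFiniteType f] {F : X.Modules} (hF : CohB1.IsFP F) (z : X)
    [Nontrivial (((Scheme.Modules.pullback (f.fiberι (f z))).obj F).presheaf.stalk (f.asFiber z))] :
    ∃ t d h : ℕ, Order.height (f.asFiber z) = (h : ℕ∞) ∧
      rdepth f F z = ((t + h : ℕ) : WithBot ℕ∞) ∧ t ≤ d ∧
      (∀ k, CodepthLE f F k z ↔ d ≤ t + k) ∧ (∀ k, MIneq f F k z ↔ min k d ≤ t) ∧
      Module.supportDim ((f.fiber (f z)).presheaf.stalk (f.asFiber z))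
        (((Scheme.Modules.pullback (f.fiberι (f z))).obj F).presheaf.stalk (f.asFiber z)) = (d : WithBot ℕ∞) ∧
      depthAt f F z = (t : ℕ∞) := by
  let R := (f.fiber (f z)).presheaf.stalk (f.asFiber z)
  let M := ((Scheme.Modules.pullback (f.fiberι (f z))).obj F).presheaf.stalk (f.asFiber z)
  have hN : IsLocallyNoetherian (f.fiber (f z)) := FlatOverBC.isLocallyNoetherian_fiber f _
  haveI : IsNoetherianRing R := inferInstance
  haveI : Module.Finite R M := finite_pullback_stalk hF (f.fiberι (f z)) (f.asFiber z)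
  obtain ⟨d', hd'⟩ := CAlgReg.exists_dim (R := R)
  have hle := Depth.depth_le_supportDim (R := R) (M := M)
  obtain ⟨d, hd⟩ : ∃ d : ℕ, Module.supportDim R M = (d : WithBot ℕ∞) := by
    have h1 := (Module.supportDim_le_ringKrullDim R M).trans_eq hd'
    cases h : Module.supportDim R M with
    | bot => exact absurd h (Module.supportDim_ne_bot_of_nontrivial R M)
    | coe c =>
      rw [h] at h1
      induction c using ENat.recTopCoe with
      | top => exact absurd (WithBot.coe_le_coe.1 h1) (by simp)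
      | coe c => exact ⟨c, rfl⟩
  rw [hd] at hle
  obtain ⟨t, ht⟩ := WithTop.ne_top_iff_exists.mp
    (ne_top_of_le_ne_top (ENat.natCast_ne_top d) (WithBot.coe_le_coe.1 hle))
  have := locallyOfFiniteType_fiber f (f z)
  obtain ⟨h, hh⟩ := ENat.ne_top_iff_exists.1
    (@DimTheory.height_lt_top (Y.residueField (f z)) _ _ (f.fiberToSpecResidueField (f z)) this (f.asFiber z)).ne
  have hdep : depthAt f F z = (t : ℕ∞) := ht.symm
  refine ⟨t, d, h, hh.symm, ?_, ?_, fun k => ?_, fun k => ?_, hd, hdep⟩
  · rw [rdepth, hdep, ← hh]; push_cast; rfl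
  · rw [← ht] at hle; exact Nat.cast_le.1 (WithBot.coe_le_coe.1 hle)
  · rw [CodepthLE, hd, hdep]
    exact (Iff.of_eq (congrArg _ (by push_cast; rfl :
      ((t : ℕ∞) : WithBot ℕ∞) + (k : WithBot ℕ∞) = ((t + k : ℕ) : WithBot ℕ∞)))).trans Nat.cast_le
  · rw [MIneq, hd, hdep, ← (Nat.mono_cast (α := WithBot ℕ∞)).map_min]
    exact Nat.cast_le (α := WithBot ℕ∞)

/-- The locus where every generization in the fibre satisfies the `(S_k)` inequality is open. -/
theorem isOpen_forall_mIneq [LocallyOfFinitePresentation f] (F : X.Modules) (hF : CohB1.IsFP F)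
    (hflat : FlatMod.IsFlatOver f F) (k : ℕ) :
    IsOpen {x : X | ∀ z : X, z ⤳ x → f z = f x → MIneq f F k z} := by
  let W : ℕ → Closeds X := fun r =>
    ⟨{x | CodepthLE f F 0 x}ᶜ ∩ {x | ((r + 1 : ℕ) : WithBot ℕ∞) ≤ rdepth f F x}ᶜ,
      (isOpen_codepthLE f F hF hflat 0).isClosed_compl.inter (isOpen_le_rdepth f F hF hflat _).isClosed_compl⟩
  let ι : ∀ r, (Scheme.IdealSheafData.vanishingIdeal (W r)).subscheme ⟶ X := fun r =>
    (Scheme.IdealSheafData.vanishingIdeal (W r)).subschemeι
  have hι : ∀ r, Set.range (ι r) = (W r : Set X) := fun r => by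
    rw [Scheme.IdealSheafData.range_subschemeι, Scheme.IdealSheafData.coe_support_vanishingIdeal]
  let B : ℕ → Set X := fun r => ι r '' {z | r < k ∨ ¬ FlatMor.fibreDimAt (ι r ≫ f) z ≤ ((r - k : ℕ) : WithBot ℕ∞)}
  have hB : ∀ r, IsClosed (B r) := fun r => by
    refine (ι r).isClosedEmbedding.isClosedMap _ ?_
    by_cases h : r < k
    · simp [h]
    · simp only [h, false_or]
      exact (FibreDimChart.isOpen_fibreDimAt_le (ι r ≫ f) (r - k)).isClosed_compl
  have hnt : ∀ z, ¬ CodepthLE f F 0 z →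
      Nontrivial (((Scheme.Modules.pullback (f.fiberι (f z))).obj F).presheaf.stalk (f.asFiber z)) := fun z hz => by
    by_contra hs
    rw [not_nontrivial_iff_subsingleton] at hs
    exact hz (by rw [CodepthLE, Module.supportDim_eq_bot_of_subsingleton]; exact bot_le)
  rw [isOpen_iff_forall_mem_open]
  intro x₀ hx₀
  obtain ⟨D, hD⟩ := FibreDimChart.exists_nat_fibreDimAt_le f x₀
  refine ⟨{x | FlatMor.fibreDimAt f x ≤ D} ∩ ⋂ r ∈ Finset.range (D + k), (B r)ᶜ, ?_,
    (FibreDimChart.isOpen_fibreDimAt_le f D).inter (isOpen_biInter_finset fun r _ => (hB r).isOpen_compl), hD, ?_⟩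
  · rintro x ⟨hxD, hxB⟩ z hzx hfz
    by_contra hbad
    rcases subsingleton_or_nontrivial
      (((Scheme.Modules.pullback (f.fiberι (f z))).obj F).presheaf.stalk (f.asFiber z)) with hs | hs
    · exact hbad (mIneq_of_subsingleton f F k z)
    obtain ⟨t, d, h, hh, hr, htd, hcd, hin, -, -⟩ := exists_invariants_mod f hF z
    rw [hin] at hbad
    have hzW : z ∈ (W (t + h) : Set X) := by
      refine ⟨fun h0 => ?_, fun h1 => ?_⟩
      · have := (hcd 0).1 h0; omega
      · rw [Set.mem_ofPred_eq, hr, Nat.cast_le] at h1; omega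
    have hxW : x ∈ (W (t + h) : Set X) := hzx.mem_closed (W (t + h)).isClosed hzW
    obtain ⟨zx, hzx'⟩ := (hι (t + h)).ge hxW
    obtain ⟨zz, hzz⟩ := (hι (t + h)).ge hzW
    have hsp : zz ⤳ zx := by
      refine (ι (t + h)).isEmbedding.isInducing.specializes_iff.1 ?_
      rw [hzz, hzx']; exact hzx
    have hdim : (h : WithBot ℕ∞) ≤ FlatMor.fibreDimAt (ι (t + h) ≫ f) zx := by
      refine le_trans ?_ (FibreDimChart.fibreDimAt_le_of_specializes _ hsp)
      rw [fibreDimAt_eq_add, height_asFiber_comp f (ι (t + h)) zz, hzz, hh]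
      obtain ⟨t', d', h', -, hd', -⟩ := exists_invariants (ι (t + h) ≫ f) zz
      rw [hd']
      exact_mod_cast (show h ≤ d' + h by omega)
    have hxDn : h ≤ D := by
      have h1 : (h : WithBot ℕ∞) ≤ FlatMor.fibreDimAt f x := by
        refine le_trans ?_ (FibreDimChart.fibreDimAt_le_of_specializes f hzx)
        rw [fibreDimAt_eq_add, hh]
        obtain ⟨t', d', h', -, hd', -⟩ := exists_invariants f z
        rw [hd']
        exact_mod_cast (show h ≤ d' + h by omega)
      exact_mod_cast h1.trans hxD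
    have hr' : t + h ∈ Finset.range (D + k) := Finset.mem_range.2 (by omega)
    refine Set.mem_iInter₂.1 hxB _ hr' ⟨zx, ?_, hzx'⟩
    rcases Nat.lt_or_ge (t + h) k with hlt | hge
    · exact Or.inl hlt
    · refine Or.inr fun hle => ?_
      have : h ≤ t + h - k := (Nat.cast_le (α := WithBot ℕ∞)).1 (hdim.trans hle)
      omega
  · refine Set.mem_iInter₂.2 fun r _ => ?_
    rintro ⟨w, hw, hwx⟩
    let g := ι r ≫ f
    have hlftg := locallyOfFiniteType_fiber g (g w)
    obtain ⟨m, hm, -, hmh⟩ := @DimTheory.exists_height_eq_add_coheight (Y.residueField (g w)) _ _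
      (g.fiberToSpecResidueField (g w)) hlftg (g.asFiber w)
    let zz := g.fiberι (g w) m
    have hgz : g zz = g w := (Scheme.Hom.range_fiberι g (g w)).le ⟨m, rfl⟩
    have hsp : zz ⤳ w := by
      have h1 := (show m ⤳ g.asFiber w from hm).map (g.fiberι (g w)).continuous
      rwa [Scheme.Hom.fiberι_asFiber] at h1
    have hW : ι r zz ∈ (W r : Set X) := (hι r).le ⟨zz, rfl⟩
    haveI := hnt _ hW.1
    obtain ⟨t, d, h, hh, hr, htd, hcd, hin, -, -⟩ := exists_invariants_mod f hF (ι r zz)
    have hfd : FlatMor.fibreDimAt g w = (h : WithBot ℕ∞) := by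
      rw [FlatMor.fibreDimAt, @FieldExtLD.localDim_eq (Y.residueField (g w)) _ _
        (g.fiberToSpecResidueField (g w)) hlftg, ← hmh, height_eq_of_fiberι g _ m zz rfl,
        height_asFiber_comp f (ι r) zz, hh]
      rfl
    have h1 : ¬ d ≤ t := fun hle => hW.1 ((hcd 0).2 (by omega))
    have h2 : ¬ r + 1 ≤ t + h := fun hle => hW.2 (by
      rw [Set.mem_ofPred_eq, hr, Nat.cast_le]; exact hle)
    have hgood := hx₀ (ι r zz) (hwx ▸ hsp.map (ι r).continuous) (by
      rw [← hwx, ← Scheme.Hom.comp_apply, ← Scheme.Hom.comp_apply]; exact hgz)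
    rw [hin] at hgood
    rcases hw with hlt | hnle
    · omega
    · have : ¬ h ≤ r - k := fun hle => hnle (by rw [hfd]; exact_mod_cast hle)
      omega

end Groth.Agent.RectDepth
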