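import Mathlib
import Groth.Agent.RectDepth.ModSk
import Groth.Agent.ModStA.Fib
import Groth.Prelude.Def_FDesc

/-!
Absence of embedded associated points above a point as an `(S₁)` condition on the generizations.
-/

set_option autoImplicit false
set_option synthInstance.maxHeartbeats 80000
set_option linter.all false
noncomputable section

universe u

open CategoryTheory Limits AlgebraicGeometry TopologicalSpace IsLocalRing
open Groth.Agent.FlatOver

namespace Groth.Agent.RectDepth

theorem mem_support_isLocalized_iff {P : Type u} [CommRing P] (q : Ideal P) [q.IsPrime] (S : Type u) [CommRing S]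
    [Algebra P S] [IsLocalization.AtPrime S q] {M N : Type u} [AddCommGroup M] [Module P M] [AddCommGroup N]
    [Module P N] [Module S N] [IsScalarTower P S N] (ι : M →ₗ[P] N) [IsLocalizedModule q.primeCompl ι]
    (r : PrimeSpectrum S) :
    r ∈ Module.support S N ↔ PrimeSpectrum.comap (algebraMap P S) r ∈ Module.support P M := by
  have hs : ∀ s : q.primeCompl, algebraMap P S s ∉ r.asIdeal := fun s h =>
    r.2.ne_top (Ideal.eq_top_of_isUnit_mem _ h (IsLocalization.map_units S s))
  rw [Module.mem_support_iff', Module.mem_support_iff']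
  constructor
  · rintro ⟨x, hx⟩
    obtain ⟨⟨m, s⟩, hm⟩ := IsLocalizedModule.surj q.primeCompl ι x
    refine ⟨m, fun a ha h => hx (algebraMap P S a * algebraMap P S s)
      (fun hm' => (r.2.mem_or_mem hm').elim ha (hs s)) ?_⟩
    rw [mul_smul, algebraMap_smul, algebraMap_smul, show (s : P) • x = ι m from hm, ← map_smul, h, map_zero]
  · rintro ⟨m, hm⟩
    refine ⟨ι m, fun a ha h => ?_⟩
    obtain ⟨b, s, rfl⟩ := IsLocalization.exists_mk'_eq q.primeCompl a
    have hb : algebraMap P S b ∉ r.asIdeal := fun hb =>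
      ha (by
        rw [IsLocalization.mk'_eq_mul_mk'_one]
        exact r.asIdeal.mul_mem_right _ hb)
    have h0 : b • ι m = 0 := by
      have := congrArg (fun y => algebraMap P S s • y) h
      simp only [smul_zero, smul_smul] at this
      rw [IsLocalization.mk'_spec'] at this
      rwa [algebraMap_smul] at this
    rw [← map_smul, IsLocalizedModule.eq_zero_iff q.primeCompl ι] at h0
    obtain ⟨t, ht⟩ := h0
    refine hm (t * b) (fun hmem => ?_) (by rw [mul_smul]; exact ht)
    rcases (PrimeSpectrum.comap (algebraMap P S) r).2.mem_or_mem hmem with h' | h'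
    · exact hs t h'
    · exact hb h'

variable {Z : Scheme.{u}}

/-- Zero-dimensional stalks sit at the points without proper generization in the support. -/
theorem supportDim_le_zero_iff (M : Z.Modules) [M.IsQuasicoherent] (z : Z)
    [Nontrivial (M.presheaf.stalk z)] :
    Module.supportDim (Z.presheaf.stalk z) (M.presheaf.stalk z) ≤ 0 ↔
      ∀ y : Z, y ⤳ z → Nontrivial (M.presheaf.stalk y) → y = z := by
  obtain ⟨V, hV, hz, -⟩ := exists_isAffineOpen_mem_and_subset (x := z) (U := ⊤) trivial
  let q := hV.primeIdealOf ⟨z, hz⟩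
  let R := Z.presheaf.stalk z
  letI : Algebra Γ(Z, V) R := (Z.presheaf.germ V z hz).hom.toAlgebra
  haveI : IsLocalization.AtPrime R q.asIdeal := hV.isLocalization_stalk ⟨z, hz⟩
  let E := IsLocalization.AtPrime.primeSpectrumOrderIso R q.asIdeal
  have hpt : ∀ (y : Z) (hy : y ∈ V), Nontrivial (M.presheaf.stalk y) ↔
      hV.primeIdealOf ⟨y, hy⟩ ∈ Module.support Γ(Z, V) Γ(M, V) := fun y hy => by
    letI := germModule M y hy
    haveI := isLocalizedModule_germₗ M hV y hy
    rw [Module.mem_support_iff]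
    exact (IsLocalizedModule.iso (hV.primeIdealOf ⟨y, hy⟩).asIdeal.primeCompl (germₗ M y hy)).toEquiv.nontrivial_congr.symm
  have hsupp : ∀ r : PrimeSpectrum R, r ∈ Module.support R (M.presheaf.stalk z) ↔
      (E r).1 ∈ Module.support Γ(Z, V) Γ(M, V) := fun r => by
    letI := germModule M z hz
    haveI := isLocalizedModule_germₗ M hV z hz
    haveI : IsScalarTower Γ(Z, V) R (M.presheaf.stalk z) := .of_algebraMap_smul fun _ _ => rfl
    exact mem_support_isLocalized_iff q.asIdeal R (germₗ M z hz) r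
  rw [Module.supportDim, Order.krullDim_nonpos_iff_forall_isMax]
  constructor
  · intro h y hy hnt
    have hyV : y ∈ V := hy.mem_open V.2 hz
    have hle : hV.primeIdealOf ⟨y, hyV⟩ ≤ q := by
      rw [PrimeSpectrum.le_iff_specializes]
      refine hV.fromSpec.isOpenEmbedding.isInducing.specializes_iff.1 ?_
      exact (hV.fromSpec_primeIdealOf ⟨y, hyV⟩).symm ▸ (hV.fromSpec_primeIdealOf ⟨z, hz⟩).symm ▸ hy
    have h1 : E.symm ⟨_, hle⟩ ∈ Module.support R (M.presheaf.stalk z) := by
      rw [hsupp, E.apply_symm_apply]; exact (hpt y hyV).1 hnt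
    have h2 : E.symm ⟨q, le_refl q⟩ ∈ Module.support R (M.presheaf.stalk z) := by
      rw [hsupp, E.apply_symm_apply]; exact (hpt z hz).1 inferInstance
    have h3 : (⟨_, h1⟩ : Module.support R (M.presheaf.stalk z)) ≤ ⟨_, h2⟩ :=
      E.symm.monotone (show (⟨_, hle⟩ : Set.Iic _) ≤ ⟨q, le_refl q⟩ from hle)
    have h5 : q ≤ hV.primeIdealOf ⟨y, hyV⟩ := E.symm.le_iff_le.1 (show E.symm ⟨q, le_refl q⟩ ≤ E.symm ⟨_, hle⟩ from h ⟨_, h1⟩ h3)
    exact (hV.fromSpec_primeIdealOf ⟨y, hyV⟩).symm.trans
      ((congrArg hV.fromSpec (show hV.primeIdealOf ⟨y, hyV⟩ = q from @le_antisymm (PrimeSpectrum Γ(Z, V)) _ _ _ hle h5)).trans (hV.fromSpec_primeIdealOf ⟨z, hz⟩))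
  · intro h a b hab
    have hall : ∀ c : Module.support R (M.presheaf.stalk z), (E c.1).1 = q := fun c => by
      have hyV : hV.fromSpec (E c.1).1 ∈ V := hV.range_fromSpec.le ⟨_, rfl⟩
      have hr : hV.primeIdealOf ⟨_, hyV⟩ = (E c.1).1 := hV.fromSpec.isOpenEmbedding.injective (hV.fromSpec_primeIdealOf _)
      have := h _ ((((PrimeSpectrum.le_iff_specializes _ _).1 (E c.1).2).map hV.fromSpec.continuous).trans
        (specializes_of_eq (hV.fromSpec_primeIdealOf ⟨z, hz⟩))) ((hpt _ hyV).2 (hr.symm ▸ (hsupp c.1).1 c.2))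
      exact hV.fromSpec.isOpenEmbedding.injective (this.trans (hV.fromSpec_primeIdealOf ⟨z, hz⟩).symm)
    have : E b.1 ≤ E a.1 := (show (E b.1).1 ≤ (E a.1).1 from le_of_eq ((hall b).trans (hall a).symm))
    exact E.le_iff_le.1 this

theorem mem_ass_iff_depth [IsLocallyNoetherian Z] (M : Z.Modules) (z : Z)
    [Module.Finite (Z.presheaf.stalk z) (M.presheaf.stalk z)] :
    z ∈ AssSch.Ass M ↔ Nontrivial (M.presheaf.stalk z) ∧
      LocCoh.depth (Z.presheaf.stalk z) (M.presheaf.stalk z) = 0 := by
  show IsAssociatedPrime _ _ ↔ _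
  constructor
  · intro h
    haveI : Nontrivial (M.presheaf.stalk z) := by
      by_contra hs
      rw [not_nontrivial_iff_subsingleton] at hs
      exact not_isAssociatedPrime_of_subsingleton h
    exact ⟨inferInstance, Depth.depth_eq_zero_iff.2 h⟩
  · rintro ⟨hn, h⟩
    exact Depth.depth_eq_zero_iff.1 h

variable {X Y : Scheme.{u}} (f : X ⟶ Y)

/-- No embedded associated point above `x` in the fibre iff `(S₁)` holds at all generizations. -/
theorem noEmbedded_iff_forall_mIneq [LocallyOfFiniteType f] {F : X.Modules} (hF : CohB1.IsFP F) (x : X) :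
    (∀ z ∈ AssSch.Ass ((Scheme.Modules.pullback (f.fiberι (f x))).obj F), f.asFiber x ∈ closure {z} →
      ∀ z' ∈ AssSch.Ass ((Scheme.Modules.pullback (f.fiberι (f x))).obj F), z ∈ closure {z'} → z' = z) ↔
      ∀ z : X, z ⤳ x → f z = f x → MIneq f F 1 z := by
  have hN : IsLocallyNoetherian (f.fiber (f x)) := FlatOverBC.isLocallyNoetherian_fiber f _
  set G := (Scheme.Modules.pullback (f.fiberι (f x))).obj F
  haveI : G.IsQuasicoherent := isQuasicoherent_of_isFP (ModStA.isFP_pullback (f.fiberι (f x)) hF)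
  have hfin : ∀ w : f.fiber (f x), Module.Finite ((f.fiber (f x)).presheaf.stalk w) (G.presheaf.stalk w) :=
    fun w => finite_pullback_stalk hF (f.fiberι (f x)) w
  have hlft := locallyOfFiniteType_fiber f (f x)
  have h1 : (∀ z : X, z ⤳ x → f z = f x → MIneq f F 1 z) ↔ ∀ w : f.fiber (f x), w ⤳ f.asFiber x →
      min (1 : WithBot ℕ∞) (Module.supportDim ((f.fiber (f x)).presheaf.stalk w) (G.presheaf.stalk w)) ≤
        (LocCoh.depth ((f.fiber (f x)).presheaf.stalk w) (G.presheaf.stalk w) : WithBot ℕ∞) := by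
    have h := forall_fiber_iff f (fun y w => f.fiberι y w ⤳ x →
      min (1 : WithBot ℕ∞) (Module.supportDim ((f.fiber y).presheaf.stalk w)
        (((Scheme.Modules.pullback (f.fiberι y)).obj F).presheaf.stalk w)) ≤
        (LocCoh.depth ((f.fiber y).presheaf.stalk w)
          (((Scheme.Modules.pullback (f.fiberι y)).obj F).presheaf.stalk w) : WithBot ℕ∞)) (f x)
    have hs : ∀ w : f.fiber (f x), w ⤳ f.asFiber x ↔ f.fiberι (f x) w ⤳ x := fun w => by
      rw [← (f.fiberι (f x)).isEmbedding.isInducing.specializes_iff, Scheme.Hom.fiberι_asFiber]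
    simp only [hs]
    rw [h]
    simp only [Scheme.Hom.fiberι_asFiber, MIneq, depthAt, Nat.cast_one]
    exact ⟨fun h z hfz hz => h z hz hfz, fun h z hz hfz => h z hfz hz⟩
  rw [h1]
  constructor
  · intro H w hw
    haveI := hfin w
    rcases subsingleton_or_nontrivial (G.presheaf.stalk w) with hs | hs
    · rw [Module.supportDim_eq_bot_of_subsingleton]
      exact (min_le_right _ _).trans bot_le
    by_contra hbad
    have hd0 : LocCoh.depth ((f.fiber (f x)).presheaf.stalk w) (G.presheaf.stalk w) = 0 := by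
      by_contra h0
      exact hbad ((min_le_left _ _).trans (WithBot.coe_le_coe.2 (Order.one_le_iff_pos.2 (pos_iff_ne_zero.2 h0))))
    have hsd : ¬ Module.supportDim ((f.fiber (f x)).presheaf.stalk w) (G.presheaf.stalk w) ≤ 0 := fun h0 => by
      apply hbad
      rw [hd0]
      exact (min_le_right _ _).trans h0
    rw [supportDim_le_zero_iff] at hsd
    push Not at hsd
    obtain ⟨y, hy, hyn, hyne⟩ := hsd
    -- a maximal generization in the support
    let T : Set (f.fiber (f x)) := {v | v ⤳ y ∧ Nontrivial (G.presheaf.stalk v)}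
    have hbdd : ∀ v ∈ T, Order.height v ≤ Order.height y + Order.coheight y := fun v hv =>
      @DimTheory.height_le_height_add_coheight (Y.residueField (f x)) _ _ (f.fiberToSpecResidueField (f x)) hlft y v hv.1
    obtain ⟨N, hN'⟩ : ∃ N : ℕ, Order.height y + Order.coheight y = N :=
      ⟨_, (ENat.natCast_toNat (WithTop.add_ne_top.2
        ⟨(@DimTheory.height_lt_top (Y.residueField (f x)) _ _ (f.fiberToSpecResidueField (f x)) hlft y).ne,
          (@DimTheory.coheight_lt_top (Y.residueField (f x)) _ _ (f.fiberToSpecResidueField (f x)) hlft y).ne⟩)).symm⟩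
    classical
    let P : ℕ → Prop := fun n => ∃ v ∈ T, Order.height v = n
    have hP0 : ∃ n ≤ N, P n := by
      have h := hbdd y ⟨specializes_rfl, hyn⟩
      rw [hN'] at h
      obtain ⟨n, hn⟩ := ENat.ne_top_iff_exists.1 (ne_top_of_le_ne_top (ENat.natCast_ne_top N) h)
      rw [← hn, Nat.cast_le] at h
      exact ⟨n, h, y, ⟨specializes_rfl, hyn⟩, hn.symm⟩
    obtain ⟨n₀, hn₀, hP⟩ := hP0
    obtain ⟨v, hv, hvh⟩ := Nat.findGreatest_spec (P := P) hn₀ hP
    have hvmax : ∀ u : f.fiber (f x), u ⤳ v → Nontrivial (G.presheaf.stalk u) → u = v := by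
      intro u hu hun
      by_contra hne
      have hlt : v < u := lt_of_le_not_ge hu fun h => hne ((hu.antisymm h).eq)
      have hfin := @DimTheory.height_lt_top (Y.residueField (f x)) _ _ (f.fiberToSpecResidueField (f x)) hlft v
      have h1 := Order.height_strictMono hlt hfin
      have h2 := hbdd u ⟨hu.trans hv.1, hun⟩
      rw [hN'] at h2
      obtain ⟨m, hm⟩ := ENat.ne_top_iff_exists.1 (ne_top_of_le_ne_top (ENat.natCast_ne_top N) h2)
      rw [← hm, Nat.cast_le] at h2
      have h3 : m ≤ Nat.findGreatest P N := Nat.le_findGreatest h2 ⟨u, ⟨hu.trans hv.1, hun⟩, hm.symm⟩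
      rw [← hm, hvh, Nat.cast_lt] at h1
      omega
    haveI := hv.2
    haveI := hfin v
    have hv0 : LocCoh.depth ((f.fiber (f x)).presheaf.stalk v) (G.presheaf.stalk v) = 0 := by
      have := (Depth.depth_le_supportDim (R := (f.fiber (f x)).presheaf.stalk v) (M := G.presheaf.stalk v)).trans
        ((supportDim_le_zero_iff G v).2 hvmax)
      exact le_antisymm (WithBot.coe_le_coe.1 this) bot_le
    have := H w ((mem_ass_iff_depth G w).2 ⟨hs, hd0⟩) hw.mem_closure v ((mem_ass_iff_depth G v).2 ⟨hv.2, hv0⟩)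
      (hv.1.trans hy).mem_closure
    subst this
    exact hyne (hy.antisymm hv.1).eq
  · intro H z hz hzx z' hz' hzz'
    haveI := hfin z
    haveI := hfin z'
    obtain ⟨hnz, hdz⟩ := (mem_ass_iff_depth G z).1 hz
    have h := H z (specializes_iff_mem_closure.2 hzx)
    rw [hdz] at h
    have h0 : Module.supportDim ((f.fiber (f x)).presheaf.stalk z) (G.presheaf.stalk z) ≤ 0 := by
      rcases min_le_iff.1 h with h' | h'
      · exact absurd h' (by simp)
      · exact h'
    exact (supportDim_le_zero_iff G z).1 h0 z' (specializes_iff_mem_closure.2 hzz') ((mem_ass_iff_depth G z').1 hz').1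

end Groth.Agent.RectDepth
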