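import Mathlib
import Groth.Agent.RectDepth.Embedded

/-!
Openness of conditions on the dimensions of the associated points of the fibres of a flat module.
-/

set_option autoImplicit false
set_option synthInstance.maxHeartbeats 80000
set_option linter.all false
noncomputable section

universe u

open CategoryTheory Limits AlgebraicGeometry TopologicalSpace IsLocalRing

namespace Groth.Agent.RectDepth

variable {X Y : Scheme.{u}} (f : X ⟶ Y)

theorem rdepth_of_subsingleton (F : X.Modules) (z : X)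
    [Subsingleton (((Scheme.Modules.pullback (f.fiberι (f z))).obj F).presheaf.stalk (f.asFiber z))] :
    rdepth f F z = ((⊤ : ℕ∞) : WithBot ℕ∞) := by
  rw [rdepth, depthAt, show LocCoh.depth ((f.fiber (f z)).presheaf.stalk (f.asFiber z))
    (((Scheme.Modules.pullback (f.fiberι (f z))).obj F).presheaf.stalk (f.asFiber z)) = ⊤ from
      Depth.idealDepth_of_subsingleton .., ← WithBot.coe_add, top_add]

/-- All associated points of the fibre module above `x` have dimension in `Φ`. -/
def AssDimsIn (F : X.Modules) (Φ : Finset ℕ) (x : X) : Prop :=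
  ∀ z : X, z ⤳ x → f z = f x →
    Nontrivial (((Scheme.Modules.pullback (f.fiberι (f z))).obj F).presheaf.stalk (f.asFiber z)) →
      depthAt f F z = 0 → ∃ n ∈ Φ, Order.height (f.asFiber z) = (n : ℕ∞)

/-- The condition on the dimensions of the associated points above a point is open. -/
theorem isOpen_assDimsIn [LocallyOfFinitePresentation f] (F : X.Modules) (hF : CohB1.IsFP F)
    (hflat : FlatMod.IsFlatOver f F) (Φ : Finset ℕ) : IsOpen {x : X | AssDimsIn f F Φ x} := by
  let W : ℕ → Closeds X := fun r =>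
    ⟨{x | ((r + 1 : ℕ) : WithBot ℕ∞) ≤ rdepth f F x}ᶜ, (isOpen_le_rdepth f F hF hflat _).isClosed_compl⟩
  let ι : ∀ r, (Scheme.IdealSheafData.vanishingIdeal (W r)).subscheme ⟶ X := fun r =>
    (Scheme.IdealSheafData.vanishingIdeal (W r)).subschemeι
  have hι : ∀ r, Set.range (ι r) = (W r : Set X) := fun r => by
    rw [Scheme.IdealSheafData.range_subschemeι, Scheme.IdealSheafData.coe_support_vanishingIdeal]
  let B : ℕ → Set X := fun r => ι r '' {z | r = 0 ∨ ¬ FlatMor.fibreDimAt (ι r ≫ f) z ≤ ((r - 1 : ℕ) : WithBot ℕ∞)}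
  have hB : ∀ r, IsClosed (B r) := fun r => by
    refine (ι r).isClosedEmbedding.isClosedMap _ ?_
    by_cases h : r = 0
    · simp [h]
    · simp only [h, false_or]
      exact (FibreDimChart.isOpen_fibreDimAt_le (ι r ≫ f) (r - 1)).isClosed_compl
  rw [isOpen_iff_forall_mem_open]
  intro x₀ hx₀
  obtain ⟨D, hD⟩ := FibreDimChart.exists_nat_fibreDimAt_le f x₀
  refine ⟨{x | FlatMor.fibreDimAt f x ≤ D} ∩ ⋂ r ∈ (Finset.range (D + 1)).filter (· ∉ Φ), (B r)ᶜ, ?_,
    (FibreDimChart.isOpen_fibreDimAt_le f D).inter (isOpen_biInter_finset fun r _ => (hB r).isOpen_compl), hD, ?_⟩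
  · rintro x ⟨hxD, hxB⟩ z hzx hfz hnt hdz
    haveI := hnt
    obtain ⟨t, d, h, hh, hr, -, -, -, -, ht⟩ := exists_invariants_mod f hF z
    have ht0 : t = 0 := by rw [hdz] at ht; exact_mod_cast ht.symm
    by_contra hbad
    have hhΦ : h ∉ Φ := fun hm => hbad ⟨h, hm, hh⟩
    have hzW : z ∈ (W h : Set X) := fun h1 => by
      rw [Set.mem_ofPred_eq, hr, Nat.cast_le] at h1; omega
    have hxW : x ∈ (W h : Set X) := hzx.mem_closed (W h).isClosed hzW
    obtain ⟨zx, hzx'⟩ := (hι h).ge hxW
    obtain ⟨zz, hzz⟩ := (hι h).ge hzW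
    have hsp : zz ⤳ zx := by
      refine (ι h).isEmbedding.isInducing.specializes_iff.1 ?_
      rw [hzz, hzx']; exact hzx
    have hdim : (h : WithBot ℕ∞) ≤ FlatMor.fibreDimAt (ι h ≫ f) zx := by
      refine le_trans ?_ (FibreDimChart.fibreDimAt_le_of_specializes _ hsp)
      rw [fibreDimAt_eq_add, height_asFiber_comp f (ι h) zz, hzz, hh]
      obtain ⟨t', d', h', -, hd', -⟩ := exists_invariants (ι h ≫ f) zz
      rw [hd']
      exact_mod_cast (show h ≤ d' + h by omega)
    have hxDn : h ≤ D := by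
      have h1 : (h : WithBot ℕ∞) ≤ FlatMor.fibreDimAt f x := by
        refine le_trans ?_ (FibreDimChart.fibreDimAt_le_of_specializes f hzx)
        rw [fibreDimAt_eq_add, hh]
        obtain ⟨t', d', h', -, hd', -⟩ := exists_invariants f z
        rw [hd']
        exact_mod_cast (show h ≤ d' + h by omega)
      exact_mod_cast h1.trans hxD
    refine Set.mem_iInter₂.1 hxB h (Finset.mem_filter.2 ⟨Finset.mem_range.2 (by omega), hhΦ⟩) ⟨zx, ?_, hzx'⟩
    rcases Nat.eq_zero_or_pos h with h0 | hpos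
    · exact Or.inl h0
    · refine Or.inr fun hle => ?_
      have : h ≤ h - 1 := (Nat.cast_le (α := WithBot ℕ∞)).1 (hdim.trans hle)
      omega
  · refine Set.mem_iInter₂.2 fun r hr => ?_
    obtain ⟨-, hrΦ⟩ := Finset.mem_filter.1 hr
    rintro ⟨w, hw, hwx⟩
    let g := ι r ≫ f
    have hlftg := locallyOfFiniteType_fiber g (g w)
    obtain ⟨m, hm, -, hmh⟩ := @DimTheory.exists_height_eq_add_coheight (Y.residueField (g w)) _ _
      (g.fiberToSpecResidueField (g w)) hlftg (g.asFiber w)
    let zz := g.fiberι (g w) m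
    have hgz : g zz = g w := (Scheme.Hom.range_fiberι g (g w)).le ⟨m, rfl⟩
    have hsp : zz ⤳ w := by
      have h1 := (show m ⤳ g.asFiber w from hm).map (g.fiberι (g w)).continuous
      rwa [Scheme.Hom.fiberι_asFiber] at h1
    have hW : ι r zz ∈ (W r : Set X) := (hι r).le ⟨zz, rfl⟩
    haveI : Nontrivial (((Scheme.Modules.pullback (f.fiberι (f (ι r zz)))).obj F).presheaf.stalk (f.asFiber (ι r zz))) := by
      by_contra hs
      rw [not_nontrivial_iff_subsingleton] at hs
      exact hW (le_top.trans (le_of_eq (rdepth_of_subsingleton f F (ι r zz)).symm))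
    obtain ⟨t, d, h, hh, hrd, -, -, -, -, htt⟩ := exists_invariants_mod f hF (ι r zz)
    have hfd : FlatMor.fibreDimAt g w = (h : WithBot ℕ∞) := by
      rw [FlatMor.fibreDimAt, @FieldExtLD.localDim_eq (Y.residueField (g w)) _ _
        (g.fiberToSpecResidueField (g w)) hlftg, ← hmh, height_eq_of_fiberι g _ m zz rfl,
        height_asFiber_comp f (ι r) zz, hh]
      rfl
    have h2 : ¬ r + 1 ≤ t + h := fun hle => hW (by
      rw [Set.mem_ofPred_eq, hrd, Nat.cast_le]; exact hle)
    have hh' : r ≤ h := by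
      rcases hw with h0 | hnle
      · omega
      · have : ¬ h ≤ r - 1 := fun hle => hnle (by rw [hfd]; exact_mod_cast hle)
        omega
    have ht0 : t = 0 := by omega
    obtain ⟨n, hn, hn'⟩ := hx₀ (ι r zz) (hwx ▸ hsp.map (ι r).continuous) (by
      rw [← hwx, ← Scheme.Hom.comp_apply, ← Scheme.Hom.comp_apply]; exact hgz) inferInstance
      (by rw [htt, ht0]; rfl)
    rw [hh, Nat.cast_inj] at hn'
    exact hrΦ ((show r = n by omega) ▸ hn)

/-- The associated points of the fibre module above `x`, read in the fibre. -/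
theorem assDimsIn_iff [LocallyOfFiniteType f] {F : X.Modules} (hF : CohB1.IsFP F) (Φ : Finset ℕ) (x : X) :
    AssDimsIn f F Φ x ↔ ∀ z ∈ AssSch.Ass ((Scheme.Modules.pullback (f.fiberι (f x))).obj F),
      f.asFiber x ∈ closure {z} →
      ∃ n ∈ Φ, topologicalKrullDim ↥(closure ({z} : Set ↥(f.fiber (f x)))) = (n : WithBot ℕ∞) := by
  have h := forall_fiber_iff f (fun y w => f.fiberι y w ⤳ x →
      Nontrivial (((Scheme.Modules.pullback (f.fiberι y)).obj F).presheaf.stalk w) →
      LocCoh.depth ((f.fiber y).presheaf.stalk w) (((Scheme.Modules.pullback (f.fiberι y)).obj F).presheaf.stalk w) = 0 →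
      ∃ n ∈ Φ, Order.height w = (n : ℕ∞)) (f x)
  have h1 : AssDimsIn f F Φ x ↔ ∀ w : f.fiber (f x), f.fiberι (f x) w ⤳ x →
      Nontrivial (((Scheme.Modules.pullback (f.fiberι (f x))).obj F).presheaf.stalk w) →
      LocCoh.depth ((f.fiber (f x)).presheaf.stalk w) (((Scheme.Modules.pullback (f.fiberι (f x))).obj F).presheaf.stalk w) = 0 →
      ∃ n ∈ Φ, Order.height w = (n : ℕ∞) := by
    rw [h]
    simp only [Scheme.Hom.fiberι_asFiber, AssDimsIn, depthAt]
    exact ⟨fun h z hfz hz => h z hz hfz, fun h z hz hfz => h z hfz hz⟩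
  have hN : IsLocallyNoetherian (f.fiber (f x)) := FlatOverBC.isLocallyNoetherian_fiber f _
  rw [h1]
  refine forall_congr' fun w => ?_
  haveI := finite_pullback_stalk hF (f.fiberι (f x)) w
  have hs : f.fiberι (f x) w ⤳ x ↔ f.asFiber x ∈ closure {w} := by
    rw [← specializes_iff_mem_closure, ← (f.fiberι (f x)).isEmbedding.isInducing.specializes_iff, Scheme.Hom.fiberι_asFiber]
  rw [DimTheory.topologicalKrullDim_closure, mem_ass_iff_depth, hs]
  constructor
  · rintro h ⟨hn, hd⟩ hx
    obtain ⟨n, hn', hh⟩ := h hx hn hd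
    exact ⟨n, hn', by rw [hh]; rfl⟩
  · intro h hx hn hd
    obtain ⟨n, hn', hh⟩ := h ⟨hn, hd⟩ hx
    exact ⟨n, hn', WithBot.coe_inj.1 hh⟩

end Groth.Agent.RectDepth
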