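import Mathlib
import Groth.Agent.RectDepth.Embedded

/-!
Primes of a stalk as generizations: localized stalks of modules, and dimensions of quotients.
-/

set_option autoImplicit false
set_option synthInstance.maxHeartbeats 80000
set_option linter.all false
noncomputable section

universe u

open CategoryTheory Limits AlgebraicGeometry TopologicalSpace IsLocalRing
open Groth.Agent.FlatOver

namespace Groth.Agent.RectDepth

variable {Z : Scheme.{u}}

/-- The localization of a stalk at a prime is the stalk at the corresponding generization. -/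
theorem inv_localized_stalk (M : Z.Modules) [M.IsQuasicoherent] (w : Z) [IsLocallyNoetherian Z]
    [Module.Finite (Z.presheaf.stalk w) (M.presheaf.stalk w)] (p : PrimeSpectrum (Z.presheaf.stalk w))
    (y : Z) (hy : Z.fromSpecStalk w p = y) :
    Module.supportDim (Localization.AtPrime p.asIdeal) (LocalizedModule p.asIdeal.primeCompl (M.presheaf.stalk w)) =
      Module.supportDim (Z.presheaf.stalk y) (M.presheaf.stalk y) ∧
    LocCoh.depth (Localization.AtPrime p.asIdeal) (LocalizedModule p.asIdeal.primeCompl (M.presheaf.stalk w)) =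
      LocCoh.depth (Z.presheaf.stalk y) (M.presheaf.stalk y) ∧
    (p ∈ Module.support (Z.presheaf.stalk w) (M.presheaf.stalk w) ↔ Nontrivial (M.presheaf.stalk y)) := by
  obtain ⟨V, hV, hw, -⟩ := exists_isAffineOpen_mem_and_subset (x := w) (U := ⊤) trivial
  let q := hV.primeIdealOf ⟨w, hw⟩
  let R := Z.presheaf.stalk w
  let P := Γ(Z, V)
  have hy' : hV.fromSpec (PrimeSpectrum.comap (Z.presheaf.germ V w hw).hom p) = y := by
    rw [← hy, ← hV.fromSpecStalk_eq_fromSpecStalk hw]
    rfl
  have hyV : y ∈ V := hy' ▸ hV.range_fromSpec.le ⟨_, rfl⟩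
  letI : Algebra P R := (Z.presheaf.germ V w hw).hom.toAlgebra
  haveI : IsLocalization.AtPrime R q.asIdeal := hV.isLocalization_stalk ⟨w, hw⟩
  have hr : hV.primeIdealOf ⟨y, hyV⟩ = PrimeSpectrum.comap (algebraMap P R) p :=
    hV.fromSpec.isOpenEmbedding.injective ((hV.fromSpec_primeIdealOf _).trans hy'.symm)
  let p' : Ideal P := p.asIdeal.comap (algebraMap P R)
  haveI hS : letI : Algebra P (Z.presheaf.stalk y) := (Z.presheaf.germ V y hyV).hom.toAlgebra
      IsLocalization.AtPrime (Z.presheaf.stalk y) p' := by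
    letI : Algebra P (Z.presheaf.stalk y) := (Z.presheaf.germ V y hyV).hom.toAlgebra
    have aux : ∀ (I J : Ideal P) [I.IsPrime] [J.IsPrime], I = J → IsLocalization.AtPrime (Z.presheaf.stalk y) I →
        IsLocalization.AtPrime (Z.presheaf.stalk y) J := fun I J _ _ e hh => by subst e; exact hh
    exact aux _ _ (congrArg PrimeSpectrum.asIdeal hr) (hV.isLocalization_stalk ⟨y, hyV⟩)
  letI : Algebra P (Z.presheaf.stalk y) := (Z.presheaf.germ V y hyV).hom.toAlgebra
  let Rp := Localization.AtPrime p.asIdeal
  haveI : IsLocalization.AtPrime Rp p' :=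
    IsLocalization.isLocalization_isLocalization_atPrime_isLocalization q.asIdeal.primeCompl Rp p.asIdeal
  let e : Rp ≃ₐ[P] Z.presheaf.stalk y := IsLocalization.algEquiv p'.primeCompl Rp (Z.presheaf.stalk y)
  letI : Algebra Rp (Z.presheaf.stalk y) := e.toRingEquiv.toRingHom.toAlgebra
  letI : Module Rp (M.presheaf.stalk y) := Module.compHom _ e.toRingEquiv.toRingHom
  haveI : IsScalarTower Rp (Z.presheaf.stalk y) (M.presheaf.stalk y) := .of_algebraMap_smul fun _ _ => rfl
  letI := germModule M y hyV
  letI := germModule M w hw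
  haveI : IsScalarTower P Rp (M.presheaf.stalk y) := .of_algebraMap_smul fun r m => by
    show e (algebraMap P Rp r) • m = _
    rw [e.commutes]
    rfl
  haveI : IsScalarTower P R (M.presheaf.stalk w) := .of_algebraMap_smul fun _ _ => rfl
  haveI := isLocalizedModule_germₗ M hV w hw
  have h1 : IsBaseChange R (germₗ M w hw) := (isLocalizedModule_iff_isBaseChange q.asIdeal.primeCompl R _).1 inferInstance
  have h2 : IsBaseChange Rp (LocalizedModule.mkLinearMap p.asIdeal.primeCompl (M.presheaf.stalk w)) :=
    IsLocalizedModule.isBaseChange p.asIdeal.primeCompl Rp _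
  haveI : IsLocalizedModule p'.primeCompl (germₗ M y hyV) := by
    have aux : ∀ (I J : Ideal P) [I.IsPrime] [J.IsPrime], I = J → IsLocalizedModule I.primeCompl (germₗ M y hyV) →
        IsLocalizedModule J.primeCompl (germₗ M y hyV) := fun I J _ _ e hh => by subst e; exact hh
    exact aux _ _ (congrArg PrimeSpectrum.asIdeal hr) (isLocalizedModule_germₗ M hV y hyV)
  have h3 : IsBaseChange Rp (germₗ M y hyV) := (isLocalizedModule_iff_isBaseChange p'.primeCompl Rp _).1 inferInstance
  let L : LocalizedModule p.asIdeal.primeCompl (M.presheaf.stalk w) ≃ₗ[Rp] M.presheaf.stalk y :=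
    (h1.comp h2).equiv.symm.trans h3.equiv
  haveI : IsNoetherianRing R := inferInstance
  haveI : Module.Finite Rp (LocalizedModule p.asIdeal.primeCompl (M.presheaf.stalk w)) :=
    Module.Finite.of_isLocalizedModule p.asIdeal.primeCompl (LocalizedModule.mkLinearMap _ _)
  haveI : Module.Finite Rp (M.presheaf.stalk y) := Module.Finite.equiv L
  haveI : Module.Finite (Z.presheaf.stalk y) (M.presheaf.stalk y) := Module.Finite.of_restrictScalars_finite Rp _ _
  have hs : Function.Surjective (algebraMap Rp (Z.presheaf.stalk y)) := e.surjective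
  refine ⟨?_, ?_, ?_⟩
  · rw [Module.supportDim_eq_of_equiv L, supportDim_eq_of_surjective hs]
  · rw [Depth.depth_congr L, ← Depth.depth_eq_of_surjective hs]
  · rw [Module.mem_support_iff]
    exact L.toEquiv.nontrivial_congr

/-- The primes of a stalk are the generizations of the point. -/
def specStalkEmb (w : Z) (p : PrimeSpectrum (Z.presheaf.stalk w)) : Z := Z.fromSpecStalk w p

theorem specStalkEmb_le (w : Z) (p : PrimeSpectrum (Z.presheaf.stalk w)) : w ≤ specStalkEmb w p :=
  (Scheme.range_fromSpecStalk (X := Z) (x := w)).le ⟨p, rfl⟩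

theorem exists_specStalkEmb (w y : Z) (hy : y ⤳ w) : ∃ p, specStalkEmb w p = y :=
  (Scheme.range_fromSpecStalk (X := Z) (x := w)).ge hy

theorem specStalkEmb_le_iff (w : Z) (p p' : PrimeSpectrum (Z.presheaf.stalk w)) :
    specStalkEmb w p' ≤ specStalkEmb w p ↔ p ≤ p' := by
  rw [PrimeSpectrum.le_iff_specializes]
  exact (Z.fromSpecStalk w).isEmbedding.isInducing.specializes_iff

theorem specStalkEmb_injective (w : Z) : Function.Injective (specStalkEmb w) :=
  (Z.fromSpecStalk w).isEmbedding.injective

/-- Primes of the stalk, ordered like generizations reversed. -/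
def stalkOrderIso (w : Z) : PrimeSpectrum (Z.presheaf.stalk w) ≃o (Set.Ici w)ᵒᵈ where
  toEquiv := Equiv.ofBijective (fun p => OrderDual.toDual (⟨specStalkEmb w p, specStalkEmb_le w p⟩ : Set.Ici w))
    ⟨fun a b h => specStalkEmb_injective w (congrArg (fun c => (OrderDual.ofDual c).1) h), fun c => by
      obtain ⟨p, hp⟩ := exists_specStalkEmb w (OrderDual.ofDual c).1 (OrderDual.ofDual c).2
      exact ⟨p, Subtype.ext hp⟩⟩
  map_rel_iff' := fun {a b} => specStalkEmb_le_iff w a b

variable {k : Type u} [Field k] (f : Z ⟶ Spec (CommRingCat.of k)) [LocallyOfFiniteType f]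

include f in
theorem height_Ici_add_le {w : Z} (y : Set.Ici w) : Order.height y + Order.height w ≤ Order.height y.1 := by
  obtain ⟨n, -, hn⟩ := DimTheory.exists_height_eq f w
  rw [hn]
  suffices ∀ m : ℕ, ∀ y : Set.Ici w, (m : ℕ∞) ≤ Order.height y → ((m + n : ℕ) : ℕ∞) ≤ Order.height y.1 by
    cases hh : Order.height y with
    | top =>
      obtain ⟨N, -, hN⟩ := DimTheory.exists_height_eq f y.1
      have := this (N + 1) y (by rw [hh]; exact le_top)
      rw [hN, Nat.cast_le] at this
      omega
    | coe m => exact_mod_cast this m y hh.ge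
  intro m
  induction m with
  | zero =>
    intro y _
    rw [zero_add, ← hn]
    exact Order.height_mono y.2
  | succ m ih =>
    intro y hy
    obtain ⟨l, hl, hlen⟩ := Order.exists_series_of_le_height y hy
    have hlt : l ⟨m, by omega⟩ < y := by
      rw [← hl]
      exact l.strictMono (show (⟨m, by omega⟩ : Fin (l.length + 1)) < Fin.last _ from by simp [Fin.lt_def]; omega)
    have h1 := ih (l ⟨m, by omega⟩) (Order.index_le_height l ⟨m, by omega⟩)
    have hfin := DimTheory.height_lt_top f (l ⟨m, by omega⟩).1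
    have h2 := Order.height_strictMono (show (l ⟨m, by omega⟩).1 < y.1 from hlt) hfin
    have h3 := Order.add_one_le_of_lt (lt_of_le_of_lt h1 h2)
    refine le_trans (le_of_eq ?_) h3
    rw [show ((m + 1) + n : ℕ) = m + n + 1 by omega]
    push_cast; rfl

include f in
theorem le_height_Ici_add {w : Z} (y : Set.Ici w) : Order.height y.1 ≤ Order.height y + Order.height w := by
  suffices ∀ (d : ℕ) (w : Z) (y : Set.Ici w), Order.height y.1 ≤ Order.height w + d →
      Order.height y.1 ≤ Order.height y + Order.height w by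
    obtain ⟨n, -, hn⟩ := DimTheory.exists_height_eq f y.1
    exact this n w y (by rw [hn]; exact le_add_self)
  intro d
  induction d with
  | zero => intro w y h; rw [Nat.cast_zero, add_zero] at h; exact h.trans le_add_self
  | succ d ih =>
    intro w y h
    by_cases hyx : y.1 ≤ w
    · exact (Order.height_mono hyx).trans le_add_self
    obtain ⟨z, hz, hmin⟩ := (wellFounded_lt (α := ℕ∞)).onFun (f := Order.height (α := Z)) |>.has_min
      {z : Z | w < z ∧ z ≤ y.1} ⟨y.1, lt_of_le_not_ge y.2 hyx, le_rfl⟩
    have hcov : w ⋖ z := ⟨hz.1, fun a h1 h2 => hmin a ⟨h1, h2.le.trans hz.2⟩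
      (Order.height_strictMono h2 (DimTheory.height_lt_top f a))⟩
    have hzc := DimTheory.height_eq_add_one_of_covBy f hcov
    have h' := ih z ⟨y.1, hz.2⟩ (h.trans (le_of_eq (by rw [hzc]; push_cast; ring)))
    refine h'.trans ?_
    rw [hzc, ← add_assoc, add_right_comm]
    refine add_le_add ?_ le_rfl
    cases hh : Order.height (⟨y.1, hz.2⟩ : Set.Ici z) with
    | top =>
      have h1 := height_Ici_add_le f (⟨y.1, hz.2⟩ : Set.Ici z)
      rw [hh, top_add, top_le_iff] at h1
      exact absurd h1 (DimTheory.height_lt_top f y.1).ne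
    | coe m =>
    obtain ⟨l, hl, hlen⟩ := Order.exists_series_of_height_eq_coe _ hh
    let l' : LTSeries (Set.Ici w) := l.map (fun a => ⟨a.1, hz.1.le.trans a.2⟩) (fun a b h => h)
    let l'' := l'.cons ⟨w, Set.self_mem_Ici⟩ (show w < (l.head).1 from hz.1.trans_le l.head.2)
    refine le_trans (le_of_eq ?_) (Order.length_le_height (p := l'') (show l''.last ≤ y from ?_))
    · simp [l'', l', hlen]
    · rw [RelSeries.last_cons, LTSeries.last_map, hl]

include f in
theorem height_Ici_add {w : Z} (y : Set.Ici w) : Order.height y + Order.height w = Order.height y.1 :=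
  le_antisymm (height_Ici_add_le f y) (le_height_Ici_add f y)

include f in
theorem coheight_add_height (w : Z) (p : PrimeSpectrum (Z.presheaf.stalk w)) :
    Order.coheight p + Order.height w = Order.height (specStalkEmb w p) := by
  rw [← Order.coheight_orderIso (stalkOrderIso w) p]
  exact height_Ici_add f (⟨specStalkEmb w p, specStalkEmb_le w p⟩ : Set.Ici w)

include f in
/-- Equidimensionality of a stalk through the maximal points of the support. -/
theorem isEquidimModule_stalk_iff [IsLocallyNoetherian Z] (M : Z.Modules) [M.IsQuasicoherent] (w : Z)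
    [Module.Finite (Z.presheaf.stalk w) (M.presheaf.stalk w)] :
    EGA4.IsEquidimModule (Z.presheaf.stalk w) (M.presheaf.stalk w) ↔
      ∃ r : ℕ, ∀ y : Z, y ⤳ w → ∀ [Nontrivial (M.presheaf.stalk y)],
        Module.supportDim (Z.presheaf.stalk y) (M.presheaf.stalk y) ≤ 0 → Order.height y = (r : ℕ∞) := by
  set R := Z.presheaf.stalk w
  set G := M.presheaf.stalk w
  haveI : IsNoetherianRing R := inferInstance
  obtain ⟨n, -, hn⟩ := DimTheory.exists_height_eq f w
  have hmin : ∀ p : PrimeSpectrum R, p.asIdeal ∈ (Module.annihilator R G).minimalPrimes ↔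
      Nontrivial (M.presheaf.stalk (specStalkEmb w p)) ∧
        ∀ y, y ⤳ specStalkEmb w p → Nontrivial (M.presheaf.stalk y) → y = specStalkEmb w p := by
    intro p
    have hs : ∀ p : PrimeSpectrum R, Module.annihilator R G ≤ p.asIdeal ↔ Nontrivial (M.presheaf.stalk (specStalkEmb w p)) :=
      fun p => by
        refine Iff.trans ?_ (inv_localized_stalk M w p (specStalkEmb w p) rfl).2.2
        rw [Module.support_eq_zeroLocus]
        exact Iff.rfl
    constructor
    · rintro ⟨⟨-, h1⟩, h2⟩
      refine ⟨(hs p).1 h1, fun y hy hny => ?_⟩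
      obtain ⟨p', rfl⟩ := exists_specStalkEmb w y (hy.trans (specStalkEmb_le w p))
      have hle : p' ≤ p := (specStalkEmb_le_iff w p' p).1 hy
      have : p ≤ p' := h2 ⟨p'.2, (hs p').2 hny⟩ hle
      exact congrArg _ (le_antisymm hle this)
    · rintro ⟨h1, h2⟩
      refine ⟨⟨p.2, (hs p).2 h1⟩, fun I hI hle => ?_⟩
      have := h2 (specStalkEmb w ⟨I, hI.1⟩) ((specStalkEmb_le_iff w ⟨I, hI.1⟩ p).2 hle) ((hs ⟨I, hI.1⟩).1 hI.2)
      exact (congrArg PrimeSpectrum.asIdeal (specStalkEmb_injective w this)).ge
  have hdim : ∀ p : PrimeSpectrum R, ringKrullDim (R ⧸ p.asIdeal) = (Order.coheight p : WithBot ℕ∞) := fun p => by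
    rw [ringKrullDim_quotient, Order.coheight_eq_krullDim_Ici]
    exact Order.krullDim_eq_of_orderIso (OrderIso.setCongr _ _ (by ext q; rfl))
  have hfin : ∀ p : PrimeSpectrum R, Module.Finite (Z.presheaf.stalk (specStalkEmb w p)) (M.presheaf.stalk (specStalkEmb w p)) →
      ∀ [Nontrivial (M.presheaf.stalk (specStalkEmb w p))],
      (Module.supportDim (Z.presheaf.stalk (specStalkEmb w p)) (M.presheaf.stalk (specStalkEmb w p)) ≤ 0 ↔
        ∀ y, y ⤳ specStalkEmb w p → Nontrivial (M.presheaf.stalk y) → y = specStalkEmb w p) :=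
    fun p _ => supportDim_le_zero_iff M _
  have hF : ∀ p : PrimeSpectrum R, ∀ [Nontrivial (M.presheaf.stalk (specStalkEmb w p))],
      (Module.supportDim (Z.presheaf.stalk (specStalkEmb w p)) (M.presheaf.stalk (specStalkEmb w p)) ≤ 0 ↔
        ∀ y, y ⤳ specStalkEmb w p → Nontrivial (M.presheaf.stalk y) → y = specStalkEmb w p) :=
    fun p => supportDim_le_zero_iff M _
  constructor
  · intro h
    rcases subsingleton_or_nontrivial G with hG | hG
    · refine ⟨0, fun y hy hny _ => ?_⟩
      obtain ⟨p, rfl⟩ := exists_specStalkEmb w y hy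
      have := (inv_localized_stalk M w p _ rfl).2.2.2 hny
      rw [Module.support_eq_empty] at this
      exact absurd this (Set.notMem_empty p)
    obtain ⟨d, hd⟩ := Depth.exists_natCast_eq_supportDim (R := R) (M := G)
    refine ⟨d + n, fun y hy hny hy0 => ?_⟩
    obtain ⟨p, rfl⟩ := exists_specStalkEmb w y hy
    have hp := h _ ((hmin p).2 ⟨hny, (hF p).1 hy0⟩)
    rw [hdim p, hd] at hp
    rw [← coheight_add_height f w p, hn, WithBot.coe_inj.1 hp]
    push_cast; rfl
  · rintro ⟨r, hr⟩ p hp
    haveI := hp.1.1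
    have key : ∀ p : PrimeSpectrum R, p.asIdeal ∈ (Module.annihilator R G).minimalPrimes →
        Order.coheight p + (n : ℕ∞) = (r : ℕ∞) := fun p hp => by
      haveI := ((hmin p).1 hp).1
      rw [← hn, coheight_add_height f w p]
      exact hr _ (specStalkEmb_le w p) ((hF p).2 ((hmin p).1 hp).2)
    refine (hdim ⟨p, hp.1.1⟩).trans (le_antisymm ?_ ?_)
    · rw [← hdim ⟨p, hp.1.1⟩, Module.supportDim_eq_ringKrullDim_quotient_annihilator]
      exact ringKrullDim_le_of_surjective (Ideal.Quotient.factor hp.1.2) (Ideal.Quotient.factor_surjective hp.1.2)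
    · refine iSup_le fun l => ?_
      obtain ⟨p₀, hp₀, hle⟩ := Ideal.exists_minimalPrimes_le
        (show Module.annihilator R G ≤ l.head.1.asIdeal by
          have h := (Module.support_eq_zeroLocus (R := R) (M := G)).le l.head.2
          exact h)
      haveI := hp₀.1.1
      have h1 : (l.length : ℕ∞) ≤ Order.coheight (⟨p₀, hp₀.1.1⟩ : PrimeSpectrum R) :=
        (Order.length_le_coheight (p := l.map Subtype.val (fun _ _ h => h)) (by rw [LTSeries.head_map]; exact hle))
      have h2 := key ⟨p₀, hp₀.1.1⟩ hp₀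
      have h3 := key ⟨p, hp.1.1⟩ hp
      have h4 : Order.coheight (⟨p₀, hp₀.1.1⟩ : PrimeSpectrum R) = Order.coheight (⟨p, hp.1.1⟩ : PrimeSpectrum R) :=
        WithTop.add_right_cancel (ENat.natCast_ne_top n) (h2.trans h3.symm)
      exact WithBot.coe_le_coe.2 (h4 ▸ h1)

/-- `(S_k)` of a stalk read on the generizations. -/
theorem hasSk_stalk_iff [IsLocallyNoetherian Z] (M : Z.Modules) [M.IsQuasicoherent] (w : Z)
    [Module.Finite (Z.presheaf.stalk w) (M.presheaf.stalk w)] (k : ℕ) :
    LocCoh.HasSk k (Z.presheaf.stalk w) (M.presheaf.stalk w) ↔ ∀ y : Z, y ⤳ w →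
      min (k : WithBot ℕ∞) (Module.supportDim (Z.presheaf.stalk y) (M.presheaf.stalk y)) ≤
        (LocCoh.depth (Z.presheaf.stalk y) (M.presheaf.stalk y) : WithBot ℕ∞) := by
  constructor
  · intro h y hy
    obtain ⟨p, rfl⟩ := exists_specStalkEmb w y hy
    obtain ⟨h1, h2, -⟩ := inv_localized_stalk M w p _ rfl
    have := h p.asIdeal
    rwa [h1, h2] at this
  · intro h p hp
    obtain ⟨h1, h2, -⟩ := inv_localized_stalk M w ⟨p, hp⟩ _ rfl
    rw [h1, h2]
    exact h _ (specStalkEmb_le w ⟨p, hp⟩)

end Groth.Agent.RectDepth
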