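import Mathlib
import Groth.Agent.RectDepth.StalkGen
import Groth.Agent.QCohBase.Support
import Groth.Agent.CAlgMisc.SmallB
import Groth.Agent.FinLocFreeSections.FP

/-!
The support of a finitely presented module, flat over the base, maps openly to the base.
-/

set_option autoImplicit false
set_option synthInstance.maxHeartbeats 80000
set_option linter.all false
noncomputable section

universe u

open CategoryTheory Limits AlgebraicGeometry TopologicalSpace IsLocalRing TensorProduct
open Groth.Agent.FlatOver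

namespace Groth.Agent.RectDepth

/-- A flat finite nonzero module along a local map has a support point over every prime of the base. -/
theorem exists_mem_support_comap {R O M : Type u} [CommRing R] [CommRing O] [IsLocalRing R] [IsLocalRing O]
    [Algebra R O] [IsLocalHom (algebraMap R O)] [AddCommGroup M] [Module R M] [Module O M] [IsScalarTower R O M]
    [Module.Finite O M] [Module.Flat R M] [Nontrivial M] (p : Ideal R) [p.IsPrime] :
    ∃ P : PrimeSpectrum O, P.asIdeal.comap (algebraMap R O) = p ∧ P ∈ Module.support O M := by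
  haveI : Module.FaithfullyFlat R M := by
    refine (Module.faithfullyFlat_iff R M).2 ⟨inferInstance, fun m hm h => ?_⟩
    obtain rfl := IsLocalRing.eq_maximalIdeal hm
    have h2 : (⊤ : Submodule O M) ≤ maximalIdeal O • ⊤ := by
      intro x _
      have hx : x ∈ maximalIdeal R • (⊤ : Submodule R M) := Submodule.eq_top_iff'.1 h x
      refine Submodule.smul_induction_on hx (fun r hr n _ => ?_) fun a b ha hb => add_mem ha hb
      rw [← algebraMap_smul O r n]
      exact Submodule.smul_mem_smul (map_nonunit _ _ hr) trivial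
    exact top_ne_bot (Submodule.eq_bot_of_le_smul_of_le_jacobson_bot (maximalIdeal O) ⊤
      Module.Finite.fg_top h2 (IsLocalRing.maximalIdeal_le_jacobson _))
  let L := M ⊗[R] p.ResidueField
  haveI : Nontrivial L := Module.FaithfullyFlat.lTensor_nontrivial R M _
  obtain ⟨l, hl⟩ := exists_ne (0 : L)
  let J : Ideal O := (Submodule.span O {l}).annihilator
  have hr : ∀ (r : R) (m : L), algebraMap R O r • m =
      LinearMap.lTensor M (LinearMap.lsmul R p.ResidueField r) m := by
    intro r m
    rw [algebraMap_smul]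
    induction m using TensorProduct.induction_on with
    | zero => simp
    | add a b ha hb => rw [smul_add, map_add, ha, hb]
    | tmul a b => simp
  have hdisj : Disjoint (J : Set O) (p.primeCompl.map (algebraMap R O)) := by
    rw [Set.disjoint_left]
    rintro _ ha ⟨r, hrp, rfl⟩
    rw [SetLike.mem_coe, Submodule.mem_annihilator_span_singleton, hr] at ha
    have hu : algebraMap R p.ResidueField r ≠ 0 := fun h => hrp (by rwa [Ideal.algebraMap_residueField_eq_zero] at h)
    apply hl
    have := congrArg (LinearMap.lTensor M ((LinearMap.mulLeft p.ResidueField (algebraMap R p.ResidueField r)⁻¹).restrictScalars R)) ha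
    rw [map_zero, ← LinearMap.lTensor_comp_apply] at this
    refine Eq.trans ?_ this
    rw [show ((LinearMap.mulLeft p.ResidueField (algebraMap R p.ResidueField r)⁻¹).restrictScalars R).comp
      (LinearMap.lsmul R p.ResidueField r) = LinearMap.id from LinearMap.ext fun c => by
        show (algebraMap R p.ResidueField r)⁻¹ * (r • c) = c
        rw [Algebra.smul_def, inv_mul_cancel_left₀ hu], LinearMap.lTensor_id, LinearMap.id_apply]
  obtain ⟨P, hP, hJP, hPd⟩ := Ideal.exists_le_prime_disjoint J _ hdisj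
  refine ⟨⟨P, hP⟩, le_antisymm (fun r hrP => ?_) (fun r hrp => ?_), ?_⟩
  · by_contra hrp
    exact Set.disjoint_left.1 hPd hrP ⟨r, hrp, rfl⟩
  · refine hJP ((Submodule.mem_annihilator_span_singleton _ _).2 ?_)
    rw [hr, show LinearMap.lsmul R p.ResidueField r = 0 from LinearMap.ext fun c => by
      show r • c = 0
      rw [Algebra.smul_def, Ideal.algebraMap_residueField_eq_zero.2 hrp, zero_mul], LinearMap.lTensor_zero,
      LinearMap.zero_apply]
  · rw [Module.support_eq_zeroLocus]
    refine fun a ha => hJP ((Submodule.mem_annihilator_span_singleton _ _).2 ?_)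
    have ha' : ∀ m : L, a • m = 0 := by
      intro m
      induction m using TensorProduct.induction_on with
      | zero => simp
      | add b c hb hc => rw [smul_add, hb, hc, add_zero]
      | tmul b c => rw [smul_tmul', Module.mem_annihilator.1 ha b, zero_tmul]
    exact ha' l

variable {X Y : Scheme.{u}} (f : X ⟶ Y)

theorem nontrivial_stalk_iff_mem_support (F : X.Modules) [F.IsQuasicoherent] (z : X)
    (p : PrimeSpectrum (X.presheaf.stalk z)) :
    p ∈ Module.support (X.presheaf.stalk z) (F.presheaf.stalk z) ↔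
      Nontrivial (F.presheaf.stalk (specStalkEmb z p)) := by
  obtain ⟨V, hV, hz, -⟩ := exists_isAffineOpen_mem_and_subset (x := z) (U := ⊤) trivial
  let q := hV.primeIdealOf ⟨z, hz⟩
  letI : Algebra Γ(X, V) (X.presheaf.stalk z) := (X.presheaf.germ V z hz).hom.toAlgebra
  haveI : IsLocalization.AtPrime (X.presheaf.stalk z) q.asIdeal := hV.isLocalization_stalk ⟨z, hz⟩
  have hy : hV.fromSpec (PrimeSpectrum.comap (X.presheaf.germ V z hz).hom p) = specStalkEmb z p := by
    rw [specStalkEmb, ← hV.fromSpecStalk_eq_fromSpecStalk hz]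
    rfl
  have hyV : specStalkEmb z p ∈ V := hy ▸ hV.range_fromSpec.le ⟨_, rfl⟩
  have hr : hV.primeIdealOf ⟨_, hyV⟩ = PrimeSpectrum.comap (algebraMap Γ(X, V) (X.presheaf.stalk z)) p :=
    hV.fromSpec.isOpenEmbedding.injective ((hV.fromSpec_primeIdealOf _).trans hy.symm)
  letI := germModule F z hz
  haveI := isLocalizedModule_germₗ F hV z hz
  haveI : IsScalarTower Γ(X, V) (X.presheaf.stalk z) (F.presheaf.stalk z) := .of_algebraMap_smul fun _ _ => rfl
  rw [mem_support_isLocalized_iff q.asIdeal _ (germₗ F z hz) p, ← hr]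
  letI := germModule F _ hyV
  haveI := isLocalizedModule_germₗ F hV _ hyV
  rw [Module.mem_support_iff]
  exact (IsLocalizedModule.iso (hV.primeIdealOf ⟨_, hyV⟩).asIdeal.primeCompl (germₗ F _ hyV)).toEquiv.nontrivial_congr

/-- Going down for the support of a flat module. -/
theorem exists_generization_support {F : X.Modules} (hF : CohB1.IsFP F) (hflat : FlatMod.IsFlatOver f F) (z : X)
    [Nontrivial (F.presheaf.stalk z)] (y : Y) (hy : y ⤳ f z) :
    ∃ z' : X, z' ⤳ z ∧ f z' = y ∧ Nontrivial (F.presheaf.stalk z') := by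
  haveI : F.IsQuasicoherent := isQuasicoherent_of_isFP hF
  obtain ⟨p, hp⟩ := exists_specStalkEmb (f z) y hy
  letI : Algebra (Y.presheaf.stalk (f z)) (X.presheaf.stalk z) := (f.stalkMap z).hom.toAlgebra
  haveI : IsLocalHom (algebraMap (Y.presheaf.stalk (f z)) (X.presheaf.stalk z)) :=
    inferInstanceAs (IsLocalHom (f.stalkMap z).hom)
  letI := FlatMod.moduleStalkOver f F z
  haveI : IsScalarTower (Y.presheaf.stalk (f z)) (X.presheaf.stalk z) (F.presheaf.stalk z) :=
    .of_algebraMap_smul fun _ _ => rfl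
  haveI := finite_stalk_of_isFP hF z
  haveI : Module.Flat (Y.presheaf.stalk (f z)) (F.presheaf.stalk z) := hflat z
  obtain ⟨P, hPp, hP⟩ := exists_mem_support_comap (O := X.presheaf.stalk z) (M := F.presheaf.stalk z) p.asIdeal
  refine ⟨specStalkEmb z P, specStalkEmb_le z P, ?_, (nontrivial_stalk_iff_mem_support F z P).1 hP⟩
  rw [← hp, show p = PrimeSpectrum.comap (f.stalkMap z).hom P from PrimeSpectrum.ext hPp.symm]
  exact (congr($(Scheme.SpecMap_stalkMap_fromSpecStalk f (x := z)) P)).symm

theorem isClosed_nontrivial_stalk {F : X.Modules} (hF : CohB1.IsFP F) :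
    IsClosed {z : X | Nontrivial (F.presheaf.stalk z)} := by
  simpa only [CohB1.support, not_subsingleton_iff_nontrivial] using QCohBase.isClosed_support F (haveI : CohB1.IsFP F := hF; (inferInstance : CohB1.IsFT F))

/-- The support of a flat finitely presented module maps openly to the base. -/
theorem isOpen_image_inter_support [LocallyOfFinitePresentation f] {F : X.Modules} (hF : CohB1.IsFP F)
    (hflat : FlatMod.IsFlatOver f F) {U : Set X} (hU : IsOpen U) :
    IsOpen (f '' (U ∩ {z | Nontrivial (F.presheaf.stalk z)})) := by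
  haveI : F.IsQuasicoherent := isQuasicoherent_of_isFP hF
  rw [isOpen_iff_forall_mem_open]
  rintro _ ⟨z, ⟨hzU, hzn⟩, rfl⟩
  obtain ⟨A, hA, hzA, -⟩ := exists_isAffineOpen_mem_and_subset (x := f z) (U := ⊤) trivial
  obtain ⟨V, hV, hzV, hVle⟩ := exists_isAffineOpen_mem_and_subset (x := z) (U := ⟨U, hU⟩ ⊓ f ⁻¹ᵁ A) ⟨hzU, hzA⟩
  have e : V ≤ f ⁻¹ᵁ A := fun a ha => (hVle ha).2
  let φ := f.appLE A V e
  haveI := FinLocFreeSections.finitePresentation_sections F hF hV
  let S := Module.support Γ(X, V) Γ(F, V)
  have hS : ∀ (w : X) (hw : w ∈ V), Nontrivial (F.presheaf.stalk w) ↔ hV.primeIdealOf ⟨w, hw⟩ ∈ S := fun w hw => by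
    letI := germModule F w hw
    haveI := isLocalizedModule_germₗ F hV w hw
    rw [Module.mem_support_iff]
    exact (IsLocalizedModule.iso (hV.primeIdealOf ⟨w, hw⟩).asIdeal.primeCompl (germₗ F w hw)).toEquiv.nontrivial_congr.symm
  obtain ⟨hSc, hSk⟩ := CAlgMisc.isClosed_isCompact_support Γ(X, V) Γ(F, V)
  have hScon : Topology.IsConstructible S := by
    rw [← compl_compl S]
    exact (IsRetrocompact.isConstructible hSc.isOpen_compl
      ((QuasiSeparatedSpace.isRetrocompact_iff_isCompact hSc.isOpen_compl).2 hSk)).compl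
  let T := PrimeSpectrum.comap φ.hom '' S
  have hcomm : ∀ r, hA.fromSpec (PrimeSpectrum.comap φ.hom r) = f (hV.fromSpec r) := fun r =>
    congr($(IsAffineOpen.SpecMap_appLE_fromSpec f hA hV e) r)
  have hT : hA.fromSpec '' T = f '' ((V : Set X) ∩ {z | Nontrivial (F.presheaf.stalk z)}) := by
    ext y
    constructor
    · rintro ⟨_, ⟨r, hr, rfl⟩, rfl⟩
      have hrV : hV.fromSpec r ∈ V := hV.range_fromSpec.le ⟨r, rfl⟩
      refine ⟨_, ⟨hrV, (hS _ hrV).2 ?_⟩, (hcomm r).symm⟩
      rwa [show hV.primeIdealOf ⟨_, hrV⟩ = r from hV.fromSpec.isOpenEmbedding.injective (hV.fromSpec_primeIdealOf _)]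
    · rintro ⟨w, ⟨hw, hwn⟩, rfl⟩
      exact ⟨_, ⟨_, (hS w hw).1 hwn, rfl⟩, by rw [hcomm, hV.fromSpec_primeIdealOf]⟩
  have hTo : IsOpen T := by
    refine PrimeSpectrum.isOpen_of_stableUnderGeneralization_of_isConstructible (fun a b hba ha => ?_)
      (PrimeSpectrum.isConstructible_comap_image (f.finitePresentation_appLE hA hV e) hScon)
    obtain ⟨w, ⟨hw, hwn⟩, hwa⟩ := hT.le ⟨a, ha, rfl⟩
    haveI : Nontrivial (F.presheaf.stalk w) := hwn
    obtain ⟨w', hw', hfw', hw'n⟩ := exists_generization_support f hF hflat w (hA.fromSpec b)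
      (hwa ▸ hba.map hA.fromSpec.continuous)
    obtain ⟨b', hb', hbb⟩ := hT.ge ⟨w', ⟨hw'.mem_open V.2 hw, hw'n⟩, hfw'⟩
    exact hA.fromSpec.isOpenEmbedding.injective hbb ▸ hb'
  refine ⟨hA.fromSpec '' T, ?_, hA.fromSpec.isOpenEmbedding.isOpenMap _ hTo, hT.ge ⟨z, ⟨hzV, hzn⟩, rfl⟩⟩
  rw [hT]
  exact Set.image_mono (Set.inter_subset_inter_left _ fun a ha => (hVle ha).1)

end Groth.Agent.RectDepth
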