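import Mathlib
import Groth.Agent.RectDepth.AssDims
import Groth.Agent.RectDepth.SuppOpen
import Groth.Agent.S4357

/-!
Dimensions of the components of the supports of the fibres of a flat module.
-/

set_option autoImplicit false
set_option synthInstance.maxHeartbeats 80000
set_option linter.all false
noncomputable section

universe u

open CategoryTheory Limits AlgebraicGeometry TopologicalSpace IsLocalRing
open Groth.Agent.FlatOver

namespace Groth.Agent.RectDepth

/-- Components of a closed subset correspond to its maximal points, with the height as dimension. -/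
theorem component_iff {Z : Scheme.{u}} {S : Set Z} (hS : IsClosed S) :
    (∀ C ∈ irreducibleComponents ↥S, ∃ m ∈ S, (∀ y, y ⤳ m → y ∈ S → y = m) ∧
      topologicalKrullDim ↥C = (Order.height m : WithBot ℕ∞)) ∧
    (∀ m ∈ S, (∀ y, y ⤳ m → y ∈ S → y = m) → ∃ C ∈ irreducibleComponents ↥S,
      topologicalKrullDim ↥C = (Order.height m : WithBot ℕ∞)) ∧
    ∀ w ∈ S, ∃ m ∈ S, m ⤳ w ∧ ∀ y, y ⤳ m → y ∈ S → y = m := by
  haveI : QuasiSober ↥S := hS.isClosedEmbedding_subtypeVal.quasiSober
  have hdim : ∀ m : S, topologicalKrullDim ↥(closure ({m} : Set S)) = (Order.height m.1 : WithBot ℕ∞) := fun m => by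
    rw [← DimTheory.topologicalKrullDim_closure,
      ← (Topology.IsEmbedding.subtypeVal.homeomorphImage (closure ({m} : Set S))).symm.isHomeomorph.topologicalKrullDim_eq,
      ← hS.isClosedEmbedding_subtypeVal.closure_image_eq, Set.image_singleton]
  have hmax : ∀ (m : S), closure ({m} : Set S) ∈ irreducibleComponents ↥S ↔ ∀ y, y ⤳ m.1 → y ∈ S → y = m.1 := by
    intro m
    constructor
    · intro hC y hy hyS
      have hy' : (⟨y, hyS⟩ : S) ⤳ m := (subtype_specializes_iff _ _).2 hy
      have h2 := hC.2 (isIrreducible_singleton (x := (⟨y, hyS⟩ : S))).closure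
        (closure_minimal (Set.singleton_subset_iff.2 hy'.mem_closure) isClosed_closure)
      exact ((show m ⤳ (⟨y, hyS⟩ : S) from specializes_iff_mem_closure.2 (h2 (subset_closure rfl))).antisymm hy').symm.eq |>
        congrArg Subtype.val
    · intro h
      refine ⟨isIrreducible_singleton.closure, fun D hD hsub => ?_⟩
      let g := hD.closure.genericPoint
      have hg : IsGenericPoint g (closure D) := by simpa using hD.closure.isGenericPoint_genericPoint_closure
      have hgm : g ⤳ m := hg.specializes (subset_closure (hsub (subset_closure rfl)))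
      have hgm' : g = m := Subtype.ext (h g.1 ((subtype_specializes_iff _ _).1 hgm) g.2)
      exact fun a ha => hgm' ▸ hg.def.ge (subset_closure ha)
  refine ⟨fun C hC => ?_, fun m hm h => ⟨_, (hmax ⟨m, hm⟩).2 h, hdim _⟩, fun w hw => ?_⟩
  · let m := hC.1.genericPoint
    have hm : closure ({m} : Set S) = C :=
      hC.1.isGenericPoint_genericPoint_closure.def.trans (isClosed_of_mem_irreducibleComponents C hC).closure_eq
    exact ⟨m.1, m.2, (hmax m).1 (hm ▸ hC), hm ▸ hdim m⟩
  · obtain ⟨C, hC, hwC⟩ : ∃ C ∈ irreducibleComponents ↥S, (⟨w, hw⟩ : S) ∈ C :=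
      ⟨_, irreducibleComponent_mem_irreducibleComponents _, mem_irreducibleComponent⟩
    let m := hC.1.genericPoint
    have hm : closure ({m} : Set S) = C :=
      hC.1.isGenericPoint_genericPoint_closure.def.trans (isClosed_of_mem_irreducibleComponents C hC).closure_eq
    exact ⟨m.1, m.2, (subtype_specializes_iff _ _).1 (specializes_iff_mem_closure.2 (hm.ge hwC) : m ⤳ ⟨w, hw⟩),
      (hmax m).1 (hm ▸ hC)⟩

variable {X Y : Scheme.{u}} (f : X ⟶ Y) [LocallyOfFiniteType f]

/-- A maximal point of the support of a fibre is associated. -/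
theorem mem_ass_of_maximal {F : X.Modules} (hF : CohB1.IsFP F) (y : Y) (m : f.fiber y)
    [Nontrivial (((Scheme.Modules.pullback (f.fiberι y)).obj F).presheaf.stalk m)]
    (h : ∀ w, w ⤳ m → Nontrivial (((Scheme.Modules.pullback (f.fiberι y)).obj F).presheaf.stalk w) → w = m) :
    m ∈ AssSch.Ass ((Scheme.Modules.pullback (f.fiberι y)).obj F) := by
  have hN : IsLocallyNoetherian (f.fiber y) := FlatOverBC.isLocallyNoetherian_fiber f _
  set G := (Scheme.Modules.pullback (f.fiberι y)).obj F
  haveI : G.IsQuasicoherent := isQuasicoherent_of_isFP (ModStA.isFP_pullback (f.fiberι y) hF)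
  haveI := finite_pullback_stalk hF (f.fiberι y) m
  refine (mem_ass_iff_depth G m).2 ⟨inferInstance, le_antisymm (WithBot.coe_le_coe.1 ?_) bot_le⟩
  exact (Depth.depth_le_supportDim (R := (f.fiber y).presheaf.stalk m) (M := G.presheaf.stalk m)).trans
    ((supportDim_le_zero_iff G m).2 h)

theorem nontrivial_pullback_stalk_iff {F : X.Modules} (hF : CohB1.IsFP F) (y : Y) (w : f.fiber y) :
    Nontrivial (((Scheme.Modules.pullback (f.fiberι y)).obj F).presheaf.stalk w) ↔
      Nontrivial (F.presheaf.stalk (f.fiberι y w)) := by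
  haveI : F.IsQuasicoherent := isQuasicoherent_of_isFP hF
  haveI : CohB1.IsFP F := hF
  have h := Set.ext_iff.1 (S4357.result (f.fiberι y) F (inferInstance : CohB1.IsFT F)) w
  simpa only [CohB1.support, Set.mem_preimage, Set.mem_ofPred_eq, not_subsingleton_iff_nontrivial] using h

/-- A component dimension of the support of a fibre persists nearby. -/
theorem isOpen_exists_component [LocallyOfFinitePresentation f] {F : X.Modules} (hF : CohB1.IsFP F)
    (hflat : FlatMod.IsFlatOver f F) (n : ℕ) :
    IsOpen {y : Y | ∃ Z ∈ irreducibleComponents ↥{z : ↥(f.fiber y) | Nontrivial (((Scheme.Modules.pullback (f.fiberι y)).obj F).presheaf.stalk z)},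
      topologicalKrullDim ↥Z = (n : WithBot ℕ∞)} := by
  rw [isOpen_iff_forall_mem_open]
  rintro y₀ ⟨C, hC, hCn⟩
  have hcl : ∀ y : Y, IsClosed {z : ↥(f.fiber y) | Nontrivial (((Scheme.Modules.pullback (f.fiberι y)).obj F).presheaf.stalk z)} :=
    fun y => isClosed_nontrivial_stalk (ModStA.isFP_pullback (f.fiberι y) hF)
  obtain ⟨m, hm, hmax, hdim⟩ := (component_iff (hcl y₀)).1 C hC
  rw [hCn] at hdim
  let z₀ := f.fiberι y₀ m
  have hz₀ : f z₀ = y₀ := (Scheme.Hom.range_fiberι f y₀).le ⟨m, rfl⟩
  have hU : z₀ ∈ {x | AssDimsIn f F {n} x} := by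
    rw [Set.mem_ofPred_eq, assDimsIn_iff f hF]
    have key : ∀ (y : Y) (m : f.fiber y) (z : X), f.fiberι y m = z →
        (∀ w, w ⤳ m → Nontrivial (((Scheme.Modules.pullback (f.fiberι y)).obj F).presheaf.stalk w) → w = m) →
        (Order.height m : WithBot ℕ∞) = (n : WithBot ℕ∞) →
        ∀ w ∈ AssSch.Ass ((Scheme.Modules.pullback (f.fiberι (f z))).obj F), f.asFiber z ∈ closure {w} →
        ∃ k ∈ ({n} : Finset ℕ), topologicalKrullDim ↥(closure ({w} : Set ↥(f.fiber (f z)))) = (k : WithBot ℕ∞) := by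
      intro y m z hz hmax hh w hw hwz
      have hy : f z = y := hz ▸ (Scheme.Hom.range_fiberι f y).le ⟨m, rfl⟩
      subst hy
      have he : f.asFiber z = m :=
        (f.fiberι (f z)).isEmbedding.injective ((Scheme.Hom.fiberι_asFiber f z).trans hz.symm)
      rw [he] at hwz
      haveI := finite_pullback_stalk hF (f.fiberι (f z)) w
      haveI : IsLocallyNoetherian (f.fiber (f z)) := FlatOverBC.isLocallyNoetherian_fiber f _
      have := hmax w (specializes_iff_mem_closure.2 hwz) ((mem_ass_iff_depth _ w).1 hw).1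
      exact ⟨n, Finset.mem_singleton_self n, by rw [DimTheory.topologicalKrullDim_closure, this, hh]⟩
    exact key y₀ m z₀ rfl hmax hdim.symm
  refine ⟨f '' ({x | AssDimsIn f F {n} x} ∩ {z | Nontrivial (F.presheaf.stalk z)}), ?_,
    isOpen_image_inter_support f hF hflat (isOpen_assDimsIn f F hF hflat {n}),
    ⟨z₀, ⟨hU, (nontrivial_pullback_stalk_iff f hF y₀ m).1 hm⟩, hz₀⟩⟩
  rintro _ ⟨z, ⟨hzU, hzn⟩, rfl⟩
  obtain ⟨m', hm', hm'z, hmax'⟩ := (component_iff (hcl (f z))).2.2 (f.asFiber z)
    ((nontrivial_pullback_stalk_iff f hF _ _).2 ((Scheme.Hom.fiberι_asFiber f z).symm ▸ hzn))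
  obtain ⟨C', hC', hdim'⟩ := (component_iff (hcl (f z))).2.1 m' hm' hmax'
  haveI : Nontrivial (((Scheme.Modules.pullback (f.fiberι (f z))).obj F).presheaf.stalk m') := hm'
  obtain ⟨k, hk, hdimk⟩ := (assDimsIn_iff f hF _ z).1 hzU m' (mem_ass_of_maximal f hF _ m' hmax')
    hm'z.mem_closure
  rw [Finset.mem_singleton] at hk
  exact ⟨C', hC', by rw [hdim', ← DimTheory.topologicalKrullDim_closure, hdimk, hk]⟩

end Groth.Agent.RectDepth
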