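import Mathlib
import Groth.Agent.GeomRedAt.Basic
import Groth.Agent.CAlgSmFib.Basic
import Groth.Agent.RegLocus.Smooth
import Groth.Agent.ConstrFib.CMSmooth
import Groth.Agent.Unram.SpecLocal

/-!
Regular after every finite extension of the field at a point is smoothness at the point.
-/

set_option autoImplicit false
set_option linter.all false
set_option backward.isDefEq.respectTransparency false
set_option backward.isDefEq.respectTransparency.types false
noncomputable section

universe u

open CategoryTheory CategoryTheory.Limits AlgebraicGeometry TensorProduct IsLocalRing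

namespace Groth.Agent.RectDepth

variable {k : Type u} [Field k]

theorem isRegularRing_of_maximal (R : Type u) [CommRing R] [IsNoetherianRing R]
    (h : ∀ (M : Ideal R) [M.IsMaximal], IsRegularLocalRing (Localization.AtPrime M)) : IsRegularRing R := by
  refine ⟨fun Q hQ => ?_⟩
  obtain ⟨M, hM, hQM⟩ := Ideal.exists_le_maximal Q hQ.ne_top
  haveI := hM.isPrime
  haveI := h M
  haveI : (Q.map (algebraMap R (Localization.AtPrime M))).IsPrime :=
    IsLocalization.isPrime_of_isPrime_disjoint M.primeCompl _ Q ‹_›
      (Set.disjoint_left.2 fun x hx hxq => hx (hQM hxq))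
  exact (RegLocus.regular_localization_iff M Q hQM).1 (S0564.result _ _)

theorem isGeometricallyRegular_of_holdsOver (A : Type u) [CommRing A] [Algebra k A] [Algebra.FiniteType k A]
    (p : PrimeSpectrum A)
    (h : ∀ (K : Type u) [Field K] [Algebra k K], Module.Finite k K →
      GeomRedAt.HoldsOver (k := k) (fun R _ => IsRegularLocalRing R) A p K) :
    CAlg.IsGeometricallyRegular k (Localization.AtPrime p.asIdeal) := by
  intro K _ _ hfin
  haveI := hfin
  haveI : IsNoetherianRing A := Algebra.FiniteType.isNoetherianRing k A
  letI : Algebra (Localization.AtPrime p.asIdeal) (K ⊗[k] Localization.AtPrime p.asIdeal) :=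
    Algebra.TensorProduct.rightAlgebra
  haveI : Algebra.IsIntegral (Localization.AtPrime p.asIdeal) (K ⊗[k] Localization.AtPrime p.asIdeal) :=
    ⟨fun t => by
      have h := Algebra.IsIntegral.isIntegral (R := Localization.AtPrime p.asIdeal)
        ((Algebra.TensorProduct.comm k K (Localization.AtPrime p.asIdeal)) t)
      obtain ⟨q, hq, hev⟩ := h
      refine ⟨q, hq, (Algebra.TensorProduct.comm k K (Localization.AtPrime p.asIdeal)).injective ?_⟩
      rw [map_zero, ← hev]
      refine (Polynomial.hom_eval₂ q _ (Algebra.TensorProduct.comm k K (Localization.AtPrime p.asIdeal)).toRingEquiv.toRingHom t).trans ?_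
      rfl⟩
  haveI : IsNoetherianRing (K ⊗[k] Localization.AtPrime p.asIdeal) := by
    haveI : IsNoetherianRing (Localization.AtPrime p.asIdeal ⊗[k] K) :=
      Algebra.FiniteType.isNoetherianRing (Localization.AtPrime p.asIdeal) _
    exact isNoetherianRing_of_ringEquiv _ (Algebra.TensorProduct.comm k (Localization.AtPrime p.asIdeal) K).toRingEquiv
  refine isRegularRing_of_maximal _ fun M hM => ?_
  obtain ⟨Q, hQ, ⟨e⟩⟩ := GeomRedAt.exists_localizationEquiv A p K M
  have hmax : M.comap (Algebra.TensorProduct.includeRight (R := k) (A := K)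
      (B := Localization.AtPrime p.asIdeal)).toRingHom = IsLocalRing.maximalIdeal _ :=
    IsLocalRing.eq_maximalIdeal (Ideal.isMaximal_comap_of_isIntegral_of_isMaximal
      (R := Localization.AtPrime p.asIdeal) M)
  haveI := h K hfin Q (hQ.trans (PrimeSpectrum.ext (by
    show Ideal.comap (algebraMap A _) (Ideal.comap _ M) = p.asIdeal
    rw [hmax]
    exact Localization.AtPrime.comap_maximalIdeal)))
  exact IsRegularLocalRing.of_ringEquiv e.symm

theorem holdsOver_iff_isSmoothAt (A : Type u) [CommRing A] [Algebra k A] [Algebra.FiniteType k A]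
    (p : PrimeSpectrum A) :
    (∀ (K : Type u) [Field K] [Algebra k K], Module.Finite k K →
      GeomRedAt.HoldsOver (k := k) (fun R _ => IsRegularLocalRing R) A p K) ↔
      Algebra.IsSmoothAt k p.asIdeal := by
  haveI : IsNoetherianRing A := Algebra.FiniteType.isNoetherianRing k A
  let WP := Localization.AtPrime p.asIdeal
  haveI : IsNoetherianRing WP := IsLocalization.isNoetherianRing p.asIdeal.primeCompl _ inferInstance
  haveI : Algebra.EssFiniteType A WP := Algebra.EssFiniteType.of_isLocalization WP p.asIdeal.primeCompl
  haveI : Algebra.EssFiniteType k WP := Algebra.EssFiniteType.comp k A WP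
  haveI : IsLocalHom (algebraMap k WP) := ⟨fun a ha => isUnit_iff_ne_zero.2 fun h0 => by
    rw [h0, map_zero] at ha; exact not_isUnit_zero ha⟩
  constructor
  · intro h
    exact FSAdicDiscrete.formallySmooth_of_isFormallySmoothAdic k WP
      (CAlgAndre.adic_of_discrete (SymGr.isAdicFormallySmooth_of_isGeometricallyRegular
        (isGeometricallyRegular_of_holdsOver A p h)))
  · intro h K _ _ hfin Q hQ
    haveI : Algebra.FormallySmooth k WP := h
    have hg : CAlg.IsGeometricallyRegular k WP := SymGr.isGeometricallyRegular_of_isAdicFormallySmooth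
      (CAlgAndre.discrete_of_adic ⟨1, by rw [pow_one, IsLocalRing.maximalIdeal_eq_bot, Ideal.map_bot]; exact bot_le⟩
        (FSAdicDiscrete.isFormallySmoothAdic_of_formallySmooth k WP (maximalIdeal k) (maximalIdeal WP)))
    obtain ⟨M, ⟨e⟩⟩ := GeomRedAt.exists_prime_localization A p K Q hQ
    haveI : IsRegularLocalRing (Localization.AtPrime M.asIdeal) := (hg K hfin).isRegularLocalRing_localization _
    exact IsRegularLocalRing.of_ringEquiv (R := Localization.AtPrime M.asIdeal) e

/-- Regular after every finite extension of the field at a point is smoothness at the point. -/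
theorem geomRegular_iff_smooth {X : Scheme.{u}} (f : X ⟶ Spec (CommRingCat.of k)) [LocallyOfFinitePresentation f]
    (x : X) :
    (∀ (K : Type u) [Field K] [Algebra k K], Module.Finite k K →
      ∀ x' : FBase.bc f K, FBase.bcπ f K x' = x → IsRegularLocalRing ((FBase.bc f K).presheaf.stalk x')) ↔
      x ∈ f.smoothLocus := by
  obtain ⟨A, _, j, _, hj, p, rfl⟩ := GeomRedAt.exists_chart f x
  haveI : LocallyOfFinitePresentation (Spec.map (CommRingCat.ofHom (algebraMap k A))) := hj ▸ inferInstance
  haveI : Algebra.FinitePresentation k A :=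
    RingHom.finitePresentation_algebraMap.1 ((HasRingHomProperty.Spec_iff (P := @LocallyOfFinitePresentation)).1
      ‹LocallyOfFinitePresentation (Spec.map (CommRingCat.ofHom (algebraMap k A)))›)
  have hsm : j p ∈ f.smoothLocus ↔ Algebra.IsSmoothAt k p.asIdeal := by
    rw [← ConstrFib.mem_smoothLocus_comp_iff j f p, ← Unram.formallySmooth_stalkMap_SpecMap_iff]
    simp only [Scheme.Hom.mem_smoothLocus]
    rw [hj]
  rw [hsm, ← holdsOver_iff_isSmoothAt]
  refine forall_congr' fun K => forall_congr' fun _ => forall_congr' fun _ => forall_congr' fun _ => ?_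
  exact GeomRedAt.forall_stalk_iff (fun R _ => IsRegularLocalRing R)
    (fun e h => haveI := h; IsRegularLocalRing.of_ringEquiv e) f j hj p K

end Groth.Agent.RectDepth
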