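import Mathlib
import Groth.Agent.RectDepth.GeomReg
import Groth.Agent.RectDepth.StalkGen

/-!
The geometric condition `(R_k)` at a point, read on the smooth locus.
-/

set_option autoImplicit false
set_option linter.all false
set_option backward.isDefEq.respectTransparency.types false
noncomputable section

universe u

open CategoryTheory CategoryTheory.Limits AlgebraicGeometry IsLocalRing

namespace Groth.Agent.RectDepth

theorem nonempty_localization_stalk_equiv {Z : Scheme.{u}} (w : Z) (p : PrimeSpectrum (Z.presheaf.stalk w)) :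
    Nonempty (Localization.AtPrime p.asIdeal ≃+* Z.presheaf.stalk (specStalkEmb w p)) := by
  obtain ⟨V, hV, hw, -⟩ := exists_isAffineOpen_mem_and_subset (x := w) (U := ⊤) trivial
  let q := hV.primeIdealOf ⟨w, hw⟩
  have hy' : hV.fromSpec (PrimeSpectrum.comap (Z.presheaf.germ V w hw).hom p) = specStalkEmb w p := by
    rw [specStalkEmb, ← hV.fromSpecStalk_eq_fromSpecStalk hw]
    rfl
  have hyV : specStalkEmb w p ∈ V := hy' ▸ hV.range_fromSpec.le ⟨_, rfl⟩
  letI : Algebra Γ(Z, V) (Z.presheaf.stalk w) := (Z.presheaf.germ V w hw).hom.toAlgebra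
  haveI : IsLocalization.AtPrime (Z.presheaf.stalk w) q.asIdeal := hV.isLocalization_stalk ⟨w, hw⟩
  have hr : hV.primeIdealOf ⟨_, hyV⟩ = PrimeSpectrum.comap (algebraMap Γ(Z, V) (Z.presheaf.stalk w)) p :=
    hV.fromSpec.isOpenEmbedding.injective ((hV.fromSpec_primeIdealOf _).trans hy'.symm)
  let p' : Ideal Γ(Z, V) := p.asIdeal.comap (algebraMap Γ(Z, V) (Z.presheaf.stalk w))
  letI : Algebra Γ(Z, V) (Z.presheaf.stalk (specStalkEmb w p)) := (Z.presheaf.germ V _ hyV).hom.toAlgebra
  haveI : IsLocalization.AtPrime (Z.presheaf.stalk (specStalkEmb w p)) p' := by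
    have aux : ∀ (I J : Ideal Γ(Z, V)) [I.IsPrime] [J.IsPrime], I = J → IsLocalization.AtPrime (Z.presheaf.stalk (specStalkEmb w p)) I →
        IsLocalization.AtPrime (Z.presheaf.stalk (specStalkEmb w p)) J := fun I J _ _ e hh => by subst e; exact hh
    exact aux _ _ (congrArg PrimeSpectrum.asIdeal hr) (hV.isLocalization_stalk ⟨_, hyV⟩)
  haveI : IsLocalization.AtPrime (Localization.AtPrime p.asIdeal) p' :=
    IsLocalization.isLocalization_isLocalization_atPrime_isLocalization q.asIdeal.primeCompl _ p.asIdeal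
  exact ⟨(IsLocalization.algEquiv p'.primeCompl (Localization.AtPrime p.asIdeal) (Z.presheaf.stalk (specStalkEmb w p))).toRingEquiv⟩

/-- `(R_k)` of a stalk read on the generizations. -/
theorem hasRk_stalk_iff {Z : Scheme.{u}} (w : Z) (n : ℕ) :
    LocCoh.HasRk n (Z.presheaf.stalk w) ↔
      ∀ z : Z, z ⤳ w → ringKrullDim (Z.presheaf.stalk z) ≤ n → IsRegularLocalRing (Z.presheaf.stalk z) := by
  have hdim : ∀ p : PrimeSpectrum (Z.presheaf.stalk w),
      ringKrullDim (Z.presheaf.stalk (specStalkEmb w p)) = (p.asIdeal.height : WithBot ℕ∞) := fun p => by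
    obtain ⟨e⟩ := nonempty_localization_stalk_equiv w p
    rw [← ringKrullDim_eq_of_ringEquiv e, IsLocalization.AtPrime.ringKrullDim_eq_height p.asIdeal]
  constructor
  · intro h z hz hd
    obtain ⟨p, rfl⟩ := exists_specStalkEmb w z hz
    obtain ⟨e⟩ := nonempty_localization_stalk_equiv w p
    rw [hdim] at hd
    haveI := h p.asIdeal (WithBot.coe_le_coe.1 hd)
    exact IsRegularLocalRing.of_ringEquiv e
  · intro h p hp hh
    obtain ⟨e⟩ := nonempty_localization_stalk_equiv w ⟨p, hp⟩
    haveI := h _ (specStalkEmb_le w ⟨p, hp⟩) (by rw [hdim]; exact WithBot.coe_le_coe.2 hh)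
    exact IsRegularLocalRing.of_ringEquiv e.symm

variable {X' X : Scheme.{u}} (π : X' ⟶ X) [IsFinite π] [Flat π]

theorem strictMono_of_isFinite : StrictMono (fun z : X' => π z) := by
  intro a b h
  have h' : π b ⤳ π a := (show b ⤳ a from h.le).map π.continuous
  refine lt_of_le_not_ge h' fun he => h.not_ge ?_
  have heq : π b = π a := (h'.antisymm he).eq
  have hd := (π.isDiscrete_preimage_singleton (π a)).to_subtype
  have : (⟨b, heq⟩ : π ⁻¹' {π a}) ⤳ ⟨a, rfl⟩ := (subtype_specializes_iff _ _).2 (show b ⤳ a from h.le)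
  exact le_of_eq (congrArg Subtype.val this.eq)

theorem ringKrullDim_stalk_finite_flat (z' : X') :
    ringKrullDim (X'.presheaf.stalk z') = ringKrullDim (X.presheaf.stalk (π z')) := by
  rw [ringKrullDim_stalk_eq_coheight, ringKrullDim_stalk_eq_coheight]
  refine congrArg _ (le_antisymm (Order.coheight_le_coheight_apply_of_strictMono _ (strictMono_of_isFinite π) z') ?_)
  suffices ∀ (m : ℕ) (z' : X'), (m : ℕ∞) ≤ Order.coheight (π z') → (m : ℕ∞) ≤ Order.coheight z' by
    cases hh : Order.coheight (π z') with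
    | top => exact top_le_iff.2 (ENat.eq_top_iff_forall_ge.2 fun m => this m z' (by rw [hh]; exact le_top)) |> fun h => h
    | coe m => exact this m z' hh.ge
  intro m
  induction m with
  | zero => intro z' _; exact bot_le
  | succ m ih =>
    intro z' h
    obtain ⟨l, hl, hlen⟩ := Order.exists_series_of_le_coheight (π z') h
    have hlt : π z' < l ⟨1, by omega⟩ := by
      rw [← hl]
      exact l.strictMono (show (0 : Fin (l.length + 1)) < ⟨1, by omega⟩ from Nat.zero_lt_one)
    obtain ⟨w, hw, hwe⟩ := Flat.generalizingMap π (show l ⟨1, by omega⟩ ⤳ π z' from hlt.le)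
    have h1 : (m : ℕ∞) ≤ Order.coheight (l ⟨1, by omega⟩) := by
      refine le_trans ?_ (Order.rev_index_le_coheight l ⟨1, by omega⟩)
      simp [Fin.rev, hlen]
    have hlt' : z' < w := lt_of_le_not_ge hw fun h' => hlt.not_ge (by
      rw [← hwe]; exact (show z' ⤳ w from h').map π.continuous)
    refine le_trans ?_ (Order.coheight_add_one_le hlt')
    push_cast
    exact add_le_add (ih w (hwe ▸ h1)) le_rfl

variable {k : Type u} [Field k]

/-- Geometric `(R_k)` at a point: smooth at the generizations of small dimension. -/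
theorem geomRk_iff {Z : Scheme.{u}} (f : Z ⟶ Spec (CommRingCat.of k)) [LocallyOfFinitePresentation f] (x : Z) (n : ℕ) :
    (∀ (K : Type u) [Field K] [Algebra k K], Module.Finite k K →
      ∀ x' : FBase.bc f K, FBase.bcπ f K x' = x → LocCoh.HasRk n ((FBase.bc f K).presheaf.stalk x')) ↔
      ∀ z : Z, z ⤳ x → ringKrullDim (Z.presheaf.stalk z) ≤ n → z ∈ f.smoothLocus := by
  have hπ : ∀ (K : Type u) [Field K] [Algebra k K], Module.Finite k K →
      IsFinite (FBase.bcπ f K) ∧ Flat (FBase.bcπ f K) := fun K _ _ hK => by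
    haveI : IsFinite (Spec.map (CommRingCat.ofHom (algebraMap k K))) :=
      (IsFinite.SpecMap_iff _).2 (RingHom.finite_algebraMap.2 hK)
    haveI : Flat (Spec.map (CommRingCat.ofHom (algebraMap k K))) :=
      Flat.SpecMap_iff.2 (RingHom.flat_algebraMap_iff.2 inferInstance)
    exact ⟨MorphismProperty.pullback_fst _ _ inferInstance, MorphismProperty.pullback_fst _ _ inferInstance⟩
  constructor
  · intro h z hz hd
    rw [← geomRegular_iff_smooth]
    intro K _ _ hK z' hz'
    obtain ⟨hf, hfl⟩ := hπ K hK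
    obtain ⟨x', hx', hx'e⟩ : ∃ x' : FBase.bc f K, z' ⤳ x' ∧ FBase.bcπ f K x' = x := by
      have hcl := (FBase.bcπ f K).isClosedMap _ (isClosed_closure (s := ({z'} : Set (FBase.bc f K))))
      obtain ⟨x', h1, h2⟩ := (show z ⤳ x from hz).mem_closed hcl ⟨z', subset_closure rfl, hz'⟩
      exact ⟨x', specializes_iff_mem_closure.2 h1, h2⟩
    refine (hasRk_stalk_iff x' n).1 (h K hK x' hx'e) z' hx' ?_
    rw [ringKrullDim_stalk_finite_flat (FBase.bcπ f K) z', hz']
    exact hd
  · intro h K _ _ hK x' hx'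
    obtain ⟨hf, hfl⟩ := hπ K hK
    rw [hasRk_stalk_iff]
    intro z' hz' hd
    rw [ringKrullDim_stalk_finite_flat (FBase.bcπ f K) z'] at hd
    exact (geomRegular_iff_smooth f (FBase.bcπ f K z')).2
      (h _ (hx' ▸ (show z' ⤳ x' from hz').map (FBase.bcπ f K).continuous) hd) K hK z' rfl

end Groth.Agent.RectDepth
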