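import Mathlib
import Groth.Agent.RectDepth.StalkGen
import Groth.Agent.RectDepth.AssDims

/-!
Equidimensionality together with `(S_k)` for the fibre stalk of a module.
-/

set_option autoImplicit false
set_option synthInstance.maxHeartbeats 80000
set_option linter.all false
noncomputable section

universe u

open CategoryTheory Limits AlgebraicGeometry TopologicalSpace IsLocalRing
open Groth.Agent.FlatOver

namespace Groth.Agent.RectDepth

variable {X Y : Scheme.{u}} (f : X ⟶ Y)

theorem hasSk_mod_fibre_iff [LocallyOfFiniteType f] {F : X.Modules} (hF : CohB1.IsFP F) (k : ℕ) (x : X) :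
    LocCoh.HasSk k ((f.fiber (f x)).presheaf.stalk (f.asFiber x))
        (((Scheme.Modules.pullback (f.fiberι (f x))).obj F).presheaf.stalk (f.asFiber x)) ↔
      ∀ z : X, z ⤳ x → f z = f x → MIneq f F k z := by
  have hN : IsLocallyNoetherian (f.fiber (f x)) := FlatOverBC.isLocallyNoetherian_fiber f _
  set G := (Scheme.Modules.pullback (f.fiberι (f x))).obj F
  haveI : G.IsQuasicoherent := isQuasicoherent_of_isFP (ModStA.isFP_pullback (f.fiberι (f x)) hF)
  haveI := finite_pullback_stalk hF (f.fiberι (f x)) (f.asFiber x)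
  rw [hasSk_stalk_iff G]
  have h := forall_fiber_iff f (fun y w => f.fiberι y w ⤳ x →
    min (k : WithBot ℕ∞) (Module.supportDim ((f.fiber y).presheaf.stalk w)
      (((Scheme.Modules.pullback (f.fiberι y)).obj F).presheaf.stalk w)) ≤
      (LocCoh.depth ((f.fiber y).presheaf.stalk w)
        (((Scheme.Modules.pullback (f.fiberι y)).obj F).presheaf.stalk w) : WithBot ℕ∞)) (f x)
  have hs : ∀ w : f.fiber (f x), w ⤳ f.asFiber x ↔ f.fiberι (f x) w ⤳ x := fun w => by
    rw [← (f.fiberι (f x)).isEmbedding.isInducing.specializes_iff, Scheme.Hom.fiberι_asFiber]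
  simp only [hs]
  rw [h]
  simp only [Scheme.Hom.fiberι_asFiber, MIneq, depthAt]
  exact ⟨fun h z hz hfz => h z hfz hz, fun h z hfz hz => h z hz hfz⟩

theorem equidim_hasSk_iff [LocallyOfFiniteType f] {F : X.Modules} (hF : CohB1.IsFP F) {k : ℕ} (hk : 1 ≤ k) (x : X) :
    (EGA4.IsEquidimModule ((f.fiber (f x)).presheaf.stalk (f.asFiber x))
        (((Scheme.Modules.pullback (f.fiberι (f x))).obj F).presheaf.stalk (f.asFiber x)) ∧
      LocCoh.HasSk k ((f.fiber (f x)).presheaf.stalk (f.asFiber x))
        (((Scheme.Modules.pullback (f.fiberι (f x))).obj F).presheaf.stalk (f.asFiber x))) ↔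
      (∀ z : X, z ⤳ x → f z = f x → MIneq f F k z) ∧ ∃ r : ℕ, AssDimsIn f F {r} x := by
  have hN : IsLocallyNoetherian (f.fiber (f x)) := FlatOverBC.isLocallyNoetherian_fiber f _
  set G := (Scheme.Modules.pullback (f.fiberι (f x))).obj F
  haveI : G.IsQuasicoherent := isQuasicoherent_of_isFP (ModStA.isFP_pullback (f.fiberι (f x)) hF)
  haveI := finite_pullback_stalk hF (f.fiberι (f x)) (f.asFiber x)
  rw [and_comm, hasSk_mod_fibre_iff f hF]
  refine and_congr_right fun hS => ?_
  rw [@isEquidimModule_stalk_iff (f.fiber (f x)) (Y.residueField (f x)) _ (f.fiberToSpecResidueField (f x))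
    (locallyOfFiniteType_fiber f (f x)) hN G _ (f.asFiber x) _]
  have hsdim : ∀ z : X, z ⤳ x → f z = f x →
      ∀ [Nontrivial (((Scheme.Modules.pullback (f.fiberι (f z))).obj F).presheaf.stalk (f.asFiber z))],
      (Module.supportDim ((f.fiber (f z)).presheaf.stalk (f.asFiber z))
        (((Scheme.Modules.pullback (f.fiberι (f z))).obj F).presheaf.stalk (f.asFiber z)) ≤ 0 ↔ depthAt f F z = 0) := by
    intro z hzx hfz _
    obtain ⟨t, d, h, -, -, htd, -, hin, hd, ht⟩ := exists_invariants_mod f hF z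
    have h1 := (hin k).1 (hS z hzx hfz)
    rw [hd, ht, Nat.cast_eq_zero, show (0 : WithBot ℕ∞) = ((0 : ℕ) : WithBot ℕ∞) from rfl, Nat.cast_le]
    omega
  refine exists_congr fun r => ?_
  have h := forall_fiber_iff f (fun y w => f.fiberι y w ⤳ x →
    Nontrivial (((Scheme.Modules.pullback (f.fiberι y)).obj F).presheaf.stalk w) →
      Module.supportDim ((f.fiber y).presheaf.stalk w)
        (((Scheme.Modules.pullback (f.fiberι y)).obj F).presheaf.stalk w) ≤ 0 → Order.height w = (r : ℕ∞)) (f x)
  have hs : ∀ w : f.fiber (f x), f.fiberι (f x) w ⤳ x ↔ w ⤳ f.asFiber x := fun w => by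
    rw [← (f.fiberι (f x)).isEmbedding.isInducing.specializes_iff, Scheme.Hom.fiberι_asFiber]
  simp only [hs, Scheme.Hom.fiberι_asFiber] at h
  refine h.trans ?_
  constructor
  · intro h z hzx hfz hn hd
    haveI := hn
    exact ⟨r, Finset.mem_singleton_self r, h z hfz hzx hn ((hsdim z hzx hfz).2 hd)⟩
  · intro h z hfz hzx hn hd
    haveI := hn
    obtain ⟨n, hn', hh⟩ := h z hzx hfz hn ((hsdim z hzx hfz).1 hd)
    rw [Finset.mem_singleton] at hn'
    rw [hh, hn']

/-- The equidimensional `(S_k)` locus of a flat module is open for `k ≥ 1`. -/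
theorem isOpen_equidim_hasSk [LocallyOfFinitePresentation f] (F : X.Modules) (hF : CohB1.IsFP F)
    (hflat : FlatMod.IsFlatOver f F) {k : ℕ} (hk : 1 ≤ k) :
    IsOpen {x : X | EGA4.IsEquidimModule ((f.fiber (f x)).presheaf.stalk (f.asFiber x))
        (((Scheme.Modules.pullback (f.fiberι (f x))).obj F).presheaf.stalk (f.asFiber x)) ∧
      LocCoh.HasSk k ((f.fiber (f x)).presheaf.stalk (f.asFiber x))
        (((Scheme.Modules.pullback (f.fiberι (f x))).obj F).presheaf.stalk (f.asFiber x))} := by
  simp only [equidim_hasSk_iff f hF hk, Set.ofPred_and, Set.ofPred_exists]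
  exact (isOpen_forall_mIneq f F hF hflat k).inter (isOpen_iUnion fun r => isOpen_assDimsIn f F hF hflat {r})

end Groth.Agent.RectDepth
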