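import Mathlib
import Groth.Agent.RectDepth.EquidimSk
import Groth.Agent.LeadInv.Basic
import Groth.Agent.TensorMod.FinLocFree
import Groth.Agent.CAlgSerre.Reduced
import Groth.Prelude.Def_PicLoc

/-!
The structure module as a flat module: equidimensional fibres without embedded points.
-/

set_option autoImplicit false
set_option synthInstance.maxHeartbeats 80000
set_option linter.all false
noncomputable section

universe u

open CategoryTheory Limits AlgebraicGeometry TopologicalSpace IsLocalRing TensorProduct

namespace Groth.Agent.RectDepth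

variable {X Y : Scheme.{u}} (f : X ⟶ Y)

theorem isFP_structureModule (X : Scheme.{u}) : CohB1.IsFP (Coh.structureModule X) :=
  TensorMod.isFP_of_isInvertible (PicLoc.isInvertible_structureModule X)

theorem isFlatOver_structureModule [Flat f] : FlatMod.IsFlatOver f (Coh.structureModule X) := by
  intro x
  show @Module.Flat _ _ _ _ (FlatMod.moduleStalkOver f (Coh.structureModule X) x)
  letI := FlatMod.moduleStalkOver f (Coh.structureModule X) x
  letI : Algebra (Y.presheaf.stalk (f.base x)) (X.presheaf.stalk x) := (f.stalkMap x).hom.toAlgebra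
  haveI : Module.Flat (Y.presheaf.stalk (f.base x)) (X.presheaf.stalk x) := Flat.stalkMap f x
  exact Module.Flat.of_linearEquiv
    ({ (LeadInv.stalkUnit x).toAddEquiv with
      map_smul' := fun r a => (LeadInv.stalkUnit x).map_smul (algebraMap _ (X.presheaf.stalk x) r) a } :
      X.presheaf.stalk x ≃ₗ[Y.presheaf.stalk (f.base x)] (Coh.structureModule X).presheaf.stalk x).symm

/-- The restriction of the structure module to a fibre has the local rings as stalks. -/
theorem nonempty_stalk_equiv (y : Y) (w : f.fiber y) :
    Nonempty (((Scheme.Modules.pullback (f.fiberι y)).obj (Coh.structureModule X)).presheaf.stalk w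
      ≃ₗ[(f.fiber y).presheaf.stalk w] (f.fiber y).presheaf.stalk w) := by
  let O := X.presheaf.stalk (f.fiberι y w)
  let Rf := (f.fiber y).presheaf.stalk w
  letI : Algebra O Rf := ((f.fiberι y).stalkMap w).hom.toAlgebra
  let M := (Coh.structureModule X).presheaf.stalk (f.fiberι y w)
  let u : O ≃ₗ[O] M := LeadInv.stalkUnit (f.fiberι y w)
  let e : ((Scheme.Modules.pullback (f.fiberι y)).obj (Coh.structureModule X)).presheaf.stalk w ≃ₗ[Rf] Rf ⊗[O] M :=
    ((DCohBridge.stalkPullIso (f.fiberι y) w).app (Coh.structureModule X)).toLinearEquiv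
  exact ⟨e.trans ((AlgebraTensorModule.congr (LinearEquiv.refl Rf Rf) u.symm).trans (AlgebraTensorModule.rid O Rf Rf))⟩

theorem isEquidimModule_congr {R M N : Type u} [CommRing R] [AddCommGroup M] [Module R M] [AddCommGroup N] [Module R N]
    (e : M ≃ₗ[R] N) : EGA4.IsEquidimModule R M ↔ EGA4.IsEquidimModule R N := by
  rw [EGA4.IsEquidimModule, EGA4.IsEquidimModule, e.annihilator_eq, Module.supportDim_eq_of_equiv e]

theorem hasSk_congr {R M N : Type u} [CommRing R] [AddCommGroup M] [Module R M] [AddCommGroup N] [Module R N]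
    (k : ℕ) (e : M ≃ₗ[R] N) : LocCoh.HasSk k R M ↔ LocCoh.HasSk k R N := by
  refine forall_congr' fun p => forall_congr' fun hp => ?_
  let e' := IsLocalizedModule.mapEquiv p.primeCompl (LocalizedModule.mkLinearMap p.primeCompl M)
    (LocalizedModule.mkLinearMap p.primeCompl N) (Localization.AtPrime p) e
  rw [Module.supportDim_eq_of_equiv e', Depth.depth_congr e']

theorem isEquidimModule_self {R : Type u} [CommRing R] : EGA4.IsEquidimModule R R ↔ EGA4.IsEquidim R := by
  rw [EGA4.IsEquidimModule, CAlgSerre.annihilator_self, Module.supportDim_self_eq_ringKrullDim]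
  exact Iff.rfl

theorem equidim_noEmbedded_iff [LocallyOfFiniteType f] (x : X) :
    (EGA4.IsEquidim ↑((f.fiber (f x)).presheaf.stalk (f.asFiber x)) ∧
      ∀ p ∈ associatedPrimes ↑((f.fiber (f x)).presheaf.stalk (f.asFiber x)) ↑((f.fiber (f x)).presheaf.stalk (f.asFiber x)),
        p ∈ minimalPrimes ↑((f.fiber (f x)).presheaf.stalk (f.asFiber x))) ↔
      (∀ z : X, z ⤳ x → f z = f x → MIneq f (Coh.structureModule X) 1 z) ∧
        ∃ r : ℕ, AssDimsIn f (Coh.structureModule X) {r} x := by
  haveI : IsLocallyNoetherian (f.fiber (f x)) := FlatOverBC.isLocallyNoetherian_fiber f _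
  obtain ⟨e⟩ := nonempty_stalk_equiv f (f x) (f.asFiber x)
  rw [← equidim_hasSk_iff f (isFP_structureModule X) le_rfl, isEquidimModule_congr e, hasSk_congr 1 e,
    isEquidimModule_self, CAlgSerre.hasSk_one_ring_iff]

/-- The points of equidimensional fibres without embedded associated points form an open set. -/
theorem isOpen_equidim_noEmbedded [Flat f] [LocallyOfFinitePresentation f] :
    IsOpen {x : X | EGA4.IsEquidim ↑((f.fiber (f x)).presheaf.stalk (f.asFiber x)) ∧
      ∀ p ∈ associatedPrimes ↑((f.fiber (f x)).presheaf.stalk (f.asFiber x)) ↑((f.fiber (f x)).presheaf.stalk (f.asFiber x)),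
        p ∈ minimalPrimes ↑((f.fiber (f x)).presheaf.stalk (f.asFiber x))} := by
  simp only [equidim_noEmbedded_iff f, Set.ofPred_and, Set.ofPred_exists]
  exact (isOpen_forall_mIneq f _ (isFP_structureModule X) (isFlatOver_structureModule f) 1).inter
    (isOpen_iUnion fun r => isOpen_assDimsIn f _ (isFP_structureModule X) (isFlatOver_structureModule f) {r})

end Groth.Agent.RectDepth
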