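import Mathlib
import Groth.Agent.RectDepth.GeomRk
import Groth.Agent.RectDepth.UnitMod
import Groth.Agent.RectDepth.CompDims

/-!
Openness of geometric `(R_k)` on equidimensional fibres without embedded points.
-/

set_option autoImplicit false
set_option linter.all false
set_option backward.isDefEq.respectTransparency.types false
noncomputable section

universe u

open CategoryTheory CategoryTheory.Limits AlgebraicGeometry TopologicalSpace IsLocalRing

namespace Groth.Agent.RectDepth

variable {X Y : Scheme.{u}} (f : X ⟶ Y)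

/-- Smooth at all generizations in the fibre with small local ring of the fibre. -/
def RkPt [LocallyOfFinitePresentation f] (n : ℕ) (x : X) : Prop :=
  ∀ z : X, z ⤳ x → f z = f x →
    ringKrullDim ((f.fiber (f z)).presheaf.stalk (f.asFiber z)) ≤ n → z ∈ f.smoothLocus

theorem geomRk_fibre_iff' [LocallyOfFinitePresentation f] (n : ℕ) (x : X) (hflat : ∀ z : X, z ⤳ x → (f.stalkMap z).hom.Flat) :
    (∀ (K : Type u) [Field K] [Algebra (IsLocalRing.ResidueField (Y.presheaf.stalk (f x))) K],
      Module.Finite (IsLocalRing.ResidueField (Y.presheaf.stalk (f x))) K →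
      ∀ x' : ↥(FBase.bc (f.fiberToSpecResidueField (f x)) K),
        (FBase.bcπ (f.fiberToSpecResidueField (f x)) K).base x' = f.asFiber x →
        LocCoh.HasRk n ((FBase.bc (f.fiberToSpecResidueField (f x)) K).presheaf.stalk x')) ↔ RkPt f n x := by
  haveI hl : ∀ y, LocallyOfFinitePresentation (f.fiberToSpecResidueField y) := fun y =>
    inferInstanceAs (LocallyOfFinitePresentation (pullback.snd f _))
  refine (@geomRk_iff (Y.residueField (f x)) _ _ (f.fiberToSpecResidueField (f x)) (hl _) (f.asFiber x) n).trans ?_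
  have h := forall_fiber_iff f (fun y w => f.fiberι y w ⤳ x →
    ringKrullDim ((f.fiber y).presheaf.stalk w) ≤ n → w ∈ (f.fiberToSpecResidueField y).smoothLocus) (f x)
  have hs : ∀ w : f.fiber (f x), f.fiberι (f x) w ⤳ x ↔ w ⤳ f.asFiber x := fun w => by
    rw [← (f.fiberι (f x)).isEmbedding.isInducing.specializes_iff, Scheme.Hom.fiberι_asFiber]
  simp only [hs, Scheme.Hom.fiberι_asFiber] at h
  refine h.trans ?_
  constructor
  · intro h z hzx hfz hd
    exact (SmoothPt.mem_smoothLocus_iff f).2 ⟨hflat z hzx, h z hfz hzx hd⟩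
  · intro h z hfz hzx hd
    exact ((SmoothPt.mem_smoothLocus_iff f).1 (h z hzx hfz hd)).2

theorem geomRk_fibre_iff [Flat f] [LocallyOfFinitePresentation f] (n : ℕ) (x : X) :
    (∀ (K : Type u) [Field K] [Algebra (IsLocalRing.ResidueField (Y.presheaf.stalk (f x))) K],
      Module.Finite (IsLocalRing.ResidueField (Y.presheaf.stalk (f x))) K →
      ∀ x' : ↥(FBase.bc (f.fiberToSpecResidueField (f x)) K),
        (FBase.bcπ (f.fiberToSpecResidueField (f x)) K).base x' = f.asFiber x →
        LocCoh.HasRk n ((FBase.bc (f.fiberToSpecResidueField (f x)) K).presheaf.stalk x')) ↔ RkPt f n x :=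
  geomRk_fibre_iff' f n x fun z _ => Flat.stalkMap f z

/-- Above a point whose associated dimensions are all `r`, dimension plus height is `r`. -/
theorem ringKrullDim_add_height [LocallyOfFinitePresentation f] {r : ℕ} {x z : X}
    (hA : AssDimsIn f (Coh.structureModule X) {r} x) (hzx : z ⤳ x) (hfz : f z = f x) :
    ringKrullDim ((f.fiber (f z)).presheaf.stalk (f.asFiber z)) + (Order.height (f.asFiber z) : WithBot ℕ∞) =
      (r : WithBot ℕ∞) := by
  have hlft := locallyOfFiniteType_fiber f (f z)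
  obtain ⟨m, hm, hmax, hmh⟩ := @DimTheory.exists_height_eq_add_coheight (Y.residueField (f z)) _ _
    (f.fiberToSpecResidueField (f z)) hlft (f.asFiber z)
  rw [ringKrullDim_stalk_eq_coheight, ← WithBot.coe_add, add_comm, ← hmh]
  let zm := f.fiberι (f z) m
  have hfzm : f zm = f z := (Scheme.Hom.range_fiberι f (f z)).le ⟨m, rfl⟩
  have hzmx : zm ⤳ x := by
    have h1 := (show m ⤳ f.asFiber z from hm).map (f.fiberι (f z)).continuous
    rw [Scheme.Hom.fiberι_asFiber] at h1
    exact h1.trans hzx
  have key : ∀ (y : Y) (m : f.fiber y) (zm : X), f.fiberι y m = zm → (∀ w, w ⤳ m → w = m) →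
      Nontrivial (((Scheme.Modules.pullback (f.fiberι (f zm))).obj (Coh.structureModule X)).presheaf.stalk (f.asFiber zm)) ∧
      depthAt f (Coh.structureModule X) zm = 0 ∧ Order.height m = Order.height (f.asFiber zm) := by
    intro y m zm hz hmax
    have hy : f zm = y := hz ▸ (Scheme.Hom.range_fiberι f y).le ⟨m, rfl⟩
    subst hy
    obtain rfl : f.asFiber zm = m :=
      (f.fiberι (f zm)).isEmbedding.injective ((Scheme.Hom.fiberι_asFiber f zm).trans hz.symm)
    have hF := isFP_structureModule X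
    haveI hN : IsLocallyNoetherian (f.fiber (f zm)) := FlatOverBC.isLocallyNoetherian_fiber f _
    obtain ⟨e⟩ := nonempty_stalk_equiv f (f zm) (f.asFiber zm)
    haveI : Nontrivial (((Scheme.Modules.pullback (f.fiberι (f zm))).obj (Coh.structureModule X)).presheaf.stalk (f.asFiber zm)) :=
      e.toEquiv.nontrivial
    have hass := mem_ass_of_maximal f hF (f zm) (f.asFiber zm) (fun w hw _ => hmax w hw)
    haveI := finite_pullback_stalk hF (f.fiberι (f zm)) (f.asFiber zm)
    exact ⟨inferInstance, ((mem_ass_iff_depth _ _).1 hass).2, rfl⟩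
  obtain ⟨hn, hd, hh⟩ := key (f z) m zm rfl (fun w hw => (hw.antisymm (hmax w hw)).eq)
  obtain ⟨n, hn', hh'⟩ := hA zm hzmx (hfzm.trans hfz) hn hd
  rw [Finset.mem_singleton] at hn'
  rw [hh, hh', hn']
  rfl

/-- The points above which all fibre components have dimension `r` and geometric `(R_n)` holds form an open set. -/
theorem isOpen_rkPt [Flat f] [LocallyOfFinitePresentation f] (n r : ℕ) :
    IsOpen {x : X | AssDimsIn f (Coh.structureModule X) {r} x ∧ RkPt f n x} := by
  let W : Closeds X := ⟨(f.smoothLocus : Set X)ᶜ, f.smoothLocus.2.isClosed_compl⟩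
  let ι : (Scheme.IdealSheafData.vanishingIdeal W).subscheme ⟶ X :=
    (Scheme.IdealSheafData.vanishingIdeal W).subschemeι
  have hι : Set.range ι = (W : Set X) := by
    rw [Scheme.IdealSheafData.range_subschemeι, Scheme.IdealSheafData.coe_support_vanishingIdeal]
  let B : Set X := ι '' {c | r ≤ n ∨ ¬ FlatMor.fibreDimAt (ι ≫ f) c ≤ ((r - (n + 1) : ℕ) : WithBot ℕ∞)}
  have hB : IsClosed B := by
    refine ι.isClosedEmbedding.isClosedMap _ ?_
    by_cases h : r ≤ n
    · simp [h]
    · simp only [h, false_or]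
      exact (FibreDimChart.isOpen_fibreDimAt_le (ι ≫ f) _).isClosed_compl
  suffices {x : X | AssDimsIn f (Coh.structureModule X) {r} x ∧ RkPt f n x} =
      {x : X | AssDimsIn f (Coh.structureModule X) {r} x} ∩ Bᶜ by
    rw [this]
    exact (isOpen_assDimsIn f _ (isFP_structureModule X) (isFlatOver_structureModule f) {r}).inter hB.isOpen_compl
  ext x
  constructor
  · rintro ⟨hA, hR⟩
    refine ⟨hA, ?_⟩
    rintro ⟨c, hc, hcx⟩
    let g := ι ≫ f
    have hlftg := locallyOfFiniteType_fiber g (g c)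
    obtain ⟨m, hm, -, hmh⟩ := @DimTheory.exists_height_eq_add_coheight (Y.residueField (g c)) _ _
      (g.fiberToSpecResidueField (g c)) hlftg (g.asFiber c)
    let zz := g.fiberι (g c) m
    have hgz : g zz = g c := (Scheme.Hom.range_fiberι g (g c)).le ⟨m, rfl⟩
    have hsp : zz ⤳ c := by
      have h1 := (show m ⤳ g.asFiber c from hm).map (g.fiberι (g c)).continuous
      rwa [Scheme.Hom.fiberι_asFiber] at h1
    have hzx : ι zz ⤳ x := hcx ▸ hsp.map ι.continuous
    have hfz : f (ι zz) = f x := by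
      rw [← hcx, ← Scheme.Hom.comp_apply, ← Scheme.Hom.comp_apply]; exact hgz
    have hnsm : ι zz ∉ f.smoothLocus := hι.le ⟨zz, rfl⟩
    have hfd : FlatMor.fibreDimAt g c = (Order.height (f.asFiber (ι zz)) : WithBot ℕ∞) := by
      rw [FlatMor.fibreDimAt, @FieldExtLD.localDim_eq (Y.residueField (g c)) _ _
        (g.fiberToSpecResidueField (g c)) hlftg, ← hmh, height_eq_of_fiberι g _ m zz rfl,
        height_asFiber_comp f ι zz]
    obtain ⟨t, d, h, -, hd, hh, -⟩ := exists_invariants f (ι zz)
    have hfd' := ringKrullDim_add_height f hA hzx hfz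
    have hdfz : ringKrullDim ((f.fiber (f (ι zz))).presheaf.stalk (f.asFiber (ι zz))) = (d : WithBot ℕ∞) := by
      obtain ⟨e⟩ := FlatLocalDepth.nonempty_asFiber_stalk_equiv f (ι zz)
      let e' : (X.presheaf.stalk (ι zz) ⧸ baseIdeal f (ι zz)) ≃+* (f.fiber (f (ι zz))).presheaf.stalk (f.asFiber (ι zz)) := e
      rw [← ringKrullDim_eq_of_ringEquiv e', hd]
    rw [hdfz, hh] at hfd'
    have hdh : d + h = r := by exact_mod_cast hfd'
    have hbad : ¬ d ≤ n := fun hdn => hnsm (hR _ hzx hfz (by rw [hdfz]; exact_mod_cast hdn))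
    rcases hc with hrn | hnle
    · omega
    · apply hnle
      rw [hfd, hh]
      exact WithBot.coe_le_coe.2 (Nat.cast_le.2 (show h ≤ r - (n + 1) by omega))
  · rintro ⟨hA, hxB⟩
    refine ⟨hA, fun z hzx hfz hdim => ?_⟩
    by_contra hns
    obtain ⟨zx, hzx'⟩ := hι.ge (hzx.mem_closed W.isClosed hns)
    obtain ⟨zz, hzz⟩ := hι.ge (show z ∈ (W : Set X) from hns)
    have hsp : zz ⤳ zx := by
      refine ι.isEmbedding.isInducing.specializes_iff.1 ?_
      rw [hzz, hzx']; exact hzx
    obtain ⟨t, d, h, -, hd, hh, -⟩ := exists_invariants f z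
    have hdfz : ringKrullDim ((f.fiber (f z)).presheaf.stalk (f.asFiber z)) = (d : WithBot ℕ∞) := by
      obtain ⟨e⟩ := FlatLocalDepth.nonempty_asFiber_stalk_equiv f z
      let e' : (X.presheaf.stalk z ⧸ baseIdeal f z) ≃+* (f.fiber (f z)).presheaf.stalk (f.asFiber z) := e
      rw [← ringKrullDim_eq_of_ringEquiv e', hd]
    have hfd' := ringKrullDim_add_height f hA hzx hfz
    rw [hdfz] at hdim
    rw [hdfz, hh] at hfd'
    have hdh : d + h = r := by exact_mod_cast hfd'
    have hdn : d ≤ n := by exact_mod_cast hdim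
    have hle : (h : WithBot ℕ∞) ≤ FlatMor.fibreDimAt (ι ≫ f) zx := by
      refine le_trans ?_ (FibreDimChart.fibreDimAt_le_of_specializes _ hsp)
      rw [fibreDimAt_eq_add, height_asFiber_comp f ι zz, hzz, hh]
      obtain ⟨t', d', h', -, hd', -⟩ := exists_invariants (ι ≫ f) zz
      rw [hd']
      exact_mod_cast (show h ≤ d' + h by omega)
    refine hxB ⟨zx, ?_, hzx'⟩
    rcases Nat.lt_or_ge n r with hlt | hge
    · refine Or.inr fun hle' => ?_
      have : h ≤ r - (n + 1) := (Nat.cast_le (α := WithBot ℕ∞)).1 (hle.trans hle')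
      omega
    · exact Or.inl hge

/-- Geometric `(R_n)` with equidimensionality and no embedded points is open. -/
theorem isOpen_geomRk_equidim_noEmbedded [Flat f] [LocallyOfFinitePresentation f] (n : ℕ) :
    IsOpen {x : X | (∀ (K : Type u) [Field K] [Algebra (IsLocalRing.ResidueField (Y.presheaf.stalk (f x))) K],
        Module.Finite (IsLocalRing.ResidueField (Y.presheaf.stalk (f x))) K →
        ∀ x' : ↥(FBase.bc (f.fiberToSpecResidueField (f x)) K),
          (FBase.bcπ (f.fiberToSpecResidueField (f x)) K).base x' = f.asFiber x →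
          LocCoh.HasRk n ((FBase.bc (f.fiberToSpecResidueField (f x)) K).presheaf.stalk x')) ∧
      EGA4.IsEquidim ↑((f.fiber (f x)).presheaf.stalk (f.asFiber x)) ∧
      (∀ p ∈ associatedPrimes ↑((f.fiber (f x)).presheaf.stalk (f.asFiber x)) ↑((f.fiber (f x)).presheaf.stalk (f.asFiber x)),
        p ∈ minimalPrimes ↑((f.fiber (f x)).presheaf.stalk (f.asFiber x)))} := by
  simp only [geomRk_fibre_iff f n, equidim_noEmbedded_iff f]
  have : {x : X | RkPt f n x ∧ (∀ z : X, z ⤳ x → f z = f x → MIneq f (Coh.structureModule X) 1 z) ∧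
      ∃ r : ℕ, AssDimsIn f (Coh.structureModule X) {r} x} =
      {x : X | ∀ z : X, z ⤳ x → f z = f x → MIneq f (Coh.structureModule X) 1 z} ∩
        ⋃ r : ℕ, {x : X | AssDimsIn f (Coh.structureModule X) {r} x ∧ RkPt f n x} := by
    ext x
    simp only [Set.mem_ofPred_eq, Set.mem_inter_iff, Set.mem_iUnion]
    exact ⟨fun ⟨h1, h2, r, h3⟩ => ⟨h2, r, h3, h1⟩, fun ⟨h2, r, h3, h1⟩ => ⟨h1, h2, r, h3⟩⟩
  rw [this]
  exact (isOpen_forall_mIneq f _ (isFP_structureModule X) (isFlatOver_structureModule f) 1).inter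
    (isOpen_iUnion fun r => isOpen_rkPt f n r)

end Groth.Agent.RectDepth
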