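import Mathlib
import Groth.Agent.RectDepth.GeomRkOpen
import Groth.Agent.CAlgSerre.NormalImp

/-!
Openness of geometric `(R_n)` with `(S_{n+1})`: geometrically reduced, geometrically normal.
-/

set_option autoImplicit false
set_option synthInstance.maxHeartbeats 80000
set_option linter.all false
set_option backward.isDefEq.respectTransparency.types false
noncomputable section

universe u

open CategoryTheory Limits AlgebraicGeometry TopologicalSpace IsLocalRing

namespace Groth.Agent.RectDepth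

variable {X Y : Scheme.{u}} (f : X ⟶ Y)

/-- `(S_{n+1})` with geometric `(R_n)` is open, without equidimensionality. -/
theorem isOpen_sk_rkPt [Flat f] [LocallyOfFinitePresentation f] (n : ℕ) :
    IsOpen {x : X | (∀ z : X, z ⤳ x → f z = f x → FibIneq f (n + 1) z) ∧ RkPt f n x} := by
  have hdfz : ∀ (z : X) (d : ℕ), ringKrullDim (X.presheaf.stalk z ⧸ baseIdeal f z) = (d : WithBot ℕ∞) →
      (ringKrullDim ((f.fiber (f z)).presheaf.stalk (f.asFiber z)) ≤ n ↔ d ≤ n) := fun z d hd => by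
    obtain ⟨e⟩ := FlatLocalDepth.nonempty_asFiber_stalk_equiv f z
    let e' : (X.presheaf.stalk z ⧸ baseIdeal f z) ≃+* (f.fiber (f z)).presheaf.stalk (f.asFiber z) := e
    rw [← ringKrullDim_eq_of_ringEquiv e', hd]
    exact Nat.cast_le (α := WithBot ℕ∞)
  let W : ℕ → Closeds X := fun r =>
    ⟨(f.smoothLocus : Set X)ᶜ ∩ {x | ((r + 1 : ℕ) : WithBot ℕ∞) ≤ rdepthRing f x}ᶜ,
      f.smoothLocus.2.isClosed_compl.inter (isOpen_le_rdepthRing f _).isClosed_compl⟩
  let ι : ∀ r, (Scheme.IdealSheafData.vanishingIdeal (W r)).subscheme ⟶ X := fun r =>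
    (Scheme.IdealSheafData.vanishingIdeal (W r)).subschemeι
  have hι : ∀ r, Set.range (ι r) = (W r : Set X) := fun r => by
    rw [Scheme.IdealSheafData.range_subschemeι, Scheme.IdealSheafData.coe_support_vanishingIdeal]
  let B : ℕ → Set X := fun r => ι r '' {z | r ≤ n ∨ ¬ FlatMor.fibreDimAt (ι r ≫ f) z ≤ ((r - (n + 1) : ℕ) : WithBot ℕ∞)}
  have hB : ∀ r, IsClosed (B r) := fun r => by
    refine (ι r).isClosedEmbedding.isClosedMap _ ?_
    by_cases h : r ≤ n
    · simp [h]
    · simp only [h, false_or]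
      exact (FibreDimChart.isOpen_fibreDimAt_le (ι r ≫ f) (r - (n + 1))).isClosed_compl
  have hSk : IsOpen {x : X | ∀ z : X, z ⤳ x → f z = f x → FibIneq f (n + 1) z} := by
    simpa only [hasSk_fibre_iff] using isOpen_fibre_hasSk f (n + 1)
  rw [isOpen_iff_forall_mem_open]
  rintro x₀ ⟨hS₀, hx₀⟩
  obtain ⟨D, hD⟩ := FibreDimChart.exists_nat_fibreDimAt_le f x₀
  refine ⟨{x | ∀ z : X, z ⤳ x → f z = f x → FibIneq f (n + 1) z} ∩ {x | FlatMor.fibreDimAt f x ≤ D} ∩ ⋂ r ∈ Finset.range (D + n + 1), (B r)ᶜ, ?_,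
    (hSk.inter (FibreDimChart.isOpen_fibreDimAt_le f D)).inter (isOpen_biInter_finset fun r _ => (hB r).isOpen_compl), ⟨hS₀, hD⟩, ?_⟩
  · rintro x ⟨⟨hxS, hxD⟩, hxB⟩
    refine ⟨hxS, fun z hzx hfz hdim₀ => ?_⟩
    by_contra hbad
    obtain ⟨t, d, h, -, hd, hh, hr, htd, hcd, hin⟩ := exists_invariants f z
    rw [hdfz z d hd] at hdim₀
    have hS := (hin (n + 1)).1 (hxS z hzx hfz)
    have hzW : z ∈ (W (t + h) : Set X) := by
      refine ⟨hbad, fun h1 => ?_⟩
      rw [Set.mem_ofPred_eq, hr, Nat.cast_le] at h1; omega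
    have hxW : x ∈ (W (t + h) : Set X) := hzx.mem_closed (W (t + h)).isClosed hzW
    obtain ⟨zx, hzx'⟩ := (hι (t + h)).ge hxW
    obtain ⟨zz, hzz⟩ := (hι (t + h)).ge hzW
    -- the fibre of `x` in `W` has dimension at least `h`
    have hsp : zz ⤳ zx := by
      refine (ι (t + h)).isEmbedding.isInducing.specializes_iff.1 ?_
      rw [hzz, hzx']; exact hzx
    have hf' : (ι (t + h) ≫ f) zz = (ι (t + h) ≫ f) zx := by
      rw [Scheme.Hom.comp_apply, Scheme.Hom.comp_apply, hzz, hzx', hfz]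
    have hdim : (h : WithBot ℕ∞) ≤ FlatMor.fibreDimAt (ι (t + h) ≫ f) zx := by
      refine le_trans ?_ (FibreDimChart.fibreDimAt_le_of_specializes _ hsp)
      have := locallyOfFiniteType_fiber (ι (t + h) ≫ f) ((ι (t + h) ≫ f) zz)
      rw [FlatMor.fibreDimAt, @FieldExtLD.localDim_eq (Y.residueField ((ι (t + h) ≫ f) zz)) _ _
        ((ι (t + h) ≫ f).fiberToSpecResidueField _) this, height_asFiber_comp f (ι (t + h)) zz, hzz, hh]
      exact WithBot.coe_le_coe.2 le_self_add
    have hxDn : h ≤ D := by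
      have h1 : (h : WithBot ℕ∞) ≤ FlatMor.fibreDimAt f x := by
        refine le_trans ?_ (FibreDimChart.fibreDimAt_le_of_specializes f hzx)
        have := locallyOfFiniteType_fiber f (f z)
        rw [FlatMor.fibreDimAt, @FieldExtLD.localDim_eq (Y.residueField (f z)) _ _
          (f.fiberToSpecResidueField _) this, hh]
        exact WithBot.coe_le_coe.2 le_self_add
      exact_mod_cast h1.trans hxD
    have hr' : t + h ∈ Finset.range (D + n + 1) := Finset.mem_range.2 (by omega)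
    refine Set.mem_iInter₂.1 hxB _ hr' ⟨zx, ?_, hzx'⟩
    rcases Nat.lt_or_ge n (t + h) with hlt | hge
    · refine Or.inr fun hle => ?_
      have : h ≤ t + h - (n + 1) := (Nat.cast_le (α := WithBot ℕ∞)).1 (hdim.trans hle)
      omega
    · exact Or.inl hge
  · refine Set.mem_iInter₂.2 fun r _ => ?_
    rintro ⟨w, hw, hwx⟩
    let g := ι r ≫ f
    have := locallyOfFiniteType_fiber g (g w)
    obtain ⟨m, hm, -, hmh⟩ := @DimTheory.exists_height_eq_add_coheight (Y.residueField (g w)) _ _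
      (g.fiberToSpecResidueField (g w)) this (g.asFiber w)
    let zz := g.fiberι (g w) m
    have hgz : g zz = g w := (Scheme.Hom.range_fiberι g (g w)).le ⟨m, rfl⟩
    have hsp : zz ⤳ w := by
      have h1 := (show m ⤳ g.asFiber w from hm).map (g.fiberι (g w)).continuous
      rwa [Scheme.Hom.fiberι_asFiber] at h1
    have hheq : ∀ (y : Y) (n : g.fiber y) (z : _) (hz : g.fiberι y n = z),
        Order.height n = Order.height (g.asFiber z) := by
      intro y n z hz
      have hy : g z = y := hz ▸ (Scheme.Hom.range_fiberι g y).le ⟨n, rfl⟩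
      subst hy
      rw [(g.fiberι (g z)).isEmbedding.injective (hz.trans (Scheme.Hom.fiberι_asFiber g z).symm)]
    obtain ⟨t, d, h, -, hd, hh, hr, htd, hcd, hin⟩ := exists_invariants f (ι r zz)
    have hfd : FlatMor.fibreDimAt g w = (h : WithBot ℕ∞) := by
      rw [FlatMor.fibreDimAt, @FieldExtLD.localDim_eq (Y.residueField (g w)) _ _
        (g.fiberToSpecResidueField (g w)) this, ← hmh, hheq _ m zz rfl, height_asFiber_comp f (ι r) zz, hh]
      rfl
    have hW : ι r zz ∈ (W r : Set X) := (hι r).le ⟨zz, rfl⟩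
    have h2 : ¬ r + 1 ≤ t + h := fun hle => hW.2 (by
      rw [Set.mem_ofPred_eq, hr, Nat.cast_le]; exact hle)
    have hsp₀ : ι r zz ⤳ x₀ := hwx ▸ hsp.map (ι r).continuous
    have hfz₀ : f (ι r zz) = f x₀ := by
      rw [← hwx, ← Scheme.Hom.comp_apply, ← Scheme.Hom.comp_apply]; exact hgz
    have hgood := (hin (n + 1)).1 (hS₀ _ hsp₀ hfz₀)
    refine hW.1 (hx₀ _ hsp₀ hfz₀ ((hdfz _ d hd).2 ?_))
    rcases hw with hlt | hnle
    · omega
    · have : ¬ h ≤ r - (n + 1) := fun hle => hnle (by rw [hfd]; exact_mod_cast hle)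
      omega

end Groth.Agent.RectDepth
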