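import Mathlib
import Groth.Agent.RectDepth.SkRkOpen
import Groth.Agent.RegLocus.GeomBaseChange
import Groth.Agent.S0386

/-!
Geometrically reduced and geometrically normal points through geometric `(R_n)` and `(S_{n+1})`.
-/

set_option autoImplicit false
set_option synthInstance.maxHeartbeats 80000
set_option linter.all false
set_option backward.isDefEq.respectTransparency.types false
noncomputable section

universe u

open CategoryTheory Limits AlgebraicGeometry TopologicalSpace IsLocalRing TensorProduct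

namespace Groth.Agent.RectDepth

theorem hasSk_over_field {k : Type u} [Field k] {W : Scheme.{u}} (f : W ⟶ Spec (CommRingCat.of k))
    [LocallyOfFiniteType f] [IsLocallyNoetherian W] (x : W) (n : ℕ) :
    LocCoh.HasSk n (W.presheaf.stalk x) (W.presheaf.stalk x) ↔
      LocCoh.HasSk n ((f.fiber (f x)).presheaf.stalk (f.asFiber x)) ((f.fiber (f x)).presheaf.stalk (f.asFiber x)) := by
  rw [forall_generization_iff, hasSk_fibre_iff]
  have hfz : ∀ z : W, f z = f x := fun z => Subsingleton.elim (α := PrimeSpectrum k) _ _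
  have hbot : ∀ z : W, baseIdeal f z = ⊥ := fun z => by
    have hF : IsField ((Spec (CommRingCat.of k)).presheaf.stalk (f z)) := by
      let q : Ideal k := (show PrimeSpectrum k from f z).asIdeal
      let e1 := (IsLocalization.atUnits k q.primeCompl (S := Localization.AtPrime q)
        (fun c hc => (isUnit_iff_ne_zero (G₀ := k)).2 fun h0 => hc (h0 ▸ q.zero_mem))).toRingEquiv
      let e2 := (StructureSheaf.stalkIso k (show PrimeSpectrum k from f z)).toRingEquiv
      exact MulEquiv.isField (Field.toIsField k) (e1.trans e2).symm.toMulEquiv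
    rw [baseIdeal, IsLocalRing.isField_iff_maximalIdeal_eq.1 hF, Ideal.map_bot]
  have h : ∀ z : W, FibIneq f n z ↔ SkIneq n (W.presheaf.stalk z) := fun z => by
    exact skIneq_ringEquiv ((Ideal.quotEquivOfEq (hbot z)).trans (RingEquiv.quotientBot (W.presheaf.stalk z)))
  simp only [h, hfz, forall_const]

variable {k : Type u} [Field k] {W : Scheme.{u}} (f : W ⟶ Spec (CommRingCat.of k))

theorem isLocallyNoetherian_of_field [LocallyOfFiniteType f] : IsLocallyNoetherian W :=
  LocallyOfFiniteType.isLocallyNoetherian f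

/-- `(S_n)` does not see extensions of the field. -/
theorem hasSk_bc_iff [LocallyOfFiniteType f] (K : Type u) [Field K] [Algebra k K] (x' : FBase.bc f K) (n : ℕ) :
    LocCoh.HasSk n ((FBase.bc f K).presheaf.stalk x') ((FBase.bc f K).presheaf.stalk x') ↔
      LocCoh.HasSk n (W.presheaf.stalk (FBase.bcπ f K x')) (W.presheaf.stalk (FBase.bcπ f K x')) := by
  let q : FBase.bc f K ⟶ Spec (CommRingCat.of K) := pullback.snd f _
  haveI : LocallyOfFiniteType q := MorphismProperty.pullback_snd _ _ inferInstance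
  haveI := isLocallyNoetherian_of_field f
  haveI := isLocallyNoetherian_of_field q
  rw [hasSk_over_field q, hasSk_over_field f]
  exact hasSk_fibre_baseChange_iff (IsPullback.of_hasPullback f _) x' n

theorem isReduced_stalk_iff {Z : Scheme.{u}} [IsLocallyNoetherian Z] (z : Z) :
    _root_.IsReduced (Z.presheaf.stalk z) ↔
      LocCoh.HasRk 0 (Z.presheaf.stalk z) ∧ LocCoh.HasSk 1 (Z.presheaf.stalk z) (Z.presheaf.stalk z) :=
  CAlgSerre.isReduced_iff

theorem normal_stalk_iff {Z : Scheme.{u}} [IsLocallyNoetherian Z] (z : Z) :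
    IsDomain (Z.presheaf.stalk z) ∧ IsIntegrallyClosed (Z.presheaf.stalk z) ↔
      LocCoh.HasRk 1 (Z.presheaf.stalk z) ∧ LocCoh.HasSk 2 (Z.presheaf.stalk z) (Z.presheaf.stalk z) := by
  rw [← CAlgSerre.normal_iff]
  constructor
  · rintro ⟨hd, hc⟩ p hp
    exact ⟨IsLocalization.isDomain_localization p.primeCompl_le_nonZeroDivisors,
      isIntegrallyClosed_of_isLocalization _ p.primeCompl p.primeCompl_le_nonZeroDivisors⟩
  · intro h
    obtain ⟨hd, hc⟩ := h (maximalIdeal _)
    let e := (IsLocalization.atUnits (Z.presheaf.stalk z) (maximalIdeal (Z.presheaf.stalk z)).primeCompl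
      (S := Localization.AtPrime (maximalIdeal (Z.presheaf.stalk z)))
      (fun x hx => IsLocalRing.notMem_maximalIdeal.1 hx)).toRingEquiv
    haveI : IsDomain (Z.presheaf.stalk z) := MulEquiv.isDomain _ e.toMulEquiv
    exact ⟨inferInstance, IsIntegrallyClosed.of_equiv e.symm⟩

/-- Reduced after every finite extension is geometrically reduced. -/
theorem geomReducedAt_iff_finite (x : W) :
    FBase.IsGeomReducedAt f x ↔ ∀ (K : Type u) [Field K] [Algebra k K], Module.Finite k K →
      ∀ x' : FBase.bc f K, FBase.bcπ f K x' = x → _root_.IsReduced ((FBase.bc f K).presheaf.stalk x') := by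
  refine ⟨fun h K _ _ _ x' hx' => h K x' hx', fun h => ?_⟩
  obtain ⟨A, _, j, _, hj, p, rfl⟩ := GeomRedAt.exists_chart f x
  rw [GeomRedAt.isGeomReducedAt_iff f j hj p, Algebra.isGeometricallyReduced_field_iff]
  let T := Localization.AtPrime p.asIdeal
  refine ⟨fun a ha => ?_⟩
  obtain ⟨L, hL, hr⟩ := RegLocus.exists_fg_subfield k T (AlgebraicClosure k) {a}
  obtain ⟨b, hb⟩ := hr a (Finset.mem_singleton_self a)
  haveI := hL
  have hP : ∀ {R S : Type u} [CommRing R] [CommRing S], (R ≃+* S) → _root_.IsReduced R → _root_.IsReduced S :=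
    fun e h => isReduced_of_injective e.symm e.symm.injective
  haveI : Module.Finite k L := Algebra.finite_of_essFiniteType_of_isAlgebraic
  haveI : _root_.IsReduced (↥L ⊗[k] T) :=
    GeomRedAt.isReduced_tensor_atPrime A p L
      ((GeomRedAt.forall_stalk_iff (fun R _ => _root_.IsReduced R) hP f j hj p _).1
        fun x' hx' => h L inferInstance x' hx')
  have hinj : Function.Injective (Algebra.TensorProduct.map L.val (AlgHom.id k T)) :=
    Module.Flat.rTensor_preserves_injective_linearMap L.val.toLinearMap L.val.injective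
  obtain ⟨n, hn⟩ := ha
  have hb' : Algebra.TensorProduct.map L.val (AlgHom.id k T) b = a := hb
  have hb0 : b = 0 := IsReduced.eq_zero b ⟨n, hinj (by rw [map_pow, map_zero, hb', hn])⟩
  rw [← hb', hb0, map_zero]

theorem geomReducedAt_iff [LocallyOfFinitePresentation f] (x : W) :
    FBase.IsGeomReducedAt f x ↔
      (∀ (K : Type u) [Field K] [Algebra k K], Module.Finite k K →
        ∀ x' : FBase.bc f K, FBase.bcπ f K x' = x → LocCoh.HasRk 0 ((FBase.bc f K).presheaf.stalk x')) ∧
      LocCoh.HasSk 1 (W.presheaf.stalk x) (W.presheaf.stalk x) := by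
  rw [geomReducedAt_iff_finite]
  have hN : ∀ (K : Type u) [Field K] [Algebra k K], IsLocallyNoetherian (FBase.bc f K) := fun K _ _ => by
    let q : FBase.bc f K ⟶ Spec (CommRingCat.of K) := pullback.snd f _
    haveI : LocallyOfFiniteType q := MorphismProperty.pullback_snd _ _ inferInstance
    exact isLocallyNoetherian_of_field q
  constructor
  · intro h
    refine ⟨fun K _ _ hK x' hx' => ?_, ?_⟩
    · haveI := hN K; exact ((isReduced_stalk_iff x').1 (h K hK x' hx')).1
    · haveI := hN k
      haveI : Surjective (Spec.map (CommRingCat.ofHom (algebraMap k k))) :=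
        ⟨fun _ => ⟨IsLocalRing.closedPoint _, Subsingleton.elim (α := PrimeSpectrum _) _ _⟩⟩
      obtain ⟨x', hx'⟩ := (pullback.fst f (Spec.map (CommRingCat.ofHom (algebraMap k k)))).surjective x
      have h1 := ((isReduced_stalk_iff (Z := FBase.bc f k) x').1 (h k inferInstance x' hx')).2
      rw [hasSk_bc_iff] at h1
      exact (show FBase.bcπ f k x' = x from hx') ▸ h1
  · rintro ⟨hR, hS⟩ K _ _ hK x' hx'
    haveI := hN K
    exact (isReduced_stalk_iff x').2 ⟨hR K hK x' hx', (hasSk_bc_iff f K x' 1).2 (hx'.symm ▸ hS)⟩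

theorem geomNormal_iff [LocallyOfFinitePresentation f] (x : W) :
    (∀ (K : Type u) [Field K] [Algebra k K], Module.Finite k K →
      ∀ x' : FBase.bc f K, FBase.bcπ f K x' = x →
        IsDomain ((FBase.bc f K).presheaf.stalk x') ∧ IsIntegrallyClosed ((FBase.bc f K).presheaf.stalk x')) ↔
      (∀ (K : Type u) [Field K] [Algebra k K], Module.Finite k K →
        ∀ x' : FBase.bc f K, FBase.bcπ f K x' = x → LocCoh.HasRk 1 ((FBase.bc f K).presheaf.stalk x')) ∧
      LocCoh.HasSk 2 (W.presheaf.stalk x) (W.presheaf.stalk x) := by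
  have hN : ∀ (K : Type u) [Field K] [Algebra k K], IsLocallyNoetherian (FBase.bc f K) := fun K _ _ => by
    let q : FBase.bc f K ⟶ Spec (CommRingCat.of K) := pullback.snd f _
    haveI : LocallyOfFiniteType q := MorphismProperty.pullback_snd _ _ inferInstance
    exact isLocallyNoetherian_of_field q
  constructor
  · intro h
    refine ⟨fun K _ _ hK x' hx' => ?_, ?_⟩
    · haveI := hN K; exact ((normal_stalk_iff x').1 (h K hK x' hx')).1
    · haveI := hN k
      haveI : Surjective (Spec.map (CommRingCat.ofHom (algebraMap k k))) :=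
        ⟨fun _ => ⟨IsLocalRing.closedPoint _, Subsingleton.elim (α := PrimeSpectrum _) _ _⟩⟩
      obtain ⟨x', hx'⟩ := (pullback.fst f (Spec.map (CommRingCat.ofHom (algebraMap k k)))).surjective x
      have h1 := ((normal_stalk_iff (Z := FBase.bc f k) x').1 (h k inferInstance x' hx')).2
      rw [hasSk_bc_iff] at h1
      exact (show FBase.bcπ f k x' = x from hx') ▸ h1
  · rintro ⟨hR, hS⟩ K _ _ hK x' hx'
    haveI := hN K
    exact (normal_stalk_iff x').2 ⟨hR K hK x' hx', (hasSk_bc_iff f K x' 2).2 (hx'.symm ▸ hS)⟩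

variable {X Y : Scheme.{u}}

theorem isOpen_fibre_geomReducedAt (g : X ⟶ Y) [Flat g] [LocallyOfFinitePresentation g] :
    IsOpen {x : X | FBase.IsGeomReducedAt (g.fiberToSpecResidueField (g x)) (g.asFiber x)} := by
  haveI hl : ∀ y, LocallyOfFinitePresentation (g.fiberToSpecResidueField y) := fun y =>
    inferInstanceAs (LocallyOfFinitePresentation (pullback.snd g _))
  refine (congrArg IsOpen ?_).mp (isOpen_sk_rkPt g 0)
  ext x
  rw [Set.mem_ofPred_eq, Set.mem_ofPred_eq, ← hasSk_fibre_iff, ← geomRk_fibre_iff, and_comm]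
  exact (@geomReducedAt_iff (Y.residueField (g x)) _ _ (g.fiberToSpecResidueField (g x)) (hl _) (g.asFiber x)).symm

theorem isOpen_fibre_geomNormal (g : X ⟶ Y) [Flat g] [LocallyOfFinitePresentation g] :
    IsOpen {x : X | ∀ (K : Type u) [Field K] [Algebra (IsLocalRing.ResidueField (Y.presheaf.stalk (g x))) K],
        Module.Finite (IsLocalRing.ResidueField (Y.presheaf.stalk (g x))) K →
        ∀ x' : ↥(FBase.bc (g.fiberToSpecResidueField (g x)) K),
          (FBase.bcπ (g.fiberToSpecResidueField (g x)) K).base x' = g.asFiber x →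
          IsDomain ((FBase.bc (g.fiberToSpecResidueField (g x)) K).presheaf.stalk x') ∧
            IsIntegrallyClosed ((FBase.bc (g.fiberToSpecResidueField (g x)) K).presheaf.stalk x')} := by
  haveI hl : ∀ y, LocallyOfFinitePresentation (g.fiberToSpecResidueField y) := fun y =>
    inferInstanceAs (LocallyOfFinitePresentation (pullback.snd g _))
  refine (congrArg IsOpen ?_).mp (isOpen_sk_rkPt g 1)
  ext x
  rw [Set.mem_ofPred_eq, Set.mem_ofPred_eq, ← hasSk_fibre_iff, ← geomRk_fibre_iff, and_comm]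
  exact (@geomNormal_iff (Y.residueField (g x)) _ _ (g.fiberToSpecResidueField (g x)) (hl _) (g.asFiber x)).symm

theorem rkPt_comp_iff (g : X ⟶ Y) [LocallyOfFinitePresentation g] (U : X.Opens) (n : ℕ) (u : U) :
    RkPt (U.ι ≫ g) n u ↔ RkPt g n (U.ι u) := by
  have hd : ∀ z : U, ringKrullDim (((U.ι ≫ g).fiber ((U.ι ≫ g) z)).presheaf.stalk ((U.ι ≫ g).asFiber z)) =
      ringKrullDim ((g.fiber (g (U.ι z))).presheaf.stalk (g.asFiber (U.ι z))) := fun z => by
    obtain ⟨e⟩ := exists_ringEquiv_comp U.ι g z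
    obtain ⟨e1⟩ := FlatLocalDepth.nonempty_asFiber_stalk_equiv (U.ι ≫ g) z
    obtain ⟨e2⟩ := FlatLocalDepth.nonempty_asFiber_stalk_equiv g (U.ι z)
    let e1' : (((U : Scheme.{u})).presheaf.stalk z ⧸ baseIdeal (U.ι ≫ g) z) ≃+* _ := e1
    let e2' : (X.presheaf.stalk (U.ι z) ⧸ baseIdeal g (U.ι z)) ≃+* _ := e2
    rw [← ringKrullDim_eq_of_ringEquiv e1', ← ringKrullDim_eq_of_ringEquiv e2', ringKrullDim_eq_of_ringEquiv e]
  constructor
  · intro h z hz hfz hdz
    obtain ⟨z', rfl⟩ : z ∈ Set.range U.ι := by rw [Scheme.Opens.range_ι]; exact hz.mem_open U.2 u.2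
    exact (ConstrFib.mem_smoothLocus_comp_iff U.ι g z').1
      (h z' (U.ι.isOpenEmbedding.isInducing.specializes_iff.1 hz) hfz (by rw [hd]; exact hdz))
  · intro h z hz hfz hdz
    exact (ConstrFib.mem_smoothLocus_comp_iff U.ι g z).2
      (h _ (hz.map U.ι.continuous) hfz (by rw [← hd]; exact hdz))

/-- Flat with geometric `(R_n)` and `(S_{n+1})` fibre is open. -/
theorem isOpen_flat_sk_geomRk (g : X ⟶ Y) [LocallyOfFinitePresentation g] (n : ℕ) :
    IsOpen {x : X | (g.stalkMap x).hom.Flat ∧
      LocCoh.HasSk (n + 1) ((g.fiber (g x)).presheaf.stalk (g.asFiber x)) ((g.fiber (g x)).presheaf.stalk (g.asFiber x)) ∧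
      ∀ (K : Type u) [Field K] [Algebra (IsLocalRing.ResidueField (Y.presheaf.stalk (g x))) K],
        Module.Finite (IsLocalRing.ResidueField (Y.presheaf.stalk (g x))) K →
        ∀ x' : ↥(FBase.bc (g.fiberToSpecResidueField (g x)) K),
          (FBase.bcπ (g.fiberToSpecResidueField (g x)) K).base x' = g.asFiber x →
          LocCoh.HasRk n ((FBase.bc (g.fiberToSpecResidueField (g x)) K).presheaf.stalk x')} := by
  let U : X.Opens := ⟨{z | (g.stalkMap z).hom.Flat}, Groth.Agent.S0386.result g⟩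
  haveI : Flat (U.ι ≫ g) := by
    rw [Flat.iff_flat_stalkMap]
    intro z
    rw [Scheme.Hom.stalkMap_comp]
    exact RingHom.Flat.comp (show (g.stalkMap (U.ι z)).hom.Flat from z.2)
      (RingHom.Flat.of_bijective (ConcreteCategory.bijective_of_isIso (U.ι.stalkMap z)))
  have h := U.ι.isOpenEmbedding.isOpenMap _ (isOpen_sk_rkPt (U.ι ≫ g) n)
  refine (congrArg IsOpen ?_).mp h
  have hU : ∀ (x : X), x ∈ U → ∀ z : X, z ⤳ x → (g.stalkMap z).hom.Flat := fun x hx z hz => hz.mem_open U.2 hx
  ext x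
  constructor
  · rintro ⟨z, ⟨hS, hR⟩, rfl⟩
    exact ⟨z.2, (hasSk_fibre_comp_iff U.ι g z (n + 1)).1 ((hasSk_fibre_iff (U.ι ≫ g) (n + 1) z).2 hS),
      (geomRk_fibre_iff' g n _ (hU _ z.2)).2 ((rkPt_comp_iff g U n z).1 hR)⟩
  · rintro ⟨h1, h2, h3⟩
    exact ⟨⟨x, h1⟩, ⟨(hasSk_fibre_iff (U.ι ≫ g) (n + 1) _).1 ((hasSk_fibre_comp_iff U.ι g ⟨x, h1⟩ (n + 1)).2 h2),
      (rkPt_comp_iff g U n ⟨x, h1⟩).2 ((geomRk_fibre_iff' g n x (hU _ h1)).1 h3)⟩, rfl⟩

end Groth.Agent.RectDepth
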