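import Mathlib
import Groth.Agent.RectDepth.GeomProps
import Groth.Agent.RectDepth.SkBC
import Groth.Agent.ConstrFib.CMSmooth
import Groth.Agent.ConstrFib.Closure
import Groth.Agent.FibreDimChart.Bound
import Groth.Agent.AlgStB.FieldCoverRegular

/-!
The locus where the fibre satisfies geometric `(R_n)`, for all field extensions, is locally constructible.
-/

set_option autoImplicit false
set_option synthInstance.maxHeartbeats 80000
set_option linter.all false
set_option backward.isDefEq.respectTransparency.types false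
noncomputable section

universe u

open CategoryTheory CategoryTheory.Limits AlgebraicGeometry TopologicalSpace Topology IsLocalRing

namespace Groth.Agent.RectDepth

variable {X S : Scheme.{u}}

/-- The fibre is smooth at the generizations at which its local ring has dimension at most `n`. -/
def RkF (n : ℕ) (f : X ⟶ S) (x : X) : Prop :=
  ∀ z : X, z ⤳ x → f z = f x → ringKrullDim (X.presheaf.stalk z ⧸ baseIdeal f z) ≤ n → ConstrFib.SmPt f z

theorem exists_dh (f : X ⟶ S) [LocallyOfFiniteType f] (z : X) :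
    ∃ d h : ℕ, ringKrullDim (X.presheaf.stalk z ⧸ baseIdeal f z) = (d : WithBot ℕ∞) ∧
      Order.height (f.asFiber z) = (h : ℕ∞) ∧ FlatMor.fibreDimAt f z = ((d + h : ℕ) : WithBot ℕ∞) := by
  obtain ⟨F, hF⟩ := FibreDimChart.exists_nat_fibreDimAt_le f z
  have hN := FlatLocalDepth.isNoetherianRing_fibre_quotient f z (FlatOverBC.isLocallyNoetherian_fiber f _)
  haveI : IsNoetherianRing (X.presheaf.stalk z ⧸ baseIdeal f z) := hN
  obtain ⟨d, hd⟩ := CAlgReg.exists_dim (R := X.presheaf.stalk z ⧸ baseIdeal f z)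
  rw [fibreDimAt_eq_add, hd] at hF
  obtain ⟨h, hh⟩ : ∃ h : ℕ, Order.height (f.asFiber z) = (h : ℕ∞) := by
    cases hh : Order.height (f.asFiber z) with
    | top =>
      rw [hh, show ((d : WithBot ℕ∞)) = (((d : ℕ∞)) : WithBot ℕ∞) from rfl, ← WithBot.coe_add, add_top,
        show ((F : WithBot ℕ∞)) = (((F : ℕ∞)) : WithBot ℕ∞) from rfl, WithBot.coe_le_coe] at hF
      exact absurd hF (by simp)
    | coe h => exact ⟨h, rfl⟩
  refine ⟨d, h, hd, hh, ?_⟩
  rw [fibreDimAt_eq_add, hd, hh]
  push_cast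
  rfl

theorem rkF_comp_iff {V : Scheme.{u}} (j : V ⟶ X) (f : X ⟶ S) [IsOpenImmersion j] [LocallyOfFinitePresentation f]
    (n : ℕ) (v : V) : RkF n (j ≫ f) v ↔ RkF n f (j v) := by
  have hd : ∀ w, ringKrullDim (V.presheaf.stalk w ⧸ baseIdeal (j ≫ f) w) =
      ringKrullDim (X.presheaf.stalk (j w) ⧸ baseIdeal f (j w)) := fun w => by
    obtain ⟨e⟩ := exists_ringEquiv_comp j f w
    exact (ringKrullDim_eq_of_ringEquiv e).symm
  constructor
  · intro h z hz hfz hdz
    obtain ⟨w, rfl⟩ : z ∈ Set.range j := hz.mem_open j.isOpenEmbedding.isOpen_range ⟨v, rfl⟩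
    exact (ConstrFib.smPt_comp_iff j f w).1
      (h w (j.isOpenEmbedding.isInducing.specializes_iff.1 hz) hfz (by rw [hd]; exact hdz))
  · intro h w hw hfw hdw
    exact (ConstrFib.smPt_comp_iff j f w).2 (h (j w) (hw.map j.continuous) hfw (by rw [← hd]; exact hdw))

theorem rkF_baseChange_iff {X' S' : Scheme.{u}} {f : X ⟶ S} {f' : X' ⟶ S'} {g' : X' ⟶ X} {g : S' ⟶ S}
    [LocallyOfFinitePresentation f] (hc : IsPullback g' f' f g) (n : ℕ) (x' : X') :
    RkF n f' x' ↔ RkF n f (g' x') := by
  have : LocallyOfFinitePresentation f' := MorphismProperty.of_isPullback hc inferInstance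
  have hF : ∀ z', FlatMor.fibreDimAt f' z' = FlatMor.fibreDimAt f (g' z') :=
    fun z' => FibreDimChart.fibreDimAt_of_isPullback _ _ _ _ hc z'
  haveI hl' : ∀ y, LocallyOfFinitePresentation (f'.fiberToSpecResidueField y) := fun y =>
    inferInstanceAs (LocallyOfFinitePresentation (pullback.snd f' _))
  haveI hl : ∀ y, LocallyOfFinitePresentation (f.fiberToSpecResidueField y) := fun y =>
    inferInstanceAs (LocallyOfFinitePresentation (pullback.snd f _))
  constructor
  · intro h z hz hfz hdz
    obtain ⟨z', hz', hfz', rfl, hh⟩ := exists_lift_generization hc x' z hz hfz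
    obtain ⟨d, a, hd, ha, hFd⟩ := exists_dh f (g' z')
    obtain ⟨d', a', hd', ha', hFd'⟩ := exists_dh f' z'
    rw [hF, hFd, Nat.cast_inj] at hFd'
    rw [ha, ha', Nat.cast_inj] at hh
    rw [hd, Nat.cast_le] at hdz
    refine (ConstrFib.smPt_baseChange hc z').1 (h z' hz' hfz' ?_)
    rw [hd', Nat.cast_le]
    omega
  · intro h z' hz' hfz' hdz'
    obtain ⟨d, a, hd, ha, hFd⟩ := exists_dh f (g' z')
    obtain ⟨d', a', hd', ha', hFd'⟩ := exists_dh f' z'
    rw [hF, hFd, Nat.cast_inj] at hFd'
    have hle := height_asFiber_le_baseChange hc z'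
    rw [ha, ha', Nat.cast_le] at hle
    rw [hd', Nat.cast_le] at hdz'
    intro _
    refine (ConstrFib.smPt_baseChange hc z').2 (h (g' z') (hz'.map g'.continuous) ?_ ?_)
    · exact ((congr($(hc.w) z')).trans (congrArg g hfz')).trans (congr($(hc.w) x')).symm
    · rw [hd, Nat.cast_le]
      omega

theorem exists_generization_of_mem_fclosure (f : X ⟶ S) [LocallyOfFiniteType f] {D : Set X}
    (hD : IsConstructible D) {x : X} (hx : x ∈ ConstrFib.fclosure f D) :
    ∃ z ∈ D, z ⤳ x ∧ f z = f x := by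
  have hcl : f.asFiber x ∈ closure (f.fiberι (f x) ⁻¹' D) := by
    rw [(f.fiberι (f x)).isEmbedding.isInducing.closure_eq_preimage_closure_image, Set.mem_preimage,
      Scheme.Hom.fiberι_asFiber, Set.image_preimage_eq_inter_range, Scheme.Hom.range_fiberι]
    exact (hx : x ∈ closure (D ∩ f ⁻¹' {f x}))
  obtain ⟨A, hA, hxA, -⟩ := exists_isAffineOpen_mem_and_subset (x := f.asFiber x) (U := (⊤ : (f.fiber (f x)).Opens)) trivial
  obtain ⟨p, hp⟩ := hA.range_fromSpec.ge hxA
  have hmem : p ∈ closure (hA.fromSpec ⁻¹' (f.fiberι (f x) ⁻¹' D)) := by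
    rw [← hA.fromSpec.isOpenEmbedding.isOpenMap.preimage_closure_eq_closure_preimage hA.fromSpec.continuous]
    show hA.fromSpec p ∈ closure (f.fiberι (f x) ⁻¹' D)
    rwa [hp]
  obtain ⟨q, hq, hqp⟩ := ConstrFib.exists_specializes_of_mem_closure
    (Scheme.Hom.isConstructible_preimage hA.fromSpec (Scheme.Hom.isConstructible_preimage (f.fiberι (f x)) hD)) hmem
  refine ⟨f.fiberι (f x) (hA.fromSpec q), hq, ?_, (Scheme.Hom.range_fiberι f (f x)).le ⟨_, rfl⟩⟩
  have h1 := (hqp.map hA.fromSpec.continuous).map (f.fiberι (f x)).continuous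
  rwa [show hA.fromSpec p = f.asFiber x from hp, Scheme.Hom.fiberι_asFiber] at h1

theorem isConstructible_rkF (f : X ⟶ S) [Flat f] [LocallyOfFinitePresentation f] [IsNoetherian X]
    (n : ℕ) : IsConstructible {x : X | RkF n f x} := by
  have hsm : ∀ z : X, ConstrFib.SmPt f z ↔ z ∈ f.smoothLocus := fun z => by
    haveI : LocallyOfFinitePresentation (f.fiberToSpecResidueField (f z)) :=
      inferInstanceAs (LocallyOfFinitePresentation (pullback.snd f _))
    exact ⟨fun h => (SmoothPt.mem_smoothLocus_iff f).2 ⟨Flat.stalkMap f z, h⟩,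
      fun h _ => ((SmoothPt.mem_smoothLocus_iff f).1 h).2⟩
  let W : Closeds X := ⟨(f.smoothLocus : Set X)ᶜ, f.smoothLocus.2.isClosed_compl⟩
  let ι : (Scheme.IdealSheafData.vanishingIdeal W).subscheme ⟶ X :=
    (Scheme.IdealSheafData.vanishingIdeal W).subschemeι
  have hι : Set.range ι = (W : Set X) := by
    rw [Scheme.IdealSheafData.range_subschemeι, Scheme.IdealSheafData.coe_support_vanishingIdeal]
  let g := ι ≫ f
  let B : ℕ → Set X := fun r => ι '' {c | r ≤ n ∨ ¬ FlatMor.fibreDimAt g c ≤ ((r - (n + 1) : ℕ) : WithBot ℕ∞)}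
  have hB : ∀ r, IsClosed (B r) := fun r => by
    refine ι.isClosedEmbedding.isClosedMap _ ?_
    by_cases h : r ≤ n
    · simp [h]
    · simp only [h, false_or]
      exact (FibreDimChart.isOpen_fibreDimAt_le g _).isClosed_compl
  let D : ℕ → Set X := fun r => {z | FlatMor.fibreDimAt f z ≤ (r : WithBot ℕ∞)} ∩ B r
  have hD : ∀ r, IsConstructible (D r) := fun r =>
    (ConstrSets.isConstructible_of_isOpen (FibreDimChart.isOpen_fibreDimAt_le f r)).inter
      (ConstrSets.isConstructible_of_isClosed (hB r))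
  obtain ⟨N, hN⟩ := (isCompact_univ (X := X)).elim_directed_cover
    (fun n : ℕ => {x : X | FlatMor.fibreDimAt f x ≤ (n : WithBot ℕ∞)})
    (fun n => FibreDimChart.isOpen_fibreDimAt_le f n)
    (fun x _ => Set.mem_iUnion.mpr (FibreDimChart.exists_nat_fibreDimAt_le f x))
    (Monotone.directed_le fun a b hab x hx => le_trans (α := WithBot ℕ∞) hx (by exact_mod_cast hab))
  have key : {x : X | RkF n f x}ᶜ = ⋃ r ∈ Finset.range (N + 1), ConstrFib.fclosure f (D r) := by
    ext x
    simp only [Set.mem_compl_iff, Set.mem_ofPred_eq, Set.mem_iUnion, Finset.mem_range]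
    constructor
    · intro hx
      simp only [RkF, not_forall] at hx
      obtain ⟨z, hz, hfz, hdz, hns⟩ := hx
      rw [hsm] at hns
      obtain ⟨d, h, hd, hh, hF⟩ := exists_dh f z
      rw [hd, Nat.cast_le] at hdz
      have hle : d + h ≤ N := by
        have := hN (Set.mem_univ z)
        rw [Set.mem_ofPred_eq, hF, Nat.cast_le] at this
        exact this
      refine ⟨d + h, by omega, ?_⟩
      have hzD : z ∈ D (d + h) := by
        obtain ⟨c, hc⟩ := hι.ge (show z ∈ (W : Set X) from hns)
        refine ⟨hF.le, c, ?_, hc⟩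
        rcases Nat.lt_or_ge n (d + h) with hlt | hge
        · refine Or.inr fun hle' => ?_
          obtain ⟨d', h', -, hh', hF'⟩ := exists_dh g c
          rw [height_asFiber_comp f ι c, hc, hh, Nat.cast_inj] at hh'
          rw [hF', Nat.cast_le] at hle'
          omega
        · exact Or.inl hge
      show x ∈ closure (D (d + h) ∩ f ⁻¹' {f x})
      exact (show z ⤳ x from hz).mem_closed isClosed_closure (subset_closure ⟨hzD, hfz⟩)
    · rintro ⟨r, -, hx⟩ hR
      obtain ⟨z, ⟨hzF, c, hc, rfl⟩, hz, hfz⟩ := exists_generization_of_mem_fclosure f (hD r) hx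
      have hlftg := locallyOfFiniteType_fiber g (g c)
      obtain ⟨m, hm, -, hmh⟩ := @DimTheory.exists_height_eq_add_coheight (S.residueField (g c)) _ _
        (g.fiberToSpecResidueField (g c)) hlftg (g.asFiber c)
      let zz := g.fiberι (g c) m
      have hgz : g zz = g c := (Scheme.Hom.range_fiberι g (g c)).le ⟨m, rfl⟩
      have hsp : zz ⤳ c := by
        have h1 := (show m ⤳ g.asFiber c from hm).map (g.fiberι (g c)).continuous
        rwa [Scheme.Hom.fiberι_asFiber] at h1
      have hfd : FlatMor.fibreDimAt g c = (Order.height (f.asFiber (ι zz)) : WithBot ℕ∞) := by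
        rw [FlatMor.fibreDimAt, @FieldExtLD.localDim_eq (S.residueField (g c)) _ _
          (g.fiberToSpecResidueField (g c)) hlftg, ← hmh, height_eq_of_fiberι g _ m zz rfl,
          height_asFiber_comp f ι zz]
      obtain ⟨d, h, hd, hh, hF⟩ := exists_dh f (ι zz)
      have hle : d + h ≤ r := by
        have h1 : FlatMor.fibreDimAt f (ι zz) ≤ (r : WithBot ℕ∞) :=
          (hsp.map ι.continuous).mem_open (FibreDimChart.isOpen_fibreDimAt_le f r) hzF
        rwa [hF, Nat.cast_le] at h1
      have hdn : d ≤ n := by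
        rcases hc with hrn | hnle
        · omega
        · have : ¬ h ≤ r - (n + 1) := fun h1 => hnle (by rw [hfd, hh]; exact WithBot.coe_le_coe.2 (Nat.cast_le.2 h1))
          omega
      refine (hι.le ⟨zz, rfl⟩ : ι zz ∈ (W : Set X)) ((hsm _).1 (hR _ ((hsp.map ι.continuous).trans hz) ?_ ?_))
      · rw [← hfz]; exact hgz
      · rw [hd, Nat.cast_le]; exact hdn
  rw [← isConstructible_compl, key]
  refine IsConstructible.biUnion (Finset.finite_toSet _) fun r _ => ?_
  exact (ConstrFib.isLocallyConstructible_fclosure f (hD r).isLocallyConstructible).isConstructible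

theorem isLocallyConstructible_rkF (f : X ⟶ S) [LocallyOfFinitePresentation f] (n : ℕ) :
    IsLocallyConstructible {x : X | RkF n f x} :=
  ConstrFib.isLocallyConstructible_pointLocus (fun {X S} f x => RkF n f x)
    (fun hc x' => rkF_baseChange_iff hc n x') (fun j f _ _ v => rkF_comp_iff j f n v)
    (fun f _ _ _ _ => isConstructible_rkF f n) f

variable {k : Type u} [Field k]

theorem ringKrullDim_stalk_le_flat {X' Z : Scheme.{u}} (π : X' ⟶ Z) [Flat π] (z' : X') :
    ringKrullDim (Z.presheaf.stalk (π z')) ≤ ringKrullDim (X'.presheaf.stalk z') := by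
  rw [ringKrullDim_stalk_eq_coheight, ringKrullDim_stalk_eq_coheight, WithBot.coe_le_coe]
  suffices ∀ (m : ℕ) (z' : X'), (m : ℕ∞) ≤ Order.coheight (π z') → (m : ℕ∞) ≤ Order.coheight z' by
    cases hh : Order.coheight (π z') with
    | top => exact top_le_iff.2 (ENat.eq_top_iff_forall_ge.2 fun m => this m z' (by rw [hh]; exact le_top))
    | coe m => exact this m z' hh.ge
  intro m
  induction m with
  | zero => intro z' _; exact bot_le
  | succ m ih =>
    intro z' h
    obtain ⟨l, hl, hlen⟩ := Order.exists_series_of_le_coheight (π z') h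
    have hlt : π z' < l ⟨1, by omega⟩ := by
      rw [← hl]
      exact l.strictMono (show (0 : Fin (l.length + 1)) < ⟨1, by omega⟩ from Nat.zero_lt_one)
    obtain ⟨w, hw, hwe⟩ := Flat.generalizingMap π (show l ⟨1, by omega⟩ ⤳ π z' from hlt.le)
    have h1 : (m : ℕ∞) ≤ Order.coheight (l ⟨1, by omega⟩) := by
      refine le_trans ?_ (Order.rev_index_le_coheight l ⟨1, by omega⟩)
      simp [Fin.rev, hlen]
    have hlt' : z' < w := lt_of_le_not_ge hw fun h' => hlt.not_ge (by
      rw [← hwe]; exact (show z' ⤳ w from h').map π.continuous)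
    refine le_trans ?_ (Order.coheight_add_one_le hlt')
    push_cast
    exact add_le_add (ih w (hwe ▸ h1)) le_rfl

theorem isRegularLocalRing_of_mem_smoothLocus {Z : Scheme.{u}} (q : Z ⟶ Spec (CommRingCat.of k))
    [LocallyOfFinitePresentation q] (z : Z) (hz : z ∈ q.smoothLocus) :
    IsRegularLocalRing (Z.presheaf.stalk z) := by
  let U := q.smoothLocus
  haveI : Smooth (U.ι ≫ q) := by
    rw [← Scheme.Hom.smoothLocus_eq_top_iff, ← Scheme.Hom.preimage_smoothLocus_eq]
    exact Scheme.Opens.ι_preimage_self _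
  haveI := AlgStB.isRegularLocalRing_stalk_of_smooth_field (U.ι ≫ q) (⟨z, hz⟩ : U)
  exact IsRegularLocalRing.of_ringEquiv (asIso (U.ι.stalkMap ⟨z, hz⟩)).commRingCatIsoToRingEquiv.symm

/-- Geometric `(R_n)` for all field extensions. -/
theorem geomRk_all_iff {Z : Scheme.{u}} (f : Z ⟶ Spec (CommRingCat.of k)) [LocallyOfFinitePresentation f]
    (x : Z) (n : ℕ) :
    (∀ (K : Type u) [Field K] [Algebra k K] (x' : FBase.bc f K), FBase.bcπ f K x' = x →
      LocCoh.HasRk n ((FBase.bc f K).presheaf.stalk x')) ↔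
      ∀ z : Z, z ⤳ x → ringKrullDim (Z.presheaf.stalk z) ≤ n → z ∈ f.smoothLocus := by
  refine ⟨fun h => (geomRk_iff f x n).1 fun K _ _ _ x' hx' => h K x' hx', fun h K _ _ x' hx' => ?_⟩
  haveI : Flat (Spec.map (CommRingCat.ofHom (algebraMap k K))) :=
    Flat.SpecMap_iff.2 (RingHom.flat_algebraMap_iff.2 inferInstance)
  haveI : Flat (FBase.bcπ f K) := MorphismProperty.pullback_fst _ _ inferInstance
  let q : FBase.bc f K ⟶ Spec (CommRingCat.of K) := pullback.snd f _
  haveI : LocallyOfFinitePresentation q := MorphismProperty.pullback_snd _ _ inferInstance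
  rw [hasRk_stalk_iff]
  intro z' hz' hd
  refine isRegularLocalRing_of_mem_smoothLocus q z' ?_
  have hsl := SmoothPt.smoothLocus_baseChange f (f' := q) (IsPullback.of_hasPullback f (Spec.map (CommRingCat.ofHom (algebraMap k K)))) (Or.inr inferInstance)
  rw [hsl]
  exact h _ (hx' ▸ (show z' ⤳ x' from hz').map (FBase.bcπ f K).continuous)
    ((ringKrullDim_stalk_le_flat (FBase.bcπ f K) z').trans hd)

theorem normal_aux {Z : Scheme.{u}} (q : Z ⟶ Spec (CommRingCat.of k)) [LocallyOfFinitePresentation q] (x : Z) :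
    (∀ (K : Type u) [Field K] [Algebra k K] (x' : FBase.bc q K), FBase.bcπ q K x' = x →
      IsDomain ((FBase.bc q K).presheaf.stalk x') ∧ IsIntegrallyClosed ((FBase.bc q K).presheaf.stalk x')) ↔
    (∀ (K : Type u) [Field K] [Algebra k K] (x' : FBase.bc q K), FBase.bcπ q K x' = x →
      LocCoh.HasRk 1 ((FBase.bc q K).presheaf.stalk x')) ∧
      LocCoh.HasSk 2 (Z.presheaf.stalk x) (Z.presheaf.stalk x) := by
  have hN : ∀ (K : Type u) [Field K] [Algebra k K], IsLocallyNoetherian (FBase.bc q K) := fun K _ _ => by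
    let r : FBase.bc q K ⟶ Spec (CommRingCat.of K) := pullback.snd q _
    haveI : LocallyOfFiniteType r := MorphismProperty.pullback_snd _ _ inferInstance
    exact isLocallyNoetherian_of_field r
  constructor
  · intro h
    refine ⟨fun K _ _ x' hx' => ?_, ((geomNormal_iff q x).1 fun K _ _ _ x' hx' => h K x' hx').2⟩
    haveI := hN K
    exact ((normal_stalk_iff x').1 (h K x' hx')).1
  · rintro ⟨hR, hS⟩ K _ _ x' hx'
    haveI := hN K
    exact (normal_stalk_iff x').2 ⟨hR K x' hx', (hasSk_bc_iff q K x' 2).2 (hx'.symm ▸ hS)⟩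

theorem geomRk_all_fibre_iff (f : X ⟶ S) [LocallyOfFinitePresentation f] (n : ℕ) (x : X) :
    (∀ (K : Type u) [Field K] [Algebra (IsLocalRing.ResidueField (S.presheaf.stalk (f x))) K]
      (x' : ↥(FBase.bc (f.fiberToSpecResidueField (f x)) K)),
        (FBase.bcπ (f.fiberToSpecResidueField (f x)) K).base x' = f.asFiber x →
        LocCoh.HasRk n ((FBase.bc (f.fiberToSpecResidueField (f x)) K).presheaf.stalk x')) ↔ RkF n f x := by
  haveI hl : ∀ y, LocallyOfFinitePresentation (f.fiberToSpecResidueField y) := fun y =>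
    inferInstanceAs (LocallyOfFinitePresentation (pullback.snd f _))
  refine (@geomRk_all_iff (S.residueField (f x)) _ _ (f.fiberToSpecResidueField (f x)) (hl _) (f.asFiber x) n).trans ?_
  have h := forall_fiber_iff f (fun y w => f.fiberι y w ⤳ x →
    ringKrullDim ((f.fiber y).presheaf.stalk w) ≤ n → w ∈ (f.fiberToSpecResidueField y).smoothLocus) (f x)
  have hs : ∀ w : f.fiber (f x), f.fiberι (f x) w ⤳ x ↔ w ⤳ f.asFiber x := fun w => by
    rw [← (f.fiberι (f x)).isEmbedding.isInducing.specializes_iff, Scheme.Hom.fiberι_asFiber]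
  simp only [hs, Scheme.Hom.fiberι_asFiber] at h
  refine h.trans ?_
  have hd : ∀ z, ringKrullDim ((f.fiber (f z)).presheaf.stalk (f.asFiber z)) =
      ringKrullDim (X.presheaf.stalk z ⧸ baseIdeal f z) := fun z => by
    obtain ⟨e⟩ := FlatLocalDepth.nonempty_asFiber_stalk_equiv f z
    let e' : (X.presheaf.stalk z ⧸ baseIdeal f z) ≃+* (f.fiber (f z)).presheaf.stalk (f.asFiber z) := e
    exact (ringKrullDim_eq_of_ringEquiv e').symm
  constructor
  · intro h z hzx hfz hdz _
    exact h z hfz hzx (by rw [hd]; exact hdz)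
  · intro h z hfz hzx hdz
    exact @h z hzx hfz (by rw [← hd]; exact hdz) (hl _)

theorem geomNormal_all_fibre_iff (f : X ⟶ S) [LocallyOfFinitePresentation f] (x : X) :
    (∀ (K : Type u) [Field K] [Algebra (IsLocalRing.ResidueField (S.presheaf.stalk (f x))) K]
      (x' : ↥(FBase.bc (f.fiberToSpecResidueField (f x)) K)),
        (FBase.bcπ (f.fiberToSpecResidueField (f x)) K).base x' = f.asFiber x →
        IsDomain ((FBase.bc (f.fiberToSpecResidueField (f x)) K).presheaf.stalk x') ∧
          IsIntegrallyClosed ((FBase.bc (f.fiberToSpecResidueField (f x)) K).presheaf.stalk x')) ↔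
      RkF 1 f x ∧
        LocCoh.HasSk 2 ((f.fiber (f x)).presheaf.stalk (f.asFiber x)) ((f.fiber (f x)).presheaf.stalk (f.asFiber x)) := by
  haveI hl : ∀ y, LocallyOfFinitePresentation (f.fiberToSpecResidueField y) := fun y =>
    inferInstanceAs (LocallyOfFinitePresentation (pullback.snd f _))
  rw [← geomRk_all_fibre_iff f 1 x]
  exact @normal_aux (S.residueField (f x)) _ _ (f.fiberToSpecResidueField (f x)) (hl _) (f.asFiber x)

end Groth.Agent.RectDepth
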