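import Mathlib
import Groth.Agent.RectDepth.StalkGen
import Groth.Agent.QuasiFlatLib.Basic
import Groth.Agent.LocCohBasic.RegularPd
import Groth.Agent.PdLocus.Basic
import Groth.Agent.CAlgReg.AusBuch
import Groth.Agent.FlatDim.Basic

/-!
Rectified depth on regular biequidimensional schemes.
-/

set_option autoImplicit false
set_option linter.all false
set_option backward.isDefEq.respectTransparency.types false
set_option synthInstance.maxHeartbeats 80000
noncomputable section

universe u

open CategoryTheory AlgebraicGeometry TopologicalSpace IsLocalRing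
open Groth.Agent.FlatOver

namespace Groth.Agent.RectDepth

variable (X : Scheme.{u})

/-- The hypotheses. -/
structure BiEquidim : Prop where
  noeth : IsNoetherian X
  reg : ∀ x : X, IsRegularLocalRing ↑(X.presheaf.stalk x)
  fin : topologicalKrullDim X < ⊤
  comp : ∀ C ∈ irreducibleComponents (X : Type u), topologicalKrullDim ↥C = topologicalKrullDim X
  chain : ∀ (y : X) (T : Set X), IsClosed T → IsIrreducible T → y ∈ T →
    topologicalKrullDim ↥T = topologicalKrullDim ↥(closure ({y} : Set X)) + topologicalKrullDim ↥{t : X | t ∈ T ∧ t ⤳ y}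

variable {X}

theorem BiEquidim.dim_add (hX : BiEquidim X) (x : X) :
    ∃ c d D : ℕ, topologicalKrullDim ↥(closure ({x} : Set X)) = (c : WithBot ℕ∞) ∧
      ringKrullDim (X.presheaf.stalk x) = (d : WithBot ℕ∞) ∧ topologicalKrullDim X = (D : WithBot ℕ∞) ∧ c + d = D := by
  haveI := hX.reg x
  haveI : Nonempty X := ⟨x⟩
  obtain ⟨d, hd⟩ := Groth.Agent.CAlgReg.exists_dim (R := X.presheaf.stalk x)
  obtain ⟨η, hη, hmax⟩ := FlatMorLib.exists_maximal_generization x
  have hC : closure ({η} : Set X) ∈ irreducibleComponents (X : Type u) :=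
    FlatDim.closure_mem_irreducibleComponents hmax
  haveI : IsDomain (X.presheaf.stalk x) := CAlgReg.isDomain
  have hgen : {t : X | t ∈ closure ({η} : Set X) ∧ t ⤳ x} = Set.range (X.fromSpecStalk x) := by
    rw [Scheme.range_fromSpecStalk]
    refine Set.Subset.antisymm (fun t ht => ht.2) fun t ht => ⟨?_, ht⟩
    obtain ⟨p, hp⟩ := exists_specStalkEmb x t ht
    obtain ⟨P, hP⟩ := exists_specStalkEmb x η hη
    let b : PrimeSpectrum (X.presheaf.stalk x) := ⟨⊥, Ideal.isPrime_bot⟩
    have hb : specStalkEmb x b = η := by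
      refine hmax _ (hP ▸ ?_)
      exact (specStalkEmb_le_iff x b P).2 (show b.asIdeal ≤ P.asIdeal from bot_le)
    rw [← hb, ← hp]
    exact specializes_iff_mem_closure.1 ((specStalkEmb_le_iff x b p).2 (show b.asIdeal ≤ p.asIdeal from bot_le))
  have h := hX.chain x _ isClosed_closure isIrreducible_singleton.closure (specializes_iff_mem_closure.1 hη)
  rw [hX.comp _ hC, hgen, ← (X.fromSpecStalk x).isEmbedding.toHomeomorph.isHomeomorph.topologicalKrullDim_eq,
    show topologicalKrullDim ↥(Spec (X.presheaf.stalk x)) = ringKrullDim (X.presheaf.stalk x) from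
      PrimeSpectrum.topologicalKrullDim_eq_ringKrullDim _, hd] at h
  have hfin := hX.fin
  rw [h] at hfin
  haveI : Nonempty ↥(closure ({x} : Set X)) := ⟨⟨x, subset_closure rfl⟩⟩
  obtain ⟨c, hc⟩ : ∃ c : ℕ, topologicalKrullDim ↥(closure ({x} : Set X)) = (c : WithBot ℕ∞) := by
    rw [DimTheory.topologicalKrullDim_closure]
    cases hh : Order.height x with
    | top =>
      rw [DimTheory.topologicalKrullDim_closure, hh] at hfin
      rw [← WithBot.coe_natCast, ← WithBot.coe_add, top_add] at hfin
      exact absurd hfin (lt_irrefl _)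
    | coe n => exact ⟨n, rfl⟩
  refine ⟨c, d, c + d, hc, hd, ?_, rfl⟩
  rw [h, hc]; push_cast; rfl

/-- Depth of a stalk of a quasi-coherent module read on a chart. -/
theorem depth_stalk_eq [IsLocallyNoetherian X] (F : X.Modules) (hF : Coh.IsCoh F) {V : X.Opens}
    (hV : IsAffineOpen V) (q : PrimeSpectrum Γ(X, V)) :
    LocCoh.depth (X.presheaf.stalk (hV.fromSpec q)) (F.presheaf.stalk (hV.fromSpec q)) =
        LocCoh.depth (Localization.AtPrime q.asIdeal) (LocalizedModule q.asIdeal.primeCompl Γ(F, V)) ∧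
      ringKrullDim (X.presheaf.stalk (hV.fromSpec q)) = ringKrullDim (Localization.AtPrime q.asIdeal) ∧
      (Nontrivial (F.presheaf.stalk (hV.fromSpec q)) ↔ Nontrivial (LocalizedModule q.asIdeal.primeCompl Γ(F, V))) ∧
      Nonempty (X.presheaf.stalk (hV.fromSpec q) ≃+* Localization.AtPrime q.asIdeal) := by
  let P := Γ(X, V)
  haveI : IsNoetherianRing P := IsLocallyNoetherian.component_noetherian ⟨V, hV⟩
  haveI := hF.1
  haveI : Module.Finite P Γ(F, V) := QCohBase.finite_sections F hF.2 hV
  have hy : hV.fromSpec q ∈ V := hV.range_fromSpec.le ⟨q, rfl⟩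
  have hr : hV.primeIdealOf ⟨_, hy⟩ = q := hV.fromSpec.isOpenEmbedding.injective (hV.fromSpec_primeIdealOf _)
  let y := hV.fromSpec q
  letI : Algebra P (X.presheaf.stalk y) := (X.presheaf.germ V y hy).hom.toAlgebra
  haveI : IsLocalization.AtPrime (X.presheaf.stalk y) q.asIdeal := by
    have aux : ∀ (I J : Ideal P) [I.IsPrime] [J.IsPrime], I = J → IsLocalization.AtPrime (X.presheaf.stalk y) I →
        IsLocalization.AtPrime (X.presheaf.stalk y) J := fun I J _ _ e hh => by subst e; exact hh
    exact aux _ _ (congrArg PrimeSpectrum.asIdeal hr) (hV.isLocalization_stalk ⟨y, hy⟩)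
  letI := germModule F y hy
  haveI : IsLocalizedModule q.asIdeal.primeCompl (germₗ F y hy) := by
    have aux : ∀ (I J : Ideal P) [I.IsPrime] [J.IsPrime], I = J → IsLocalizedModule I.primeCompl (germₗ F y hy) →
        IsLocalizedModule J.primeCompl (germₗ F y hy) := fun I J _ _ e hh => by subst e; exact hh
    exact aux _ _ (congrArg PrimeSpectrum.asIdeal hr) (isLocalizedModule_germₗ F hV y hy)
  let Rp := Localization.AtPrime q.asIdeal
  let e : Rp ≃ₐ[P] X.presheaf.stalk y := IsLocalization.algEquiv q.asIdeal.primeCompl Rp (X.presheaf.stalk y)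
  letI : Algebra Rp (X.presheaf.stalk y) := e.toRingEquiv.toRingHom.toAlgebra
  letI : Module Rp (F.presheaf.stalk y) := Module.compHom _ e.toRingEquiv.toRingHom
  haveI : IsScalarTower Rp (X.presheaf.stalk y) (F.presheaf.stalk y) := .of_algebraMap_smul fun _ _ => rfl
  haveI : IsScalarTower P Rp (F.presheaf.stalk y) := .of_algebraMap_smul fun r m => by
    show e (algebraMap P Rp r) • m = _
    rw [e.commutes]
    rfl
  have h2 : IsBaseChange Rp (LocalizedModule.mkLinearMap q.asIdeal.primeCompl Γ(F, V)) :=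
    IsLocalizedModule.isBaseChange q.asIdeal.primeCompl Rp _
  have h3 : IsBaseChange Rp (germₗ F y hy) :=
    (isLocalizedModule_iff_isBaseChange q.asIdeal.primeCompl Rp _).1 inferInstance
  let L : LocalizedModule q.asIdeal.primeCompl Γ(F, V) ≃ₗ[Rp] F.presheaf.stalk y := h2.equiv.symm.trans h3.equiv
  haveI : Module.Finite Rp (LocalizedModule q.asIdeal.primeCompl Γ(F, V)) :=
    Module.Finite.of_isLocalizedModule q.asIdeal.primeCompl (LocalizedModule.mkLinearMap _ _)
  haveI : Module.Finite Rp (F.presheaf.stalk y) := Module.Finite.equiv L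
  haveI : Module.Finite (X.presheaf.stalk y) (F.presheaf.stalk y) := Module.Finite.of_restrictScalars_finite Rp _ _
  have hs : Function.Surjective (algebraMap Rp (X.presheaf.stalk y)) := e.surjective
  exact ⟨by rw [Depth.depth_congr L, ← Depth.depth_eq_of_surjective hs],
    (ringKrullDim_eq_of_ringEquiv e.toRingEquiv).symm, L.toEquiv.nontrivial_congr.symm, ⟨e.toRingEquiv.symm⟩⟩

/-- `depth + dim closure + pd = dim`. -/
theorem BiEquidim.depth_add (hX : BiEquidim X) (F : X.Modules) (hF : Coh.IsCoh F) (x : X)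
    [Nontrivial (F.presheaf.stalk x)] :
    ∃ δ e c d D : ℕ, LocCoh.depth (X.presheaf.stalk x) (F.presheaf.stalk x) = (δ : ℕ∞) ∧
      projectiveDimension (ModuleCat.of (X.presheaf.stalk x) (F.presheaf.stalk x)) = (e : WithBot ℕ∞) ∧
      topologicalKrullDim ↥(closure ({x} : Set X)) = (c : WithBot ℕ∞) ∧ topologicalKrullDim X = (D : WithBot ℕ∞) ∧
      ringKrullDim (X.presheaf.stalk x) = (d : WithBot ℕ∞) ∧ δ + e = d ∧ c + d = D := by
  obtain ⟨c, d, D, hc, hd, hD, hcd⟩ := hX.dim_add x
  haveI := hX.reg x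
  haveI := QuasiFlatLib.finite_stalk F hF x
  let R := X.presheaf.stalk x
  let M := F.presheaf.stalk x
  have hne : projectiveDimension (ModuleCat.of R M) ≠ ⊥ :=
    fun h => not_subsingleton _ (ModuleCat.subsingleton_of_isZero ((projectiveDimension_eq_bot_iff _).1 h))
  obtain ⟨a, ha⟩ := WithBot.ne_bot_iff_exists.1 hne
  have hle : projectiveDimension (ModuleCat.of R M) ≤ (d : WithBot ℕ∞) :=
    (projectiveDimension_le_iff _ d).2 (CAlgReg.pdLT_of_isRegularLocalRing hd M)
  rw [← ha, ← WithBot.coe_natCast, WithBot.coe_le_coe] at hle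
  obtain ⟨e, rfl⟩ := ENat.ne_top_iff_exists.1 (show a ≠ ⊤ from fun h => by rw [h] at hle; exact absurd hle (by simp))
  have hab := CAlgReg.auslander_buchsbaum (R := R) M e ha.symm
  rw [CAlgReg.depth_self_eq_dim hd] at hab
  obtain ⟨δ, hδ⟩ := ENat.ne_top_iff_exists.1 (show LocCoh.depth R M ≠ ⊤ from Depth.depth_ne_top)
  rw [← hδ] at hab
  refine ⟨δ, e, c, d, D, hδ.symm, ha.symm, hc, hD, hd, ?_, hcd⟩
  have : d = e + δ := by exact_mod_cast hab
  omega

/-- The rectified depth is lower semicontinuous. -/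
theorem BiEquidim.isOpen_le (hX : BiEquidim X) (F : X.Modules) (hF : Coh.IsCoh F) (n : ℕ) :
    IsOpen {x : X | (n : WithBot ℕ∞) ≤
      ((LocCoh.depth ↑(X.presheaf.stalk x) ↑(F.presheaf.stalk x) : ℕ∞) : WithBot ℕ∞) +
        topologicalKrullDim ↥(closure ({x} : Set X))} := by
  haveI := hX.noeth
  rw [isOpen_iff_forall_mem_open]
  intro x hx
  obtain ⟨V, hV, hxV, -⟩ := exists_isAffineOpen_mem_and_subset (x := x) (U := (⊤ : X.Opens)) trivial
  let P := Γ(X, V)
  haveI : IsNoetherianRing P := IsLocallyNoetherian.component_noetherian ⟨V, hV⟩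
  haveI := hF.1
  haveI : Module.Finite P Γ(F, V) := QCohBase.finite_sections F hF.2 hV
  let D : WithBot ℕ∞ := topologicalKrullDim X
  let G : Set (PrimeSpectrum P) := (Module.support P Γ(F, V))ᶜ ∪
    ⋃ m ∈ {m : ℕ | ((m + n : ℕ) : WithBot ℕ∞) ≤ D}, PdLocus.locus Γ(F, V) m
  have hG : IsOpen G := Module.isClosed_support.isOpen_compl.union (isOpen_biUnion fun m _ => PdLocus.isOpen_locus m _)
  have key : ∀ q, q ∈ G ↔ (n : WithBot ℕ∞) ≤
      ((LocCoh.depth (X.presheaf.stalk (hV.fromSpec q)) (F.presheaf.stalk (hV.fromSpec q)) : ℕ∞) : WithBot ℕ∞) +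
        topologicalKrullDim ↥(closure ({hV.fromSpec q} : Set X)) := by
    intro q
    obtain ⟨h1, h2, h3, ⟨he⟩⟩ := depth_stalk_eq F hF hV q
    obtain ⟨c, d, D', hc, hd, hD', hcd⟩ := hX.dim_add (hV.fromSpec q)
    let R := Localization.AtPrime q.asIdeal
    let M := LocalizedModule q.asIdeal.primeCompl Γ(F, V)
    haveI := hX.reg (hV.fromSpec q)
    rcases subsingleton_or_nontrivial M with hsub | hnt
    · refine iff_of_true (Or.inl (Module.notMem_support_iff.2 hsub)) ?_
      rw [h1, LocCoh.depth, Depth.idealDepth_eq_top (M := M) (Subsingleton.elim _ _), hc, show ((n : WithBot ℕ∞)) = ((n : ℕ∞) : WithBot ℕ∞) from rfl,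
        show ((c : WithBot ℕ∞)) = ((c : ℕ∞) : WithBot ℕ∞) from rfl, ← WithBot.coe_add, top_add]
      exact WithBot.coe_le_coe.2 le_top
    · haveI := h3.2 hnt
      obtain ⟨δ, e, c', d', D'', hδ, -, hc', hD'', hd', hsum, hcd'⟩ := hX.depth_add F hF (hV.fromSpec q)
      have hqs : q ∈ Module.support P Γ(F, V) := Module.mem_support_iff.2 hnt
      rw [hc'] at hc
      rw [hd'] at hd
      rw [hδ, hc']
      rw [h1] at hδ
      rw [h2] at hd'
      haveI : IsRegularLocalRing R := IsRegularLocalRing.of_ringEquiv he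
      haveI : Module.Finite R M := Module.Finite.of_isLocalizedModule q.asIdeal.primeCompl (LocalizedModule.mkLinearMap _ _)
      have hloc : ∀ m, q ∈ PdLocus.locus (R := P) Γ(F, V) m ↔ d' ≤ δ + m := by
        intro m
        constructor
        · intro hm
          have hnb : ∀ k, k ≤ m → CAlgReg.PdLT R M (k + 1) → ∃ i ≤ k, CAlgReg.PdLT R M (i + 1) ∧ ¬ CAlgReg.PdLT R M i := by
            intro k
            induction k with
            | zero =>
              intro _ hk
              refine ⟨0, le_rfl, hk, fun h0 => not_subsingleton M ?_⟩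
              exact ModuleCat.subsingleton_of_isZero ((hasProjectiveDimensionLT_zero_iff_isZero (ModuleCat.of R M)).mp h0)
            | succ k ih =>
              intro hk hk'
              by_cases h : CAlgReg.PdLT R M (k + 1)
              · obtain ⟨i, hi, h'⟩ := ih (by omega) h
                exact ⟨i, by omega, h'⟩
              · exact ⟨k + 1, le_rfl, hk', h⟩
          obtain ⟨i, hi, hi1, hi2⟩ := hnb m le_rfl hm
          have hAB := CAlgReg.auslander_buchsbaum_aux i M hi1 hi2
          rw [CAlgReg.depth_self_eq_dim hd', hδ] at hAB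
          have : d' = i + δ := by exact_mod_cast hAB
          omega
        · intro hm
          exact LocCohBasic.hasProjectiveDimensionLE_of_depth M hd' (by rw [hδ]; exact_mod_cast hm)
      constructor
      · rintro (hns | hm)
        · exact absurd hqs hns
        · obtain ⟨m, hm, hqm⟩ := Set.mem_iUnion₂.1 hm
          have h4 := (hloc m).1 hqm
          have h5 : m + n ≤ D'' := by
            have h6 : ((m + n : ℕ) : WithBot ℕ∞) ≤ D := hm
            rw [show D = (D'' : WithBot ℕ∞) from hD'', Nat.cast_le] at h6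
            exact h6
          exact_mod_cast (show n ≤ δ + c' by omega)
      · intro hle
        have h4 : n ≤ δ + c' := by exact_mod_cast hle
        refine Or.inr (Set.mem_iUnion₂.2 ⟨d' - δ, ?_, (hloc _).2 (by omega)⟩)
        show ((d' - δ + n : ℕ) : WithBot ℕ∞) ≤ D
        rw [show D = (D'' : WithBot ℕ∞) from hD'']
        exact Nat.cast_le.2 (by omega)
  refine ⟨hV.fromSpec '' G, ?_, hV.fromSpec.isOpenEmbedding.isOpenMap _ hG, ?_⟩
  · rintro _ ⟨q, hq, rfl⟩
    exact (key q).1 hq
  · obtain ⟨q, rfl⟩ := hV.range_fromSpec.ge hxV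
    exact ⟨q, (key q).2 hx, rfl⟩

end Groth.Agent.RectDepth
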