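import Mathlib
import Groth.Agent.RectDepth.StalkGen
import Groth.Agent.RectDepth.SupDim
import Groth.Agent.SerreLift.Catenary
import Groth.Agent.EquidimChart.ChainIneq
import Groth.Agent.EquidimChart.Formula
import Groth.Agent.EquidimChart.Ineq
import Groth.Agent.EquidimChart.Section

/-!
The dimension of an irreducible scheme locally of finite type over a universally catenary Jacobson base with
equicodimensional components.
-/

set_option autoImplicit false
set_option linter.all false
set_option backward.isDefEq.respectTransparency.types false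
noncomputable section

universe u

open CategoryTheory CategoryTheory.Limits AlgebraicGeometry TopologicalSpace IsLocalRing Groth.Agent.DimTheory

namespace Groth.Agent.RectDepth

variable {X Y S : Scheme.{u}}

/-- Chains of specializations from `s` up to `σ` have length at most `n`, and one has length `n`. -/
def ChainLen (s σ : S) (n : ℕ) : Prop :=
  (∀ r : LTSeries S, r.head = s → σ ⤳ r.last → r.length ≤ n) ∧
    ∃ r : LTSeries S, r.head = s ∧ r.last = σ ∧ r.length = n

theorem chainLen_of_hasLen {s : S} {p p' : PrimeSpectrum (S.presheaf.stalk s)} {n : ℕ}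
    (h : SerreLift.HasLen p p' n) : ChainLen (specStalkEmb s p') (specStalkEmb s p) n := by
  obtain ⟨⟨c, c1, c2, c3, -⟩, hmax⟩ := h
  refine ⟨fun r hr1 hr2 => ?_, ?_⟩
  · have hge : ∀ i, s ≤ r i := fun i =>
      (specStalkEmb_le s p').trans (hr1 ▸ (show r.head ≤ r i from r.monotone (Fin.zero_le i)))
    choose q hq using fun i => exists_specStalkEmb s (r i) (hge i)
    let l : LTSeries (PrimeSpectrum (S.presheaf.stalk s)) := LTSeries.mk r.length (fun i => q i.rev) (fun i j hij => by
      have h1 : r j.rev < r i.rev := r.strictMono (Fin.rev_lt_rev.2 hij)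
      rw [← hq, ← hq] at h1
      refine lt_of_le_of_ne ((specStalkEmb_le_iff s _ _).1 h1.le) fun h2 => h1.ne' ?_
      exact congrArg (specStalkEmb s) h2)
    have hlast : l.last = p' := specStalkEmb_injective s (by
      show specStalkEmb s (q (Fin.rev (Fin.last _))) = _
      rw [Fin.rev_last, hq]; exact hr1)
    have hhead : p ≤ l.head := (specStalkEmb_le_iff s _ _).1 (by
      show specStalkEmb s (q (Fin.rev 0)) ≤ _
      rw [Fin.rev_zero, hq]; exact hr2)
    show l.length ≤ n
    rcases eq_or_lt_of_le hhead with he | hlt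
    · exact hmax l he.symm hlast
    · have := hmax (l.cons p hlt) (RelSeries.head_cons ..) (by rw [RelSeries.last_cons, hlast])
      simp at this
      omega
  · refine ⟨LTSeries.mk c.length (fun i => specStalkEmb s (c i.rev)) (fun i j hij => ?_), ?_, ?_, c3⟩
    · have h1 : c j.rev < c i.rev := c.strictMono (Fin.rev_lt_rev.2 hij)
      exact FlatDim.lt_of_specializes_of_ne ((specStalkEmb_le_iff s _ _).2 h1.le) fun h2 => h1.ne' (specStalkEmb_injective s h2)
    · show specStalkEmb s (c (Fin.rev 0)) = _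
      rw [Fin.rev_zero]; exact congrArg _ c2
    · show specStalkEmb s (c (Fin.rev (Fin.last _))) = _
      rw [Fin.rev_last]; exact congrArg _ c1

theorem ChainLen.unique {s σ : S} {n m : ℕ} (h : ChainLen s σ n) (h' : ChainLen s σ m) : n = m := by
  obtain ⟨h1, r, r1, r2, r3⟩ := h
  obtain ⟨h1', r', r1', r2', r3'⟩ := h'
  exact le_antisymm (r3 ▸ h1' r r1 (r2 ▸ specializes_rfl)) (r3' ▸ h1 r' r1' (r2' ▸ specializes_rfl))

/-- Additivity of lengths at a catenary stalk. -/
theorem exists_chainLen_add {s σ η : S} (hcat : CAlg.IsCatenary (S.presheaf.stalk s)) (hs : σ ⤳ s) (hσ : η ⤳ σ) :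
    ∃ k n : ℕ, ChainLen s σ k ∧ ChainLen σ η n ∧ ChainLen s η (n + k) := by
  obtain ⟨p, hp⟩ := exists_specStalkEmb s σ hs
  obtain ⟨P, hP⟩ := exists_specStalkEmb s η (hσ.trans hs)
  have hm : specStalkEmb s (IsLocalRing.closedPoint (S.presheaf.stalk s)) = s :=
    Scheme.fromSpecStalk_closedPoint
  have hPp : P ≤ p := (specStalkEmb_le_iff s _ _).1 (by rw [hp, hP]; exact hσ)
  have hpm : p ≤ IsLocalRing.closedPoint _ := IsLocalRing.le_maximalIdeal p.2.ne_top
  obtain ⟨k, hk⟩ := SerreLift.exists_hasLen hcat hpm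
  obtain ⟨n, hn⟩ := SerreLift.exists_hasLen hcat hPp
  obtain ⟨N, hN⟩ := SerreLift.exists_hasLen hcat (hPp.trans hpm)
  obtain rfl : N = n + k := hn.add hcat hk hN
  have h1 := chainLen_of_hasLen hk
  have h2 := chainLen_of_hasLen hn
  have h3 := chainLen_of_hasLen hN
  rw [hm, hp] at h1
  rw [hp, hP] at h2
  rw [hm, hP] at h3
  exact ⟨k, n, h1, h2, h3⟩

/-- The dimension of the generizations of `s` in the closure of `η`. -/
theorem topologicalKrullDim_gen {s η : S} {n : ℕ} (h : ChainLen s η n) (hη : η ⤳ s) :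
    topologicalKrullDim ↥{t : S | t ∈ closure ({η} : Set S) ∧ t ⤳ s} = (n : WithBot ℕ∞) := by
  let W : Closeds S := ⟨closure {η}, isClosed_closure⟩
  obtain ⟨hirr, hgen, hr⟩ := EquidimChart.component_subscheme η W rfl
  let T := (Scheme.IdealSheafData.vanishingIdeal W).subscheme
  let ι : T ⟶ S := (Scheme.IdealSheafData.vanishingIdeal W).subschemeι
  obtain ⟨t, ht⟩ : s ∈ Set.range ι := hr.symm ▸ specializes_iff_mem_closure.1 hη
  let j := T.fromSpecStalk t ≫ ι
  have hj : Set.range j = {t : S | t ∈ closure ({η} : Set S) ∧ t ⤳ s} := by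
    rw [Scheme.Hom.comp_base, TopCat.coe_comp, Set.range_comp, Scheme.range_fromSpecStalk]
    ext a
    constructor
    · rintro ⟨b, hb, rfl⟩
      exact ⟨hr.le ⟨b, rfl⟩, ht ▸ (show b ⤳ t from hb).map ι.continuous⟩
    · rintro ⟨ha, has⟩
      obtain ⟨b, rfl⟩ := hr.ge ha
      exact ⟨b, ι.isEmbedding.isInducing.specializes_iff.1 (ht ▸ has), rfl⟩
  rw [← hj, ← j.isEmbedding.toHomeomorph.isHomeomorph.topologicalKrullDim_eq,
    show topologicalKrullDim ↥(Spec (T.presheaf.stalk t)) = ringKrullDim (T.presheaf.stalk t) from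
      PrimeSpectrum.topologicalKrullDim_eq_ringKrullDim _, ringKrullDim_stalk_eq_coheight, ← WithBot.coe_natCast,
    WithBot.coe_inj]
  have hmono : StrictMono ι := EquidimChart.strictMono_immersion ι
  obtain ⟨hmax, r, r1, r2, r3⟩ := h
  refine le_antisymm ?_ ?_
  · refine Order.coheight_le fun l hl => ?_
    refine Nat.cast_le.2 ?_
    refine hmax (l.map ι hmono) (by rw [LTSeries.head_map, hl, ht]) ?_
    rw [LTSeries.last_map]
    exact specializes_iff_mem_closure.2 (hr.le ⟨_, rfl⟩)
  · have hle : ∀ i, r i ∈ Set.range ι := fun i => hr.ge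
      (specializes_iff_mem_closure.1 (r2 ▸ (show r i ≤ r.last from r.monotone (Fin.le_last i))))
    choose w hw using hle
    let l : LTSeries T := LTSeries.mk r.length w (fun a b hab => by
      have h1 : r a < r b := r.strictMono hab
      rw [← hw, ← hw] at h1
      exact FlatDim.lt_of_specializes_of_ne (ι.isEmbedding.isInducing.specializes_iff.1 h1.le) fun h2 => h1.ne (congrArg ι h2))
    rw [← r3]
    refine Order.length_le_coheight (p := l) (le_of_eq ?_)
    exact ι.isEmbedding.injective (by rw [ht, ← r1]; exact (hw 0).symm)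

/-- The length from closed points up to a fixed point is constant. -/
theorem exists_const_chainLen (h2 : ∀ s : S, CAlg.IsUniversallyCatenary (S.presheaf.stalk s))
    (h3 : ∀ S' ∈ irreducibleComponents (S : Type u), ∀ s ∈ S', IsClosed ({s} : Set S) →
      topologicalKrullDim (↥S' : Type u) = topologicalKrullDim ↥{t : S | t ∈ S' ∧ t ⤳ s})
    (σ : S) [JacobsonSpace S] :
    ∃ K : ℕ, ∀ s : S, IsClosed ({s} : Set S) → σ ⤳ s → ChainLen s σ K := by
  obtain ⟨η, hη, hmax⟩ := FlatMorLib.exists_maximal_generization σ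
  have hC : closure ({η} : Set S) ∈ irreducibleComponents (S : Type u) :=
    FlatDim.closure_mem_irreducibleComponents hmax
  obtain ⟨s₀, hs₀, hs₀c⟩ := nonempty_inter_closedPoints (X := S) (Z := closure {σ})
    ⟨σ, subset_closure rfl⟩ isClosed_closure.isLocallyClosed
  obtain ⟨k₀, n₀, hk₀, hn₀, hN₀⟩ := exists_chainLen_add ((h2 s₀).2 _ inferInstance) (specializes_iff_mem_closure.2 hs₀) hη
  refine ⟨k₀, fun s hs hsσ => ?_⟩
  obtain ⟨k, n, hk, hn, hN⟩ := exists_chainLen_add ((h2 s).2 _ inferInstance) hsσ hη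
  obtain rfl := hn.unique hn₀
  have e := h3 _ hC s₀ ((hη.trans (specializes_iff_mem_closure.2 hs₀)).mem_closure) hs₀c
  have e' := h3 _ hC s ((hη.trans hsσ).mem_closure) hs
  rw [topologicalKrullDim_gen hN₀ (hη.trans (specializes_iff_mem_closure.2 hs₀))] at e
  rw [topologicalKrullDim_gen hN (hη.trans hsσ), e, Nat.cast_inj] at e'
  obtain rfl : k = k₀ := by omega
  exact hk

/-- The dimension of an irreducible scheme locally of finite type over the base. -/
theorem dim_eq_of_const [IsLocallyNoetherian S] [JacobsonSpace S]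
    (h2 : ∀ s : S, CAlg.IsUniversallyCatenary (S.presheaf.stalk s))
    (q : X ⟶ S) [LocallyOfFiniteType q] [IrreducibleSpace X] {K e : ℕ}
    (hK : ∀ s : S, IsClosed ({s} : Set S) → q (genericPoint X) ⤳ s → ChainLen s (q (genericPoint X)) K)
    (he : mapTrdeg q (genericPoint X) = e) :
    topologicalKrullDim X = ((K + e : ℕ) : WithBot ℕ∞) := by
  haveI : JacobsonSpace X := LocallyOfFiniteType.jacobsonSpace q
  have key : ∀ z : X, IsClosed ({z} : Set X) → Order.coheight z = ((K + e : ℕ) : ℕ∞) := by
    intro z hz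
    have hs : IsClosed ({q z} : Set S) := q.closePoints_subset_preimage_closedPoints hz
    obtain ⟨hmax, r, r1, r2, r3⟩ := hK (q z) hs ((genericPoint_specializes z).map q.continuous)
    have ht : mapTrdeg q z = ((0 : ℕ) : Cardinal) := by
      rw [EquidimChart.mapTrdeg_eq_zero_of_closed q fun x' _ hx' => ?_, Nat.cast_zero]
      exact hz.closure_eq.le hx'.mem_closure
    refine le_antisymm ?_ ?_
    · refine Order.coheight_le fun l hl => ?_
      obtain ⟨r', r1', r2', hle⟩ := EquidimChart.chain_ineq q ht he l hl (genericPoint_specializes _)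
      have := hmax r' r1' r2'
      exact Nat.cast_le.2 (by omega)
    · have h := EquidimChart.chain_formula q (genericPoint_specializes z) (h2 _) ht he r r1 (r2 ▸ specializes_rfl)
      rwa [Nat.cast_zero, add_zero, r3] at h
  rw [← EquidimChart.krullDim_eq, Order.krullDim_eq_iSup_coheight]
  obtain ⟨z₀, -, hz₀⟩ := nonempty_inter_closedPoints (X := X) (Z := Set.univ)
    ⟨genericPoint X, trivial⟩ isClosed_univ.isLocallyClosed
  refine le_antisymm (iSup_le fun x => ?_) (le_iSup_of_le z₀ (le_of_eq ?_))
  · obtain ⟨z, hzx, hz⟩ := nonempty_inter_closedPoints (X := X) (Z := closure {x})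
      ⟨x, subset_closure rfl⟩ isClosed_closure.isLocallyClosed
    rw [← WithBot.coe_natCast, WithBot.coe_le_coe, ← key z hz]
    exact Order.coheight_anti (show z ≤ x from specializes_iff_mem_closure.2 hzx)
  · rw [key z₀ hz₀]; rfl

end Groth.Agent.RectDepth
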