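import Mathlib
import Groth.Agent.EquidimChart.Crit
import Groth.Agent.EquidimChart.DimOpen
import Groth.Agent.EquidimChart.Ineq
import Groth.Agent.RectDepth.SkBC

/-!
Codimension of a closed irreducible subset against the fibre dimensions of an equidimensional morphism.
-/

set_option autoImplicit false
set_option linter.all false
set_option backward.isDefEq.respectTransparency.types false
noncomputable section

universe u

open CategoryTheory CategoryTheory.Limits AlgebraicGeometry TopologicalSpace Groth.Agent.DimTheory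

namespace Groth.Agent.RectDepth

variable {X Y : Scheme.{u}} (f : X ⟶ Y)

/-- If `x'` loses at most as much dimension as its codimension, it dominates. -/
theorem codim_data [LocallyOfFiniteType f] {x' : X} {e n a : ℕ}
    (hF : FlatMor.fibreDimAt f x' = (e : WithBot ℕ∞))
    (hcomp : ∀ ξ : X, ξ ⤳ x' → (∀ z : X, z ⤳ ξ → z = ξ) → ∀ w : Y, w ⤳ f ξ → w = f ξ)
    (hcodim : Order.coheight x' ≤ (n : ℕ∞)) (ha : mapTrdeg f x' = a) (hle : a + n ≤ e) :
    Order.coheight x' = (n : ℕ∞) ∧ a + n = e ∧ ∀ w : Y, w ⤳ f x' → w = f x' := by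
  obtain ⟨a', ha1, ha'⟩ := EquidimChart.height_asFiber f x'
  obtain rfl : a = a' := Nat.cast_injective (R := Cardinal.{u}) (ha.symm.trans ha1)
  have hadd := fibreDimAt_eq_add f x'
  obtain ⟨ee⟩ := FlatLocalDepth.nonempty_asFiber_stalk_equiv f x'
  let e' : (X.presheaf.stalk x' ⧸ baseIdeal f x') ≃+* (f.fiber (f x')).presheaf.stalk (f.asFiber x') := ee
  rw [ringKrullDim_eq_of_ringEquiv e', ringKrullDim_stalk_eq_coheight, hF, ha',
    ← WithBot.coe_add, ← WithBot.coe_natCast, WithBot.coe_inj] at hadd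
  have hmono : StrictMono (f.fiberι (f x')) := EquidimChart.strictMono_immersion _
  have hle' : Order.coheight (f.asFiber x') ≤ Order.coheight x' := by
    have := Order.coheight_le_coheight_apply_of_strictMono (fun p => f.fiberι (f x') p) hmono (f.asFiber x')
    rwa [Scheme.Hom.fiberι_asFiber] at this
  obtain ⟨c, hc⟩ := ENat.ne_top_iff_exists.1 (show Order.coheight (f.asFiber x') ≠ ⊤ from fun h => by
    rw [h, top_add] at hadd; exact ENat.natCast_ne_top e hadd)
  rw [← hc] at hadd hle'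
  have hcae : e = c + a := by exact_mod_cast hadd
  have hcn : c ≤ n := by exact_mod_cast hle'.trans hcodim
  obtain rfl : c = n := by omega
  refine ⟨le_antisymm hcodim hle', by omega, ?_⟩
  obtain ⟨l, hl, hlen⟩ := Order.exists_series_of_le_coheight (f.asFiber x') hc.le
  let l0 := l.map _ hmono
  obtain ⟨ξ, hξ, hξmax⟩ := FlatMorLib.exists_maximal_generization l0.last
  have hl0 : l0.head = x' := by rw [LTSeries.head_map, hl, Scheme.Hom.fiberι_asFiber]
  have hlast : f l0.last = f x' :=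
    (Scheme.Hom.range_fiberι f (f x')).le ⟨l.last, (LTSeries.last_map _ _ _).symm⟩
  have hξx : ξ ⤳ x' := hξ.trans (hl0 ▸ (show l0.last ⤳ l0.head from l0.head_le_last))
  have hηξ := hcomp ξ hξx hξmax
  by_cases hξl : ξ = l0.last
  · rw [← hlast, ← hξl]; exact hηξ
  · exfalso
    have hlt : l0.last < ξ := lt_of_le_not_ge hξ fun h => hξl (hξ.antisymm h).eq
    have h1 := Order.length_le_coheight_head (p := l0.snoc ξ hlt)
    rw [RelSeries.head_snoc, hl0, RelSeries.snoc_length, show l0.length = c from hlen] at h1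
    have h2 := h1.trans hcodim
    norm_cast at h2
    omega

/-- Maximal points of the zero locus of a function have codimension at most one. -/
theorem coheight_le_one_of_zeroLocus [IsLocallyNoetherian X] (g : Γ(X, ⊤)) {ξ : X}
    (hξ : ξ ∈ X.zeroLocus ({g} : Set Γ(X, ⊤)))
    (hmax : ∀ z : X, z ⤳ ξ → z ∈ X.zeroLocus ({g} : Set Γ(X, ⊤)) → z = ξ) :
    Order.coheight ξ ≤ 1 := by
  obtain ⟨V, hV, hξV, -⟩ := exists_isAffineOpen_mem_and_subset (x := ξ) (U := (⊤ : X.Opens)) trivial
  haveI : IsNoetherianRing Γ(X, V) := IsLocallyNoetherian.component_noetherian ⟨V, hV⟩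
  let gV : Γ(X, V) := X.presheaf.map (homOfLE le_top).op g
  have hkey : ∀ q : PrimeSpectrum Γ(X, V), hV.fromSpec q ∈ X.zeroLocus ({g} : Set Γ(X, ⊤)) ↔ gV ∈ q.asIdeal := by
    intro q
    have hqV : hV.fromSpec q ∈ V := hV.range_fromSpec.le ⟨q, rfl⟩
    rw [Scheme.mem_zeroLocus_iff]
    simp only [Set.mem_singleton_iff, forall_eq]
    have h1 : hV.fromSpec q ∈ X.basicOpen gV ↔ gV ∉ q.asIdeal := by
      show q ∈ hV.fromSpec ⁻¹ᵁ X.basicOpen gV ↔ _
      rw [hV.fromSpec_preimage_basicOpen]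
      exact Iff.rfl
    have h2 : X.basicOpen gV = V ⊓ X.basicOpen g := Scheme.basicOpen_res _ _ _
    rw [h2] at h1
    exact ⟨fun h => by_contra fun hn => h (h1.2 hn).2, fun h hb => h1.1 ⟨hqV, hb⟩ h⟩
  let p := hV.primeIdealOf ⟨ξ, hξV⟩
  have hp : hV.fromSpec p = ξ := hV.fromSpec_primeIdealOf _
  have hgp : gV ∈ p.asIdeal := (hkey p).1 (hp.symm ▸ hξ)
  have hmin : p.asIdeal ∈ (Ideal.span ({gV} : Set Γ(X, V))).minimalPrimes := by
    refine ⟨⟨inferInstance, (Ideal.span_singleton_le_iff_mem _).2 hgp⟩, fun q ⟨hq, hgq⟩ hqp => ?_⟩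
    let q' : PrimeSpectrum Γ(X, V) := ⟨q, hq⟩
    have hsp : q' ⤳ p := (PrimeSpectrum.le_iff_specializes q' p).1 hqp
    have h := hmax (hV.fromSpec q') (hp ▸ hsp.map hV.fromSpec.continuous)
      ((hkey q').2 ((Ideal.span_singleton_le_iff_mem _).1 hgq))
    have hq'p : q' = p := hV.fromSpec.isOpenEmbedding.injective (h.trans hp.symm)
    exact le_of_eq (congrArg PrimeSpectrum.asIdeal hq'p).symm
  have h1 := Ideal.height_le_one_of_isPrincipal_of_mem_minimalPrimes (Ideal.span ({gV} : Set Γ(X, V))) p.asIdeal hmin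
  have h2 := EquidimChart.height_primeIdealOf hV hξV
  rw [ringKrullDim_stalk_eq_coheight, WithBot.coe_inj] at h2
  exact h2.symm.le.trans h1

end Groth.Agent.RectDepth
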