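import Mathlib
import Groth.Agent.RectDepth.GeomConstr
import Groth.Agent.DimTheory.LocClosed
import Groth.Agent.FibreDimChart.Constr

/-!
Equidimensionality of the fibre at a point is a locally constructible condition.
-/

set_option autoImplicit false
set_option synthInstance.maxHeartbeats 80000
set_option linter.all false
set_option backward.isDefEq.respectTransparency.types false
noncomputable section

universe u

open CategoryTheory CategoryTheory.Limits AlgebraicGeometry TopologicalSpace Topology IsLocalRing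

namespace Groth.Agent.RectDepth

variable {X S : Scheme.{u}} (f : X ⟶ S)

theorem dim_component {k : Type u} [Field k] {Z : Scheme.{u}} (q : Z ⟶ Spec (CommRingCat.of k))
    [LocallyOfFiniteType q] {C : Set Z} (hC : C ∈ irreducibleComponents (Z : Type u)) :
    topologicalKrullDim C = (Order.height hC.1.genericPoint : WithBot ℕ∞) := by
  have hcl := isClosed_of_mem_irreducibleComponents C hC
  have hg := hC.1.isGenericPoint_genericPoint hcl
  rw [DimTheory.topologicalKrullDim_locallyClosed q hcl.isLocallyClosed]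
  exact le_antisymm (iSup_le fun z => WithBot.coe_le_coe.2 (Order.height_mono (hg.specializes z.2)))
    (le_iSup (fun z : C => (Order.height z.1 : WithBot ℕ∞)) ⟨_, hg.mem⟩)

theorem exists_generization_of_isOpen [LocallyOfFiniteType f] {D : Set X} (hD : IsOpen D) {x : X}
    (hx : x ∈ ConstrFib.fclosure f D) : ∃ z ∈ D, z ⤳ x ∧ f z = f x := by
  haveI hN : IsLocallyNoetherian (f.fiber (f x)) := FlatOverBC.isLocallyNoetherian_fiber f _
  have hcl : f.asFiber x ∈ closure (f.fiberι (f x) ⁻¹' D) := by
    rw [(f.fiberι (f x)).isEmbedding.isInducing.closure_eq_preimage_closure_image, Set.mem_preimage,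
      Scheme.Hom.fiberι_asFiber, Set.image_preimage_eq_inter_range, Scheme.Hom.range_fiberι]
    exact (hx : x ∈ closure (D ∩ f ⁻¹' {f x}))
  obtain ⟨A, hA, hxA, -⟩ := exists_isAffineOpen_mem_and_subset (x := f.asFiber x) (U := (⊤ : (f.fiber (f x)).Opens)) trivial
  haveI : IsNoetherianRing Γ(f.fiber (f x), A) := hN.component_noetherian ⟨A, hA⟩
  obtain ⟨p, hp⟩ := hA.range_fromSpec.ge hxA
  have hmem : p ∈ closure (hA.fromSpec ⁻¹' (f.fiberι (f x) ⁻¹' D)) := by
    rw [← hA.fromSpec.isOpenEmbedding.isOpenMap.preimage_closure_eq_closure_preimage hA.fromSpec.continuous]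
    show hA.fromSpec p ∈ closure (f.fiberι (f x) ⁻¹' D)
    rwa [hp]
  obtain ⟨q, hq, hqp⟩ := ConstrFib.exists_specializes_of_mem_closure
    (ConstrSets.isConstructible_of_isOpen ((hD.preimage (f.fiberι (f x)).continuous).preimage hA.fromSpec.continuous) :
      IsConstructible (hA.fromSpec ⁻¹' (f.fiberι (f x) ⁻¹' D) : Set (PrimeSpectrum Γ(f.fiber (f x), A)))) hmem
  refine ⟨f.fiberι (f x) (hA.fromSpec q), hq, ?_, (Scheme.Hom.range_fiberι f (f x)).le ⟨_, rfl⟩⟩
  have h1 := (hqp.map hA.fromSpec.continuous).map (f.fiberι (f x)).continuous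
  rwa [show hA.fromSpec p = f.asFiber x from hp, Scheme.Hom.fiberι_asFiber] at h1

theorem equidim_at_iff [LocallyOfFiniteType f] (x : X) :
    (∃ e : ℕ, ∀ C ∈ irreducibleComponents (↥(f.fiber (f x)) : Type u), f.asFiber x ∈ C →
        topologicalKrullDim (↥C : Type u) = e) ↔
      ∀ z : X, z ⤳ x → f z = f x → FlatMor.fibreDimAt f x ≤ FlatMor.fibreDimAt f z := by
  have hlft := locallyOfFiniteType_fiber f (f x)
  obtain ⟨d, h, -, -, hF⟩ := exists_dh f x
  have hval : ∀ (m : f.fiber (f x)), (∀ w, w ⤳ m → w = m) →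
      FlatMor.fibreDimAt f (f.fiberι (f x) m) = (Order.height m : WithBot ℕ∞) := by
    intro m hm
    rw [← FibreDimChart.localDim_fiber_eq_fibreDimAt f (f x) m,
      @FieldExtLD.localDim_eq (S.residueField (f x)) _ _ (f.fiberToSpecResidueField (f x)) hlft m,
      show Order.coheight m = 0 from Order.coheight_eq_zero.2 fun w hw => le_of_eq (hm w hw), add_zero]
  have hmem : ∀ (m : f.fiber (f x)), m ⤳ f.asFiber x → f.fiberι (f x) m ⤳ x ∧ f (f.fiberι (f x) m) = f x := by
    intro m hm
    refine ⟨?_, (Scheme.Hom.range_fiberι f (f x)).le ⟨m, rfl⟩⟩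
    have h1 := hm.map (f.fiberι (f x)).continuous
    rwa [Scheme.Hom.fiberι_asFiber] at h1
  constructor
  · rintro ⟨e, he⟩ z hz hfz
    have key : ∀ (m : f.fiber (f x)), m ⤳ f.asFiber x → (∀ w, w ⤳ m → w = m) → Order.height m = (e : ℕ∞) := by
      intro m hmx hm
      obtain ⟨C, hC, hmC⟩ : ∃ C ∈ irreducibleComponents (↥(f.fiber (f x)) : Type u), m ∈ C :=
        ⟨irreducibleComponent m, irreducibleComponent_mem_irreducibleComponents m, mem_irreducibleComponent⟩
      have hcl := isClosed_of_mem_irreducibleComponents C hC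
      have hη : hC.1.genericPoint = m := hm _ ((hC.1.isGenericPoint_genericPoint hcl).specializes hmC)
      have h1 := he C hC (hmx.mem_closed hcl hmC)
      rw [@dim_component (S.residueField (f x)) _ _ (f.fiberToSpecResidueField (f x)) hlft C hC, hη] at h1
      exact WithBot.coe_inj.1 h1
    obtain ⟨m₁, hm₁, hmax₁, hh₁⟩ := @DimTheory.exists_height_eq_add_coheight (S.residueField (f x)) _ _
      (f.fiberToSpecResidueField (f x)) hlft (f.asFiber x)
    have hFx : FlatMor.fibreDimAt f x = (e : WithBot ℕ∞) := by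
      rw [FlatMor.fibreDimAt, @FieldExtLD.localDim_eq (S.residueField (f x)) _ _ (f.fiberToSpecResidueField (f x)) hlft,
        ← hh₁, key m₁ hm₁ (fun w hw => (hw.antisymm (hmax₁ w hw)).eq)]
      rfl
    obtain ⟨w, hw⟩ := (Scheme.Hom.range_fiberι f (f x)).ge hfz
    obtain ⟨m, hmw, hm⟩ := FlatMorLib.exists_maximal_generization w
    have hwx : w ⤳ f.asFiber x := by
      rw [← (f.fiberι (f x)).isEmbedding.isInducing.specializes_iff, Scheme.Hom.fiberι_asFiber, hw]
      exact hz
    have hmz : f.fiberι (f x) m ⤳ z := hw ▸ hmw.map (f.fiberι (f x)).continuous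
    refine le_trans ?_ (FibreDimChart.fibreDimAt_le_of_specializes f hmz)
    rw [hFx, hval m hm, key m (hmw.trans hwx) hm]
    exact le_rfl
  · intro hall
    refine ⟨d + h, fun C hC hxC => ?_⟩
    have hcl := isClosed_of_mem_irreducibleComponents C hC
    have hm : ∀ w, w ⤳ hC.1.genericPoint → w = hC.1.genericPoint := DimTheory.mem_component_isMax hC
    obtain ⟨h1, h2⟩ := hmem _ ((hC.1.isGenericPoint_genericPoint hcl).specializes hxC)
    rw [@dim_component (S.residueField (f x)) _ _ (f.fiberToSpecResidueField (f x)) hlft C hC, ← hval _ hm]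
    exact (le_antisymm (FibreDimChart.fibreDimAt_le_of_specializes f h1) (hall _ h1 h2)).trans hF

theorem isLocallyConstructible_equidim_at [LocallyOfFinitePresentation f] :
    IsLocallyConstructible {x : X | ∀ z : X, z ⤳ x → f z = f x → FlatMor.fibreDimAt f x ≤ FlatMor.fibreDimAt f z} := by
  intro x₀
  obtain ⟨N, hN⟩ := FibreDimChart.exists_nat_fibreDimAt_le f x₀
  let Ω : X.Opens := ⟨_, FibreDimChart.isOpen_fibreDimAt_le f N⟩
  obtain ⟨V, hV, hxV, hVΩ⟩ := exists_isAffineOpen_mem_and_subset (x := x₀) (U := Ω) hN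
  refine ⟨V, V.2.mem_nhds hxV, V.2, ?_⟩
  let A : ℕ → Set X := fun r =>
    {x | FlatMor.fibreDimAt f x ≤ (r : WithBot ℕ∞)}ᶜ ∩ ConstrFib.fclosure f {x | FlatMor.fibreDimAt f x ≤ (r : WithBot ℕ∞)}
  have hA : ∀ r, IsLocallyConstructible (A r) := fun r =>
    (FibreDimChart.isLocallyConstructible_compl (FibreDimChart.isLocallyConstructible_fibreDimAt_le f r)).inter
      (ConstrFib.isLocallyConstructible_fclosure f (FibreDimChart.isLocallyConstructible_fibreDimAt_le f r))
  have : CompactSpace V := isCompact_iff_compactSpace.1 hV.isCompact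
  have heq : (Subtype.val ⁻¹' {x : X | ∀ z : X, z ⤳ x → f z = f x →
      FlatMor.fibreDimAt f x ≤ FlatMor.fibreDimAt f z} : Set V)ᶜ =
      ⋃ r ∈ Finset.range (N + 1), (Subtype.val ⁻¹' A r : Set V) := by
    ext ⟨x, hx⟩
    simp only [Set.mem_compl_iff, Set.mem_preimage, Set.mem_ofPred_eq, Set.mem_iUnion, Finset.mem_range, A, Set.mem_inter_iff]
    constructor
    · intro h
      simp only [not_forall] at h
      obtain ⟨z, hz, hfz, hlt⟩ := h
      obtain ⟨d, h', -, -, hF⟩ := exists_dh f z
      have hzN : FlatMor.fibreDimAt f z ≤ (N : WithBot ℕ∞) :=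
        (FibreDimChart.fibreDimAt_le_of_specializes f hz).trans (hVΩ hx)
      rw [hF, Nat.cast_le] at hzN
      rw [hF] at hlt
      refine ⟨d + h', by omega, hlt, ?_⟩
      show x ∈ closure ({x | FlatMor.fibreDimAt f x ≤ ((d + h' : ℕ) : WithBot ℕ∞)} ∩ f ⁻¹' {f x})
      exact hz.mem_closed isClosed_closure (subset_closure ⟨hF.le, hfz⟩)
    · rintro ⟨r, -, hlt, hcl⟩ hall
      obtain ⟨z, hzU, hzx, hfz⟩ := exists_generization_of_isOpen f (FibreDimChart.isOpen_fibreDimAt_le f r) hcl
      exact hlt ((hall z hzx hfz).trans hzU)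
  haveI : IsAffine V.toScheme := hV
  haveI : PrespectralSpace ({x // x ∈ V.carrier}) := inferInstanceAs (PrespectralSpace V.toScheme)
  haveI : QuasiSeparatedSpace ({x // x ∈ V.carrier}) := inferInstanceAs (QuasiSeparatedSpace V.toScheme)
  haveI : CompactSpace ({x // x ∈ V.carrier}) := inferInstanceAs (CompactSpace V.toScheme)
  have hc : ∀ r, IsConstructible (Subtype.val ⁻¹' A r : Set V) := fun r =>
    ((hA r).preimage_of_isOpenEmbedding V.2.isOpenEmbedding_subtypeVal).isConstructible
  rw [← isConstructible_compl]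
  exact (congrArg IsConstructible heq).mpr (IsConstructible.biUnion (Finset.finite_toSet _) fun r _ => hc r)

end Groth.Agent.RectDepth
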