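import Mathlib
import Groth.Agent.RectDepth.DimLftUC
import Groth.Agent.LimSch.ClosureRange
import Groth.Agent.EquidimChart.Comp
import Groth.Agent.DimTheory.LocClosed
import Groth.Agent.EquidimChart.Crit

/-!
Dimensions of closures of points over a universally catenary Jacobson base with equicodimensional components.
-/

set_option autoImplicit false
set_option linter.all false
set_option backward.isDefEq.respectTransparency.types false
noncomputable section

universe u

open CategoryTheory CategoryTheory.Limits AlgebraicGeometry TopologicalSpace IsLocalRing Groth.Agent.DimTheory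

namespace Groth.Agent.RectDepth

variable {T S : Scheme.{u}}

/-- The hypotheses on the base. -/
structure GoodBase (S : Scheme.{u}) : Prop where
  noeth : IsLocallyNoetherian S
  jac : JacobsonSpace S
  uc : ∀ s : S, CAlg.IsUniversallyCatenary (S.presheaf.stalk s)
  equidim : ∀ S' ∈ irreducibleComponents (S : Type u), ∀ s ∈ S', IsClosed ({s} : Set S) →
    topologicalKrullDim (↥S' : Type u) = topologicalKrullDim ↥{t : S | t ∈ S' ∧ t ⤳ s}

theorem exists_series_le_coheight {τ x : T} {n : ℕ} {W : Closeds T} (hW : (W : Set T) = closure {τ})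
    (w : (Scheme.IdealSheafData.vanishingIdeal W).subscheme)
    (hw : (Scheme.IdealSheafData.vanishingIdeal W).subschemeι w = x) (h : (n : ℕ∞) ≤ Order.coheight w) :
    ∃ r : LTSeries T, r.head = x ∧ τ ⤳ r.last ∧ r.length = n := by
  obtain ⟨l, hl1, hl2⟩ := Order.exists_series_of_le_coheight w h
  refine ⟨l.map _ (EquidimChart.strictMono_immersion _), by rw [LTSeries.head_map, hl1, hw], ?_, hl2⟩
  rw [LTSeries.last_map]
  exact specializes_iff_mem_closure.2 (hW ▸ (EquidimChart.range_subschemeι_vanishingIdeal W).le ⟨_, rfl⟩)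

variable (g : T ⟶ S) [LocallyOfFiniteType g]

theorem exists_height_formula (hS : GoodBase S) (τ : T) :
    ∃ K e : ℕ, mapTrdeg g τ = e ∧ (∀ s : S, IsClosed ({s} : Set S) → g τ ⤳ s → ChainLen s (g τ) K) ∧
      Order.height τ = ((K + e : ℕ) : ℕ∞) := by
  have := hS.noeth
  have := hS.jac
  obtain ⟨K, hK⟩ := exists_const_chainLen hS.uc hS.equidim (g τ)
  obtain ⟨e, he, -⟩ := EquidimChart.height_asFiber g τ
  refine ⟨K, e, he, hK, ?_⟩
  let W : Closeds T := ⟨closure {τ}, isClosed_closure⟩
  obtain ⟨hirr, hgen, hr⟩ := EquidimChart.component_subscheme τ W rfl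
  let ι := (Scheme.IdealSheafData.vanishingIdeal W).subschemeι
  have he' : mapTrdeg (ι ≫ g) (genericPoint _) = e := by
    rw [EquidimChart.mapTrdeg_component, hgen, he]
  have hg : (ι ≫ g) (genericPoint _) = g τ := by rw [Scheme.Hom.comp_apply, hgen]
  have hd := dim_eq_of_const hS.uc (ι ≫ g) (K := K) (e := e) (by rw [hg]; exact hK) he'
  rw [DimTheory.dim_eq_height_of_forall_specializes genericPoint_specializes, ← WithBot.coe_natCast,
    WithBot.coe_inj] at hd
  refine le_antisymm ?_ ?_
  · rw [← hd]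
    refine Order.height_le fun r hr2 => ?_
    have hmem : ∀ i, r i ∈ Set.range ι := fun i => hr.ge
      (specializes_iff_mem_closure.1 (hr2 ▸ (show r i ≤ r.last from r.monotone (Fin.le_last i))))
    choose w hw using hmem
    let l : LTSeries _ := LTSeries.mk r.length w (fun a b hab => by
      have h1 : r a < r b := r.strictMono hab
      rw [← hw, ← hw] at h1
      exact FlatDim.lt_of_specializes_of_ne (ι.isEmbedding.isInducing.specializes_iff.1 h1.le)
        fun h2 => h1.ne (congrArg ι h2))
    exact Order.length_le_height (p := l) (genericPoint_specializes _)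
  · rw [← hd, ← hgen]
    exact Order.height_le_height_apply_of_strictMono ι (EquidimChart.strictMono_immersion _) _

include g in
/-- Additivity: the dimension of a closure splits at every point. -/
theorem exists_chain_height (hS : GoodBase S) {x τ : T} (hτ : τ ⤳ x) :
    ∃ h n : ℕ, Order.height x = (h : ℕ∞) ∧ Order.height τ = ((h + n : ℕ) : ℕ∞) ∧ ChainLen x τ n := by
  have := hS.noeth
  have := hS.jac
  obtain ⟨Kx, ex, hex, hKx, hx⟩ := exists_height_formula g hS x
  obtain ⟨Kτ, eτ, heτ, hKτ, hht⟩ := exists_height_formula g hS τ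
  have hσ : g τ ⤳ g x := hτ.map g.continuous
  obtain ⟨s, hs, hsc⟩ := nonempty_inter_closedPoints (X := S) (Z := closure {g x})
    ⟨g x, subset_closure rfl⟩ isClosed_closure.isLocallyClosed
  obtain ⟨k, m, hk, hm, hN⟩ := exists_chainLen_add ((hS.uc s).2 _ inferInstance) (specializes_iff_mem_closure.2 hs) hσ
  obtain rfl := hk.unique (hKx s hsc (specializes_iff_mem_closure.2 hs))
  obtain rfl := hN.unique (hKτ s hsc (hσ.trans (specializes_iff_mem_closure.2 hs)))
  have hupper : ∀ r : LTSeries T, r.head = x → τ ⤳ r.last → k + ex + r.length ≤ m + k + eτ := by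
    intro r hr1 hr2
    obtain ⟨p, hp1, hp2⟩ := Order.exists_series_of_height_eq_coe x hx
    have h1 := Order.length_le_height (p := p.smash r (hp1.trans hr1.symm))
      (show (p.smash r (hp1.trans hr1.symm)).last ≤ τ by rw [RelSeries.last_smash]; exact hr2)
    rw [hht, RelSeries.smash_length, hp2, Nat.cast_le] at h1
    omega
  have h0 : ex ≤ m + eτ := by
    have := hupper (RelSeries.singleton _ x) rfl hτ
    simp at this
    omega
  let W : Closeds T := ⟨closure {τ}, isClosed_closure⟩
  obtain ⟨hirr, hgen, hr⟩ := EquidimChart.component_subscheme τ W rfl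
  let ι := (Scheme.IdealSheafData.vanishingIdeal W).subschemeι
  obtain ⟨w, hw⟩ : x ∈ Set.range ι := hr.symm ▸ specializes_iff_mem_closure.1 hτ
  obtain ⟨-, c, hc1, hc2, hc3⟩ := hm
  have hcf := EquidimChart.chain_formula (ι ≫ g) (genericPoint_specializes w) (hS.uc _)
    (n := ex) (e := eτ) (by rw [EquidimChart.mapTrdeg_component, hw, hex])
    (by rw [EquidimChart.mapTrdeg_component, hgen, heτ]) c
    (by rw [hc1, Scheme.Hom.comp_apply, hw]) (by rw [Scheme.Hom.comp_apply, hgen, hc2])
  rw [hc3] at hcf
  have hco : ((m + eτ - ex : ℕ) : ℕ∞) ≤ Order.coheight w := by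
    cases hh : Order.coheight w with
    | top => exact le_top
    | coe a =>
      rw [hh] at hcf
      have : m + eτ ≤ a + ex := by exact_mod_cast hcf
      exact Nat.cast_le.2 (by omega)
  obtain ⟨r, r1, r2, r3⟩ := exists_series_le_coheight (W := W) rfl w hw hco
  have hbound : k + ex + r.length ≤ m + k + eτ := hupper r r1 r2
  refine ⟨k + ex, m + eτ - ex, hx, ?_, fun r' h1 h2 => ?_, r, r1, ?_, r3⟩
  · rw [hht, show k + ex + (m + eτ - ex) = m + k + eτ by omega]
  · have := hupper r' h1 h2
    omega
  · by_contra hne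
    have := hupper (r.snoc τ (FlatDim.lt_of_specializes_of_ne r2 (fun h => hne h))) (by rw [RelSeries.head_snoc, r1])
      (by rw [RelSeries.last_snoc])
    simp at this
    omega

theorem dim_closure_eq_height (τ : T) :
    topologicalKrullDim ↥(closure ({τ} : Set T)) = (Order.height τ : WithBot ℕ∞) := by
  let W : Closeds T := ⟨closure {τ}, isClosed_closure⟩
  obtain ⟨hirr, hgen, hr⟩ := EquidimChart.component_subscheme τ W rfl
  let ι := (Scheme.IdealSheafData.vanishingIdeal W).subschemeι
  rw [← hr, ← ι.isEmbedding.toHomeomorph.isHomeomorph.topologicalKrullDim_eq,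
    DimTheory.dim_eq_height_of_forall_specializes genericPoint_specializes, WithBot.coe_inj]
  refine le_antisymm ?_ ?_
  · conv_rhs => rw [← hgen]
    exact Order.height_le_height_apply_of_strictMono ι (EquidimChart.strictMono_immersion _) _
  · refine Order.height_le fun r hr2 => ?_
    have hmem : ∀ i, r i ∈ Set.range ι := fun i => hr.ge
      (specializes_iff_mem_closure.1 (hr2 ▸ (show r i ≤ r.last from r.monotone (Fin.le_last i))))
    choose w hw using hmem
    let l : LTSeries _ := LTSeries.mk r.length w (fun a b hab => by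
      have h1 : r a < r b := r.strictMono hab
      rw [← hw, ← hw] at h1
      exact FlatDim.lt_of_specializes_of_ne (ι.isEmbedding.isInducing.specializes_iff.1 h1.le)
        fun h2 => h1.ne (congrArg ι h2))
    exact Order.length_le_height (p := l) (genericPoint_specializes _)

theorem height_eq_zero_of_closed {z : T} (hz : IsClosed ({z} : Set T)) : Order.height z = 0 :=
  Order.height_eq_zero.2 fun _ hw => le_of_eq (hz.closure_eq.le (show z ⤳ _ from hw).mem_closure).symm

include g in
/-- The dimension of a locally closed set is the supremum of the dimensions of the closures of its points. -/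
theorem dim_open_inter_closed (hS : GoodBase S) {U Y : Set T} (hU : IsOpen U) (hY : IsClosed Y) :
    topologicalKrullDim ↥(U ∩ Y) = ⨆ τ : ↥(U ∩ Y), (Order.height τ.1 : WithBot ℕ∞) := by
  have := hS.jac
  haveI : JacobsonSpace T := LocallyOfFiniteType.jacobsonSpace g
  obtain ⟨Z, j, hj, hjr⟩ := DimTheory.exists_immersion_range (hU.isLocallyClosed.inter hY.isLocallyClosed)
  have hmono : StrictMono j := EquidimChart.strictMono_immersion j
  have hd : topologicalKrullDim ↥(U ∩ Y) = ⨆ z : Z, (Order.height z : WithBot ℕ∞) := by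
    rw [← hjr, ← j.isEmbedding.toHomeomorph.isHomeomorph.topologicalKrullDim_eq, topologicalKrullDim_eq_iSup_height]
  rw [hd]
  refine le_antisymm (iSup_le fun z => ?_) (iSup_le fun τ => ?_)
  · exact le_iSup_of_le ⟨j z, hjr.le ⟨z, rfl⟩⟩
      (WithBot.coe_le_coe.2 (Order.height_le_height_apply_of_strictMono j hmono z))
  · obtain ⟨s, ⟨hsτ, hsU⟩, hs⟩ := nonempty_inter_closedPoints (X := T) (Z := closure {τ.1} ∩ U)
      ⟨τ.1, subset_closure rfl, τ.2.1⟩ (isClosed_closure.isLocallyClosed.inter hU.isLocallyClosed)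
    obtain ⟨h, n, hh, hτh, -, r, r1, r2, r3⟩ := exists_chain_height g hS (specializes_iff_mem_closure.2 hsτ)
    rw [height_eq_zero_of_closed hs, eq_comm, Nat.cast_eq_zero] at hh
    have hmem : ∀ i, r i ∈ Set.range j := fun i => hjr.ge
      ⟨(show r i ⤳ s from r1 ▸ (show r.head ≤ r i from r.monotone (Fin.zero_le i))).mem_open hU hsU,
        (show τ.1 ⤳ r i from r2 ▸ (show r i ≤ r.last from r.monotone (Fin.le_last i))).mem_closed hY τ.2.2⟩
    choose w hw using hmem
    let l : LTSeries Z := LTSeries.mk r.length w (fun a b hab => by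
      have h1 : r a < r b := r.strictMono hab
      rw [← hw, ← hw] at h1
      exact FlatDim.lt_of_specializes_of_ne (j.isEmbedding.isInducing.specializes_iff.1 h1.le)
        fun h2 => h1.ne (congrArg j h2))
    refine le_iSup_of_le l.last (WithBot.coe_le_coe.2 ?_)
    rw [hτh, hh, zero_add, ← r3]
    exact Order.length_le_height_last (p := l)

theorem dense_open_mem_max [IsLocallyNoetherian T] (U : T.Opens) (hd : Dense (U : Set T)) {η : T}
    (hη : ∀ y : T, y ⤳ η → y = η) : η ∈ U := by
  have hcl : η ∈ closure (Set.range U.ι) := by rw [Scheme.Opens.range_ι]; exact hd η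
  obtain ⟨z, hz⟩ := LimSch.exists_specializes_of_mem_closure_range U.ι hcl
  exact hη _ hz ▸ z.2

/-- Generizations in a closed set that specialize to a point. -/
abbrev GenPts (Y : Set T) (x : T) : Set T := {t : T | t ∈ Y ∧ t ⤳ x}

include g in
theorem dim_genPts (hS : GoodBase S) {Y : Set T} (hY : IsClosed Y) {x : T} (hx : x ∈ Y) :
    (Order.height x : WithBot ℕ∞) + topologicalKrullDim ↥(GenPts Y x) =
      ⨆ τ : ↥(GenPts Y x), (Order.height τ.1 : WithBot ℕ∞) := by
  let W : Closeds T := ⟨Y, hY⟩
  let ιW := (Scheme.IdealSheafData.vanishingIdeal W).subschemeι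
  have hr : Set.range ιW = Y := EquidimChart.range_subschemeι_vanishingIdeal W
  obtain ⟨x', hx'⟩ := hr.ge hx
  let j := (Scheme.IdealSheafData.vanishingIdeal W).subscheme.fromSpecStalk x' ≫ ιW
  have hjr : Set.range j = GenPts Y x := by
    rw [Scheme.Hom.comp_base, TopCat.coe_comp, Set.range_comp, Scheme.range_fromSpecStalk]
    ext a
    constructor
    · rintro ⟨b, hb, rfl⟩
      exact ⟨hr.le ⟨b, rfl⟩, hx' ▸ (show b ⤳ x' from hb).map ιW.continuous⟩
    · rintro ⟨ha, hax⟩
      obtain ⟨b, rfl⟩ := hr.ge ha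
      exact ⟨b, ιW.isEmbedding.isInducing.specializes_iff.1 (hx' ▸ hax), rfl⟩
  have hmono : StrictMono j := EquidimChart.strictMono_immersion j
  rw [← hjr, ← j.isEmbedding.toHomeomorph.isHomeomorph.topologicalKrullDim_eq, topologicalKrullDim_eq_iSup_height]
  have key : ∀ z, Order.height x + Order.height z = Order.height (j z) := by
    intro z
    obtain ⟨h, n, hh, hτh, hmax, r, r1, r2, r3⟩ := exists_chain_height g hS (hjr.le ⟨z, rfl⟩).2
    rw [hh, hτh]
    push_cast
    congr 1
    refine le_antisymm (Order.height_le fun l hl => ?_) ?_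
    · refine Nat.cast_le.2 ?_
      let l' := l.map j hmono
      have hhead : l'.head ⤳ x := by rw [LTSeries.head_map]; exact (hjr.le ⟨_, rfl⟩).2
      have hlast : j z ⤳ l'.last := by rw [LTSeries.last_map, hl]
      by_cases he : l'.head = x
      · exact hmax l' he hlast
      · have := hmax (l'.cons x (FlatDim.lt_of_specializes_of_ne hhead (Ne.symm he))) (RelSeries.head_cons ..)
          (by rw [RelSeries.last_cons]; exact hlast)
        simp [l'] at this
        omega
    · have hmem : ∀ i, r i ∈ Set.range j := fun i => hjr.ge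
        ⟨(show j z ⤳ r i from r2 ▸ (show r i ≤ r.last from r.monotone (Fin.le_last i))).mem_closed hY
          (hjr.le ⟨z, rfl⟩).1, r1 ▸ (show r.head ≤ r i from r.monotone (Fin.zero_le i))⟩
      choose w hw using hmem
      let l : LTSeries _ := LTSeries.mk r.length w (fun a b hab => by
        have h1 : r a < r b := r.strictMono hab
        rw [← hw, ← hw] at h1
        exact FlatDim.lt_of_specializes_of_ne (j.isEmbedding.isInducing.specializes_iff.1 h1.le)
          fun h2 => h1.ne (congrArg j h2))
      rw [← r3]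
      refine Order.length_le_height (p := l) (le_of_eq ?_)
      exact j.isEmbedding.injective ((hw _).trans r2)
  haveI : Nonempty (Spec ((Scheme.IdealSheafData.vanishingIdeal W).subscheme.presheaf.stalk x')) :=
    ⟨IsLocalRing.closedPoint _⟩
  rw [← WithBot.coe_iSup (OrderTop.bddAbove _), ← WithBot.coe_add, ENat.add_iSup,
    WithBot.coe_iSup (OrderTop.bddAbove _)]
  simp only [key]
  refine le_antisymm (iSup_le fun z => le_iSup_of_le ⟨j z, ⟨z, rfl⟩⟩ le_rfl) (iSup_le fun τ => ?_)
  obtain ⟨z, hz⟩ := τ.2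
  exact le_iSup_of_le z (le_of_eq (by rw [hz]))

include g in
theorem localDim_data [IsLocallyNoetherian T] (hS : GoodBase S) (Y : Set T) (hY : IsClosed Y) (x : T) (hx : x ∈ Y) :
    FlatMor.localDim ↥Y ⟨x, hx⟩ =
        topologicalKrullDim ↥(closure ({x} : Set T)) + topologicalKrullDim ↥{t : T | t ∈ Y ∧ t ⤳ x} ∧
      FlatMor.localDim ↥Y ⟨x, hx⟩ =
        ⨆ C ∈ {C : Set ↥Y | C ∈ irreducibleComponents ↥Y ∧ (⟨x, hx⟩ : ↥Y) ∈ C}, topologicalKrullDim ↥C ∧
      ∀ U : Set T, IsOpen U → x ∈ U →
        (∀ C ∈ irreducibleComponents ↥Y, (⟨x, hx⟩ : ↥Y) ∉ C → Disjoint (Subtype.val ⁻¹' U) C) →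
        topologicalKrullDim ↥(U ∩ Y) = FlatMor.localDim ↥Y ⟨x, hx⟩ := by
  let D : WithBot ℕ∞ := ⨆ τ : ↥(GenPts Y x), (Order.height τ.1 : WithBot ℕ∞)
  have hgood : ∀ U : Set T, IsOpen U → x ∈ U →
      (∀ C ∈ irreducibleComponents ↥Y, (⟨x, hx⟩ : ↥Y) ∉ C → Disjoint (Subtype.val ⁻¹' U) C) →
      topologicalKrullDim ↥(U ∩ Y) = D := by
    intro U hU hxU hdis
    rw [dim_open_inter_closed g hS hU hY]
    refine le_antisymm (iSup_le fun z => ?_) (iSup_le fun τ => ?_)
    · let C := irreducibleComponent (⟨z.1, z.2.2⟩ : ↥Y)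
      have hC : C ∈ irreducibleComponents ↥Y := irreducibleComponent_mem_irreducibleComponents _
      have hxC : (⟨x, hx⟩ : ↥Y) ∈ C := by
        by_contra h
        exact Set.disjoint_left.1 (hdis C hC h) (show (⟨z.1, z.2.2⟩ : ↥Y) ∈ _ from z.2.1) mem_irreducibleComponent
      haveI : QuasiSober ↥Y := hY.isClosedEmbedding_subtypeVal.quasiSober
      have hg := hC.1.isGenericPoint_genericPoint (isClosed_of_mem_irreducibleComponents C hC)
      refine le_iSup_of_le ⟨(hC.1.genericPoint : ↥Y).1, (hC.1.genericPoint : ↥Y).2,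
        (subtype_specializes_iff _ _).1 (hg.specializes hxC)⟩ (WithBot.coe_le_coe.2 (Order.height_mono ?_))
      exact (subtype_specializes_iff _ _).1 (hg.specializes mem_irreducibleComponent)
    · exact le_iSup_of_le ⟨τ.1, τ.2.2.mem_open hU hxU, τ.2.1⟩ le_rfl
  -- a neighbourhood avoiding the other components
  let W : TopologicalSpace.Closeds T := ⟨Y, hY⟩
  let ι := (Scheme.IdealSheafData.vanishingIdeal W).subschemeι
  have hr : Set.range ι = Y := EquidimChart.range_subschemeι_vanishingIdeal W
  haveI : IsLocallyNoetherian (Scheme.IdealSheafData.vanishingIdeal W).subscheme :=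
    LocallyOfFiniteType.isLocallyNoetherian ι
  obtain ⟨x', hx'⟩ := hr.ge hx
  obtain ⟨U', hxU', -, hU'⟩ := EquidimChart.exists_nbhd_max_specializes (x := x')
    (U := (⊤ : (Scheme.IdealSheafData.vanishingIdeal W).subscheme.Opens)) trivial
  obtain ⟨V, hV, hVU⟩ := ι.isEmbedding.isInducing.isOpen_iff.1 U'.2
  have hVgood : ∀ C ∈ irreducibleComponents ↥Y, (⟨x, hx⟩ : ↥Y) ∉ C → Disjoint (Subtype.val ⁻¹' V) C := by
    intro C hC hxC
    refine Set.disjoint_left.2 fun z hzV hzC => hxC ?_
    haveI : QuasiSober ↥Y := hY.isClosedEmbedding_subtypeVal.quasiSober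
    have hcl := isClosed_of_mem_irreducibleComponents C hC
    have hg := hC.1.isGenericPoint_genericPoint hcl
    have hgV : (hC.1.genericPoint : ↥Y).1 ∈ V := ((subtype_specializes_iff _ _).1 (hg.specializes hzC)).mem_open hV hzV
    obtain ⟨η, hη⟩ := hr.ge (hC.1.genericPoint : ↥Y).2
    have hηmax : ∀ w, w ⤳ η → w = η := by
      intro w hw
      let w' : ↥Y := ⟨ι w, hr.le ⟨w, rfl⟩⟩
      have hw' : w' ⤳ hC.1.genericPoint := (subtype_specializes_iff _ _).2 (hη ▸ hw.map ι.continuous)
      have h1 : w' ∈ C := hC.2 (y := closure {w'}) isIrreducible_singleton.closure (by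
        rw [← hg.def]; exact hw'.closure_subset) (subset_closure rfl)
      exact (hw.antisymm (ι.isEmbedding.isInducing.specializes_iff.1 (by
        rw [hη]; exact (subtype_specializes_iff _ _).1 (hg.specializes h1)))).eq
    have hηU : η ∈ U' := by
      show η ∈ U'.carrier
      rw [← hVU]; show ι η ∈ V; rw [hη]; exact hgV
    refine (show (hC.1.genericPoint : ↥Y) ⤳ (⟨x, hx⟩ : ↥Y) from (subtype_specializes_iff _ _).2 ?_).mem_closed hcl hg.mem
    show (hC.1.genericPoint : ↥Y).1 ⤳ x
    rw [← hη, ← hx']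
    exact (hU' η hηU hηmax).map ι.continuous
  have hxV : x ∈ V := by
    have : x' ∈ U'.carrier := hxU'
    rw [← hVU] at this
    exact hx' ▸ this
  have hlocal : FlatMor.localDim ↥Y ⟨x, hx⟩ = D := by
    have hopen : ∀ O : Set T, topologicalKrullDim ↥(Subtype.val ⁻¹' O : Set ↥Y) = topologicalKrullDim ↥(O ∩ Y) := by
      intro O
      let e : ↥(Subtype.val ⁻¹' O : Set ↥Y) ≃ₜ ↥(O ∩ Y) :=
        { toFun := fun a => ⟨a.1.1, a.2, a.1.2⟩
          invFun := fun a => ⟨⟨a.1, a.2.2⟩, a.2.1⟩
          left_inv := fun a => rfl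
          right_inv := fun a => rfl }
      exact e.isHomeomorph.topologicalKrullDim_eq
    refine le_antisymm ?_ (le_iInf fun U => ?_)
    · refine (iInf_le _ ⟨⟨Subtype.val ⁻¹' V, hV.preimage continuous_subtype_val⟩, hxV⟩).trans (le_of_eq ?_)
      exact (hopen V).trans (hgood V hV hxV hVgood)
    · obtain ⟨O, hO, hOU⟩ := isOpen_induced_iff.1 U.1.2
      show D ≤ topologicalKrullDim ↥(U.1.carrier)
      rw [← hOU, hopen O, dim_open_inter_closed g hS hO hY]
      have hxO : x ∈ O := by
        have : (⟨x, hx⟩ : ↥Y) ∈ U.1.carrier := U.2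
        rw [← hOU] at this
        exact this
      exact iSup_le fun τ => le_iSup_of_le ⟨τ.1, τ.2.2.mem_open hO hxO, τ.2.1⟩ le_rfl
  refine ⟨?_, ?_, fun U hU hxU hdis => (hgood U hU hxU hdis).trans hlocal.symm⟩
  · rw [hlocal, dim_closure_eq_height]
    exact (dim_genPts g hS hY hx).symm
  · rw [hlocal]
    haveI : QuasiSober ↥Y := hY.isClosedEmbedding_subtypeVal.quasiSober
    have hdim : ∀ C (hC : C ∈ irreducibleComponents ↥Y),
        topologicalKrullDim ↥C = (Order.height (hC.1.genericPoint : ↥Y).1 : WithBot ℕ∞) := by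
      intro C hC
      have hcl := isClosed_of_mem_irreducibleComponents C hC
      rw [← dim_closure_eq_height]
      have himg : Subtype.val '' C = closure {(hC.1.genericPoint : ↥Y).1} := by
        conv_lhs => rw [← hC.1.closure_genericPoint hcl]
        rw [← hY.isClosedEmbedding_subtypeVal.closure_image_eq, Set.image_singleton]
      rw [← himg]
      exact (Topology.IsEmbedding.subtypeVal.homeomorphImage C).isHomeomorph.topologicalKrullDim_eq
    refine le_antisymm (iSup_le fun τ => ?_) (iSup₂_le fun C hC => ?_)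
    · let C := irreducibleComponent (⟨τ.1, τ.2.1⟩ : ↥Y)
      have hC : C ∈ irreducibleComponents ↥Y := irreducibleComponent_mem_irreducibleComponents _
      have hcl := isClosed_of_mem_irreducibleComponents C hC
      have hxC : (⟨x, hx⟩ : ↥Y) ∈ C :=
        (show (⟨τ.1, τ.2.1⟩ : ↥Y) ⤳ ⟨x, hx⟩ from (subtype_specializes_iff _ _).2 τ.2.2).mem_closed hcl mem_irreducibleComponent
      refine le_iSup₂_of_le C ⟨hC, hxC⟩ ?_
      rw [hdim C hC]
      exact WithBot.coe_le_coe.2 (Order.height_mono ((subtype_specializes_iff _ _).1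
        ((hC.1.isGenericPoint_genericPoint hcl).specializes mem_irreducibleComponent)))
    · rw [hdim C hC.1]
      exact le_iSup_of_le ⟨_, (hC.1.1.genericPoint : ↥Y).2, (subtype_specializes_iff _ _).1
        ((hC.1.1.isGenericPoint_genericPoint (isClosed_of_mem_irreducibleComponents C hC.1)).specializes hC.2)⟩ le_rfl

end Groth.Agent.RectDepth
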