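import Mathlib
import Groth.Agent.RectDepth.BiEquidim
import Groth.Agent.RectDepth.JacUC
import Groth.Agent.LeadExc.CatenaryCM
import Groth.Agent.RegIdealReg.Quot
import Groth.Agent.Depth.CM

/-!
Rectified depth over a regular Jacobson base with equicodimensional components.
-/

set_option autoImplicit false
set_option linter.all false
set_option backward.isDefEq.respectTransparency.types false
set_option synthInstance.maxHeartbeats 80000
noncomputable section

universe u

open CategoryTheory AlgebraicGeometry TopologicalSpace IsLocalRing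
open Groth.Agent.FlatOver

namespace Groth.Agent.RectDepth

theorem goodBase_of_regular {S : Scheme.{u}} [IsLocallyNoetherian S] [JacobsonSpace S]
    (hreg : ∀ s : S, IsRegularLocalRing ↑(S.presheaf.stalk s))
    (h3 : ∀ S' ∈ irreducibleComponents (S : Type u), ∀ s ∈ S', IsClosed ({s} : Set S) →
      topologicalKrullDim (↥S' : Type u) = topologicalKrullDim ↥{t : S | t ∈ S' ∧ t ⤳ s}) :
    GoodBase S := by
  refine ⟨inferInstance, inferInstance, fun s => ?_, h3⟩
  haveI := hreg s
  haveI : LocCoh.IsCohenMacaulayLocalRing (S.presheaf.stalk s) :=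
    { supportDim_eq_depth := RegIdealReg.isCohenMacaulayModule_self_of_regular _ }
  exact LeadExc.isUniversallyCatenary_of_isCohenMacaulayRing (Depth.isCohenMacaulayRing_of_local (R := S.presheaf.stalk s))

/-- Depth after localizing does not depend on the presentation of the ring as a quotient. -/
theorem depth_localized_of_surjective {P A : Type u} [CommRing P] [CommRing A] [IsNoetherianRing P] [Algebra P A]
    (hs : Function.Surjective (algebraMap P A)) (M : Type u) [AddCommGroup M] [Module A M] [Module P M]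
    [IsScalarTower P A M] [Module.Finite A M] (q : Ideal A) [q.IsPrime] :
    LocCoh.depth (Localization.AtPrime q) (LocalizedModule q.primeCompl M) =
      LocCoh.depth (Localization.AtPrime (q.comap (algebraMap P A)))
        (LocalizedModule (q.comap (algebraMap P A)).primeCompl M) := by
  haveI : IsNoetherianRing A := isNoetherianRing_of_surjective P A (algebraMap P A) hs
  let p := q.comap (algebraMap P A)
  let Rp := Localization.AtPrime p
  let Rq := Localization.AtPrime q
  let φ : Rp →+* Rq := Localization.localRingHom p q (algebraMap P A) rfl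
  have hφ : Function.Surjective φ := fun y => by
    obtain ⟨a, ⟨s, hs'⟩, rfl⟩ := IsLocalization.exists_mk'_eq q.primeCompl y
    obtain ⟨a0, rfl⟩ := hs a
    obtain ⟨s0, rfl⟩ := hs s
    refine ⟨IsLocalization.mk' Rp a0 (⟨s0, hs'⟩ : p.primeCompl), ?_⟩
    exact Localization.localRingHom_mk' _ _ _ rfl a0 ⟨s0, hs'⟩
  letI : Algebra Rp Rq := φ.toAlgebra
  letI : Module Rp (LocalizedModule q.primeCompl M) := Module.compHom _ φ
  haveI : IsScalarTower Rp Rq (LocalizedModule q.primeCompl M) := .of_algebraMap_smul fun _ _ => rfl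
  haveI : IsScalarTower P Rp (LocalizedModule q.primeCompl M) := .of_algebraMap_smul fun r m => by
    show φ (algebraMap P Rp r) • m = _
    rw [show φ (algebraMap P Rp r) = algebraMap A Rq (algebraMap P A r) from Localization.localRingHom_to_map _ _ _ rfl r,
      algebraMap_smul, algebraMap_smul]
  have hsub : Algebra.algebraMapSubmonoid A p.primeCompl = q.primeCompl := by
    ext a
    constructor
    · rintro ⟨r, hr, rfl⟩; exact hr
    · intro ha
      obtain ⟨r, rfl⟩ := hs a
      exact ⟨r, ha, rfl⟩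
  let f := LocalizedModule.mkLinearMap q.primeCompl M
  haveI : IsLocalizedModule (Algebra.algebraMapSubmonoid A p.primeCompl) f := by
    rw [hsub]; infer_instance
  haveI : IsLocalizedModule p.primeCompl (f.restrictScalars P) := IsLocalizedModule.restrictScalars _ f
  have h2 : IsBaseChange Rp (LocalizedModule.mkLinearMap p.primeCompl M) :=
    IsLocalizedModule.isBaseChange p.primeCompl Rp _
  have h3 : IsBaseChange Rp (f.restrictScalars P) :=
    (isLocalizedModule_iff_isBaseChange p.primeCompl Rp _).1 inferInstance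
  let L : LocalizedModule p.primeCompl M ≃ₗ[Rp] LocalizedModule q.primeCompl M := h2.equiv.symm.trans h3.equiv
  haveI : Module.Finite Rq (LocalizedModule q.primeCompl M) :=
    Module.Finite.of_isLocalizedModule q.primeCompl f
  show _ = LocCoh.depth Rp (LocalizedModule p.primeCompl M)
  rw [Depth.depth_congr L]
  exact Depth.depth_eq_of_surjective hφ

/-- Bounds on depth read on projective dimension over a regular local ring. -/
theorem regular_depth_key (R : Type u) [CommRing R] [IsRegularLocalRing R] (M : Type u) [AddCommGroup M] [Module R M]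
    [Module.Finite R M] {d c D n : ℕ} (hd : ringKrullDim R = (d : WithBot ℕ∞)) (hcd : c + d = D) :
    ((Subsingleton M ∨ ∃ m, m + n ≤ D ∧ HasProjectiveDimensionLE (ModuleCat.of R M) m) ↔
        (n : ℕ∞) ≤ LocCoh.depth R M + (c : ℕ∞)) ∧
      (((D + 1 : ℕ) : ℕ∞) ≤ LocCoh.depth R M + (c : ℕ∞) → Subsingleton M) := by
  rcases subsingleton_or_nontrivial M with hsub | hnt
  · refine ⟨iff_of_true (Or.inl hsub) ?_, fun _ => hsub⟩
    rw [LocCoh.depth, Depth.idealDepth_eq_top (M := M) (Subsingleton.elim _ _), top_add]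
    exact le_top
  · have hne : projectiveDimension (ModuleCat.of R M) ≠ ⊥ :=
      fun h => not_subsingleton _ (ModuleCat.subsingleton_of_isZero ((projectiveDimension_eq_bot_iff _).1 h))
    obtain ⟨a, ha⟩ := WithBot.ne_bot_iff_exists.1 hne
    have hle : projectiveDimension (ModuleCat.of R M) ≤ (d : WithBot ℕ∞) :=
      (projectiveDimension_le_iff _ d).2 (CAlgReg.pdLT_of_isRegularLocalRing hd M)
    rw [← ha, ← WithBot.coe_natCast, WithBot.coe_le_coe] at hle
    obtain ⟨e, rfl⟩ := ENat.ne_top_iff_exists.1 (show a ≠ ⊤ from fun h => by rw [h] at hle; exact absurd hle (by simp))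
    have hab := CAlgReg.auslander_buchsbaum (R := R) M e ha.symm
    rw [CAlgReg.depth_self_eq_dim hd] at hab
    obtain ⟨δ, hδ⟩ := ENat.ne_top_iff_exists.1 (show LocCoh.depth R M ≠ ⊤ from Depth.depth_ne_top)
    rw [← hδ] at hab ⊢
    have hde : d = e + δ := by exact_mod_cast hab
    have hpd : ∀ m : ℕ, HasProjectiveDimensionLE (ModuleCat.of R M) m ↔ e ≤ m := fun m => by
      rw [← projectiveDimension_le_iff, ← ha]
      exact_mod_cast Iff.rfl
    refine ⟨⟨?_, fun h => Or.inr ⟨e, ?_, (hpd e).2 le_rfl⟩⟩, fun h => ?_⟩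
    · rintro (h | ⟨m, hm, hm'⟩)
      · exact absurd h (not_subsingleton M)
      · have := (hpd m).1 hm'
        exact_mod_cast (show n ≤ δ + c by omega)
    · have : n ≤ δ + c := by exact_mod_cast h
      omega
    · have : D + 1 ≤ δ + c := by exact_mod_cast h
      omega

/-- The stalks of an affine scheme. -/
def specStalkEquiv {P : CommRingCat.{u}} (p : Spec P) :
    (Spec P).presheaf.stalk p ≃+* Localization.AtPrime p.asIdeal :=
  (StructureSheaf.stalkIso P p).toRingEquiv.symm

variable {X S : Scheme.{u}}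

/-- The rectified depth, with values in `ℕ∞`. -/
def pstar (F : X.Modules) (x : X) : ℕ∞ :=
  LocCoh.depth ↑(X.presheaf.stalk x) ↑(F.presheaf.stalk x) + Order.height x

theorem coe_pstar (F : X.Modules) (x : X) :
    ((LocCoh.depth ↑(X.presheaf.stalk x) ↑(F.presheaf.stalk x) : ℕ∞) : WithBot ℕ∞) +
        topologicalKrullDim ↥(closure ({x} : Set X)) = (pstar F x : WithBot ℕ∞) := by
  rw [dim_closure_eq_height, pstar, WithBot.coe_add]

/-- Near every point the rectified depth is lower semicontinuous and bounded where finite. -/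
theorem exists_nbhd_pstar (hS : GoodBase S) (hreg : ∀ s : S, IsRegularLocalRing ↑(S.presheaf.stalk s))
    (g : X ⟶ S) [LocallyOfFiniteType g] (F : X.Modules) (hF : Coh.IsCoh F) (x : X) :
    ∃ (W : X.Opens) (D : ℕ), x ∈ W ∧ (∀ n : ℕ, IsOpen {y : X | y ∈ W ∧ (n : ℕ∞) ≤ pstar F y}) ∧
      ∀ y ∈ W, ((D + 1 : ℕ) : ℕ∞) ≤ pstar F y → pstar F y = ⊤ := by
  haveI := hS.noeth
  haveI := hS.jac
  haveI : IsLocallyNoetherian X := LocallyOfFiniteType.isLocallyNoetherian g
  obtain ⟨V, hV, hxV, -⟩ := exists_isAffineOpen_mem_and_subset (X := S) (x := g x) (U := (⊤ : S.Opens)) trivial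
  obtain ⟨U, hU, hxU, hUV⟩ := exists_isAffineOpen_mem_and_subset (X := X) (x := x) (U := g ⁻¹ᵁ V) hxV
  let R := Γ(S, V)
  let A := Γ(X, U)
  let φ0 := g.appLE V U hUV
  haveI : IsNoetherianRing R := IsLocallyNoetherian.component_noetherian ⟨V, hV⟩
  haveI : IsRegularRing R := isRegularRing_iff.2 fun q _ => by
    let s := hV.fromSpec ⟨q, inferInstance⟩
    have hs : s ∈ V := hV.range_fromSpec.le ⟨_, rfl⟩
    haveI := hreg s
    letI := TopCat.Presheaf.algebra_section_stalk S.presheaf (⟨s, hs⟩ : V)
    have hq : hV.primeIdealOf ⟨s, hs⟩ = ⟨q, inferInstance⟩ :=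
      hV.fromSpec.isOpenEmbedding.injective (hV.fromSpec_primeIdealOf _)
    have h0 := hV.isLocalization_stalk ⟨s, hs⟩
    haveI : IsLocalization.AtPrime (S.presheaf.stalk s) q := by
      have aux : ∀ (I J : Ideal R) [I.IsPrime] [J.IsPrime], I = J → IsLocalization.AtPrime (S.presheaf.stalk s) I →
          IsLocalization.AtPrime (S.presheaf.stalk s) J := fun I J _ _ e hh => by subst e; exact hh
      exact aux _ _ (congrArg PrimeSpectrum.asIdeal hq) h0
    exact IsRegularLocalRing.of_ringEquiv (IsLocalization.algEquiv q.primeCompl (S.presheaf.stalk s)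
      (Localization.AtPrime q)).toRingEquiv
  letI : Algebra R A := φ0.hom.toAlgebra
  haveI : Algebra.FiniteType R A := g.finiteType_appLE hV hU hUV
  obtain ⟨N, ψ, hψ⟩ := Algebra.FiniteType.iff_quotient_mvPolynomial''.1 (inferInstance : Algebra.FiniteType R A)
  let P := MvPolynomial (Fin N) R
  letI : Algebra P A := ψ.toRingHom.toAlgebra
  haveI : IsRegularRing P := inferInstance
  haveI := hF.1
  let M := Γ(F, U)
  haveI : Module.Finite A M := QCohBase.finite_sections F hF.2 hU
  letI : Module P M := Module.compHom M (algebraMap P A)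
  haveI : IsScalarTower P A M := .of_algebraMap_smul fun _ _ => rfl
  haveI : Module.Finite P A := Module.Finite.of_surjective (Algebra.linearMap P A) hψ
  haveI : Module.Finite P M := Module.Finite.trans A M
  let T : Scheme.{u} := Spec (CommRingCat.of P)
  let t : T ⟶ S := Spec.map (CommRingCat.ofHom (algebraMap R P)) ≫ hV.fromSpec
  haveI : LocallyOfFiniteType (Spec.map (CommRingCat.ofHom (algebraMap R P))) := by
    rw [HasRingHomProperty.Spec_iff (P := @LocallyOfFiniteType), CommRingCat.hom_ofHom, RingHom.finiteType_algebraMap]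
    infer_instance
  haveI : LocallyOfFiniteType t := inferInstance
  haveI : IsNoetherian T := inferInstance
  let j : Spec A ⟶ T := Spec.map (CommRingCat.ofHom (algebraMap P A))
  haveI : IsClosedImmersion j := IsClosedImmersion.spec_of_surjective _ hψ
  have hjt : j ≫ t = hU.fromSpec ≫ g := by
    rw [← IsAffineOpen.SpecMap_appLE_fromSpec g hV hU hUV, ← Category.assoc, ← Spec.map_comp]
    congr 2
    ext r
    exact ψ.commutes r
  have hht : ∀ q : Spec A, Order.height (hU.fromSpec q) = Order.height (j q) := by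
    intro q
    obtain ⟨K, e, he, hK, hh⟩ := exists_height_formula g hS (hU.fromSpec q)
    obtain ⟨K', e', he', hK', hh'⟩ := exists_height_formula t hS (j q)
    have hpt : t (j q) = g (hU.fromSpec q) := by
      rw [← Scheme.Hom.comp_apply, hjt, Scheme.Hom.comp_apply]
    have hee : (e : Cardinal.{u}) = e' := by
      have h1 := FlatEquidim.mapTrdeg_comp j t q
      have h2 := FlatEquidim.mapTrdeg_comp hU.fromSpec g q
      rw [DimTheory.mapTrdeg_eq_zero j, add_zero, he'] at h1
      rw [DimTheory.mapTrdeg_eq_zero hU.fromSpec, add_zero, he] at h2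
      rw [← h2, ← h1]
      congr 1
      exact hjt.symm
    obtain ⟨s, hs, hsc⟩ := nonempty_inter_closedPoints (X := S) (Z := closure {g (hU.fromSpec q)})
      ⟨_, subset_closure rfl⟩ isClosed_closure.isLocallyClosed
    have h4 := hK s hsc (specializes_iff_mem_closure.2 hs)
    have h5 := hK' s hsc (by rw [hpt]; exact specializes_iff_mem_closure.2 hs)
    rw [hpt] at h5
    rw [hh, hh', h4.unique h5, Nat.cast_injective (R := Cardinal.{u}) hee]
  obtain ⟨q0, hq0⟩ := hU.range_fromSpec.ge hxU
  have hTreg : ∀ p : T, IsRegularLocalRing (T.presheaf.stalk p) := fun p => by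
    exact IsRegularLocalRing.of_ringEquiv (specStalkEquiv p).symm
  obtain ⟨η0, hη0, hη0max⟩ := FlatMorLib.exists_maximal_generization (j q0)
  have hgen : ∀ p : T, ∃ η : T, η ⤳ p ∧ (∀ y, y ⤳ η → y = η) ∧ ∀ z, z ⤳ p → η ⤳ z := by
    intro p
    haveI := hTreg p
    haveI : IsDomain (T.presheaf.stalk p) := CAlgReg.isDomain
    let b : PrimeSpectrum (T.presheaf.stalk p) := ⟨⊥, Ideal.isPrime_bot⟩
    have hmin : ∀ z, z ⤳ p → specStalkEmb p b ⤳ z := fun z hz => by
      obtain ⟨r, rfl⟩ := exists_specStalkEmb p z hz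
      exact (specStalkEmb_le_iff p b r).2 (show b.asIdeal ≤ r.asIdeal from bot_le)
    exact ⟨_, specStalkEmb_le p b, fun y hy => (hy.antisymm (hmin y (hy.trans (specStalkEmb_le p b)))).eq, hmin⟩
  obtain ⟨WT, hWT, -, hWTmax⟩ := EquidimChart.exists_nbhd_max_specializes (X := T) (U := (⊤ : T.Opens))
    (x := j q0) trivial
  obtain ⟨h0, n0, -, hη0h, -⟩ := exists_chain_height t hS hη0
  have hdim : ∀ p ∈ WT, ∃ c d : ℕ, Order.height p = (c : ℕ∞) ∧
      ringKrullDim (T.presheaf.stalk p) = (d : WithBot ℕ∞) ∧ c + d = h0 + n0 := by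
    intro p hp
    obtain ⟨η, hηp, hηmax, hηmin⟩ := hgen p
    have hηW : η ∈ WT := hηp.mem_open WT.isOpen hp
    obtain ⟨η', hη'p, hη'max, hη'min⟩ := hgen (j q0)
    obtain rfl : η = η0 := by
      rw [← hηmax _ (hη'min η (hWTmax η hηW hηmax))]
      exact (hη0max _ (hη'min η0 hη0))
    obtain ⟨c, n, hc, hcn, hlen⟩ := exists_chain_height t hS hηp
    refine ⟨c, n, hc, ?_, ?_⟩
    · rw [ringKrullDim_stalk_eq_coheight, ← WithBot.coe_natCast, WithBot.coe_inj]
      refine le_antisymm (Order.coheight_le fun r hr => ?_) ?_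
      · have hge : p ≤ r.last := hr ▸ (show r.head ≤ r.last from r.monotone (Fin.zero_le _))
        exact_mod_cast hlen.1 r hr (hηmin _ hge)
      · obtain ⟨r, hr1, -, hr3⟩ := hlen.2
        rw [← hr3]
        exact Order.length_le_coheight (p := r) hr1.ge
    · rw [hcn] at hη0h
      exact_mod_cast hη0h
  let D := h0 + n0
  let G : ℕ → Set T := fun n => (Module.support P M)ᶜ ∪ ⋃ m ∈ {m : ℕ | m + n ≤ D}, PdLocus.locus (R := P) M m
  have hG : ∀ n, IsOpen (G n) := fun n =>
    Module.isClosed_support.isOpen_compl.union (isOpen_biUnion fun m _ => PdLocus.isOpen_locus m M)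
  have key : ∀ q : Spec A, j q ∈ WT → (∀ n : ℕ, j q ∈ G n ↔ (n : ℕ∞) ≤ pstar F (hU.fromSpec q)) ∧
      (((D + 1 : ℕ) : ℕ∞) ≤ pstar F (hU.fromSpec q) → pstar F (hU.fromSpec q) = ⊤) := by
    intro q hq
    obtain ⟨h1, -, -, -⟩ := depth_stalk_eq F hF hU q
    let p : T := j q
    obtain ⟨c, d, hc, hd, hcd⟩ := hdim p hq
    let R' := Localization.AtPrime p.asIdeal
    have hd' : ringKrullDim R' = (d : WithBot ℕ∞) := by
      rw [← hd]
      exact (ringKrullDim_eq_of_ringEquiv (specStalkEquiv p)).symm
    let M' := LocalizedModule p.asIdeal.primeCompl M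
    haveI : Module.Finite R' M' :=
      Module.Finite.of_isLocalizedModule p.asIdeal.primeCompl (LocalizedModule.mkLinearMap _ _)
    have hps : pstar F (hU.fromSpec q) = LocCoh.depth R' M' + (c : ℕ∞) := by
      rw [pstar, hht q, hc, h1, depth_localized_of_surjective hψ M q.asIdeal]
      rfl
    refine ⟨fun n => ?_, fun h => ?_⟩
    · rw [hps, ← (regular_depth_key R' M' hd' hcd).1]
      simp only [G, Set.mem_union, Set.mem_compl_iff, Set.mem_iUnion, Set.mem_setOf_eq, exists_prop]
      exact or_congr Module.notMem_support_iff Iff.rfl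
    · rw [hps] at h ⊢
      haveI := (regular_depth_key R' M' (n := 0) hd' hcd).2 h
      rw [LocCoh.depth, Depth.idealDepth_eq_top (M := M') (Subsingleton.elim _ _), top_add]
  let W : X.Opens := hU.fromSpec ''ᵁ (j ⁻¹ᵁ WT)
  refine ⟨W, D, ⟨q0, hWT, hq0⟩, fun n => ?_, ?_⟩
  · convert hU.fromSpec.isOpenEmbedding.isOpenMap _ ((j ⁻¹ᵁ WT).isOpen.inter ((hG n).preimage j.continuous)) using 1
    ext y
    constructor
    · rintro ⟨⟨q, hq, rfl⟩, hn⟩
      exact ⟨q, ⟨hq, ((key q hq).1 n).2 hn⟩, rfl⟩
    · rintro ⟨q, ⟨hq, hq'⟩, rfl⟩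
      exact ⟨⟨q, hq, rfl⟩, ((key q hq).1 n).1 hq'⟩
  · rintro _ ⟨q, hq, rfl⟩
    exact (key q hq).2

end Groth.Agent.RectDepth
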