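import Mathlib
import Groth.Agent.RectDepth.StalkGen
import Groth.Agent.RectDepth.SupDim
import Groth.Agent.EquidimChart.DimOpen

/-!
The dimension of a stalk modulo a prime through chains of specializations.
-/

set_option autoImplicit false
set_option linter.all false
set_option backward.isDefEq.respectTransparency.types false
noncomputable section

universe u

open CategoryTheory AlgebraicGeometry TopologicalSpace IsLocalRing

namespace Groth.Agent.RectDepth

variable {Z : Scheme.{u}}

theorem length_le_coheight_prime {x : Z} (p : PrimeSpectrum (Z.presheaf.stalk x)) (r : LTSeries Z)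
    (h1 : r.head = x) (h2 : specStalkEmb x p ⤳ r.last) : (r.length : ℕ∞) ≤ Order.coheight p := by
  have hge : ∀ i, x ≤ r i := fun i => h1 ▸ (show r.head ≤ r i from r.monotone (Fin.zero_le i))
  choose q hq using fun i => exists_specStalkEmb x (r i) (hge i)
  let l : LTSeries (PrimeSpectrum (Z.presheaf.stalk x)) := LTSeries.mk r.length (fun i => q i.rev) (fun i j hij => by
    have h : r j.rev < r i.rev := r.strictMono (Fin.rev_lt_rev.2 hij)
    rw [← hq, ← hq] at h
    refine lt_of_le_of_ne ((specStalkEmb_le_iff x _ _).1 h.le) fun e => h.ne' ?_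
    exact congrArg (specStalkEmb x) e)
  refine Order.length_le_coheight (p := l) ?_
  refine (specStalkEmb_le_iff x _ _).1 ?_
  show specStalkEmb x (q (Fin.rev 0)) ≤ specStalkEmb x p
  rw [Fin.rev_zero, hq]
  exact h2

theorem exists_series_of_le_coheight_prime {x : Z} (p : PrimeSpectrum (Z.presheaf.stalk x)) (n : ℕ)
    (h : (n : ℕ∞) ≤ Order.coheight p) :
    ∃ r : LTSeries Z, r.head = x ∧ specStalkEmb x p ⤳ r.last ∧ n ≤ r.length := by
  obtain ⟨l, hl1, hl2⟩ := Order.exists_series_of_le_coheight p h
  let r : LTSeries Z := LTSeries.mk n (fun i => specStalkEmb x (l ⟨n - i.1, by omega⟩)) (fun i j hij => by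
    have h0 : i.1 < j.1 := hij
    have hjn : j.1 ≤ n := Nat.le_of_lt_succ j.2
    have hlt : l ⟨n - j.1, by omega⟩ < l ⟨n - i.1, by omega⟩ := l.strictMono (by
      show n - j.1 < n - i.1
      omega)
    exact FlatDim.lt_of_specializes_of_ne ((specStalkEmb_le_iff x _ _).2 hlt.le)
      fun e => hlt.ne' (specStalkEmb_injective x e))
  have hlast : specStalkEmb x p ⤳ r.last := by
    refine specializes_of_eq ?_
    show specStalkEmb x p = specStalkEmb x (l ⟨n - n, _⟩)
    rw [← hl1]
    congr 1
    exact congrArg l.toFun (Fin.ext (show (0:ℕ) = n - n by omega))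
  by_cases he : r.head = x
  · exact ⟨r, he, hlast, le_rfl⟩
  · refine ⟨r.cons x (FlatDim.lt_of_specializes_of_ne (show r.head ⤳ x from specStalkEmb_le x _) (Ne.symm he)),
      RelSeries.head_cons .., by rw [RelSeries.last_cons]; exact hlast, ?_⟩
    show n ≤ 0 + n + 1
    omega

end Groth.Agent.RectDepth
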