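import Mathlib
import Groth.Agent.RectDepth.Depth
import Groth.Agent.CAlgReg.Serre

/-!
The rectified depth of the fibre modules on affine space is insensitive to base change.
-/

set_option autoImplicit false
set_option linter.all false
set_option synthInstance.maxHeartbeats 80000
noncomputable section

universe u

open TensorProduct IsLocalRing Groth.Agent.CAlgReg

namespace Groth.Agent.RectDepth

open Ideal in
theorem algEquivAux₂_algebraMap {R S : Type u} [CommRing R] [CommRing S] [Algebra R S] (p : Ideal R) [p.IsPrime]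
    (q : Ideal (p.Fiber S)) [q.IsPrime] (x : S) :
    Fiber.algEquivAux₂ p q (algebraMap (p.Fiber S) (Localization.AtPrime q) (1 ⊗ₜ x)) =
      Ideal.Quotient.mk ((p.map (algebraMap R S)).map (algebraMap S _))
        (algebraMap S (Localization.AtPrime (q.comap (Algebra.TensorProduct.includeRight : S →ₐ[R] p.Fiber S).toRingHom)) x) := by
  letI : Algebra S (p.Fiber S) := Algebra.TensorProduct.rightAlgebra
  have h : (1 : p.ResidueField) ⊗ₜ[R] x = algebraMap S (p.Fiber S) x := rfl
  simp only [Fiber.algEquivAux₂, AlgEquiv.trans_apply, h]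
  simp
  rw [← IsScalarTower.algebraMap_apply, IsScalarTower.algebraMap_apply S (S ⧸ p.map (algebraMap R S))]
  let SpS := S ⧸ p.map (algebraMap R S)
  let r := q.comap (Algebra.TensorProduct.includeRight : S →ₐ[R] p.Fiber S)
  let Sp := Localization (Algebra.algebraMapSubmonoid S p.primeCompl)
  let q' : Ideal (Sp ⧸ (p.map (algebraMap R S)).map (algebraMap S Sp)) := q.comap (Fiber.algEquivAux₁ p).symm
  haveI : (q'.under SpS).LiesOver r := under_liesOver_of_liesOver SpS q' (q.under S)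
  haveI : Algebra.algebraMapSubmonoid SpS r.primeCompl = (q'.under SpS).primeCompl :=
    algebraMapSubmonoid_primeCompl_of_liesOver_surjective (q'.under SpS) r Ideal.Quotient.mk_surjective
  haveI : IsLocalization (Algebra.algebraMapSubmonoid SpS r.primeCompl) (Localization.AtPrime q') := by
    convert IsLocalization.isLocalization_isLocalization_atPrime_isLocalization
      (Algebra.algebraMapSubmonoid SpS (Algebra.algebraMapSubmonoid S p.primeCompl)) (Localization.AtPrime q') q'
  refine (IsLocalization.map_eq _ _).trans ?_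
  rfl

theorem exists_fibLocRing_equiv (A : Type u) {P : Type u} [CommRing A] [CommRing P] [Algebra A P] (q : PrimeSpectrum P) :
    ∃ e : Localization.AtPrime (fprime A q).asIdeal ≃+* EGA4.FibLocRing A P q.asIdeal,
      ∀ x : P, e (algebraMap ((q.comap (algebraMap A P)).asIdeal.Fiber P) _ (1 ⊗ₜ x)) = algebraMap P _ x := by
  let e := (Ideal.Fiber.algEquivAux₂ (q.comap (algebraMap A P)).asIdeal (fprime A q).asIdeal).toRingEquiv
  have h : ∀ (r : Ideal P) [r.IsPrime], r = q.asIdeal →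
      ∃ e' : (Localization.AtPrime r ⧸ ((q.comap (algebraMap A P)).asIdeal.map (algebraMap A P)).map
        (algebraMap P (Localization.AtPrime r))) ≃+* EGA4.FibLocRing A P q.asIdeal,
        ∀ x : P, e' (Ideal.Quotient.mk _ (algebraMap P (Localization.AtPrime r) x)) = algebraMap P _ x := by
    intro r _ hr
    subst hr
    refine ⟨(Ideal.quotientEquiv _ _ (RingEquiv.refl _) ?_), fun x => rfl⟩
    rw [Ideal.map_map, Ideal.map_map, RingHom.comp_assoc, ← IsScalarTower.algebraMap_eq]
    rfl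
  obtain ⟨e', he'⟩ := h _ (fprime_comap A q)
  refine ⟨e.trans e', fun x => ?_⟩
  exact (congrArg e' (algEquivAux₂_algebraMap (q.comap (algebraMap A P)).asIdeal (fprime A q).asIdeal x)).trans
    (he' x)

variable (A₀ A : Type u) {P₀ P : Type u} [CommRing A₀] [CommRing A] [CommRing P₀] [CommRing P] [Algebra A₀ A]
  [Algebra A₀ P₀] [Algebra A P] [Algebra P₀ P] [Algebra A₀ P] [IsScalarTower A₀ A P] [IsScalarTower A₀ P₀ P]

/-- The fibre local ring is flat over the one downstairs. -/
theorem exists_flat_fibMap [Algebra.IsPushout A₀ A P₀ P] (q : PrimeSpectrum P) :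
    ∃ θ : EGA4.FibLocRing A₀ P₀ (PrimeSpectrum.comap (algebraMap P₀ P) q).asIdeal →+* EGA4.FibLocRing A P q.asIdeal,
      θ.Flat ∧ IsLocalHom θ ∧ ∀ x : P₀, θ (algebraMap P₀ _ x) = algebraMap P _ (algebraMap P₀ P x) := by
  let e : A ⊗[A₀] P₀ ≃ₐ[A] P := Algebra.IsPushout.equiv A₀ A P₀ P
  have he : ∀ x, e ((1 : A) ⊗ₜ x) = algebraMap P₀ P x := fun x => by simp [e, Algebra.IsPushout.equiv_tmul]
  let q₀ := PrimeSpectrum.comap (algebraMap P₀ P) q
  let p := (q.comap (algebraMap A P)).asIdeal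
  let p₀ := (q₀.comap (algebraMap A₀ P₀)).asIdeal
  have hpp : p.under A₀ = p₀ := by
    show (q.asIdeal.comap (algebraMap A P)).comap (algebraMap A₀ A) = (q.asIdeal.comap (algebraMap P₀ P)).comap (algebraMap A₀ P₀)
    rw [Ideal.comap_comap, Ideal.comap_comap]
    congr 1
    rw [← IsScalarTower.algebraMap_eq, ← IsScalarTower.algebraMap_eq]
  let κ := p.ResidueField
  let κ0 := p₀.ResidueField
  letI : Algebra κ0 κ := (Ideal.ResidueField.map p₀ p (algebraMap A₀ A) hpp.symm).toAlgebra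
  haveI : IsScalarTower A₀ κ0 κ := IsScalarTower.of_algebraMap_eq fun a => by
    rw [RingHom.algebraMap_toAlgebra, Ideal.ResidueField.map_algebraMap, ← IsScalarTower.algebraMap_apply]
  let E : p.Fiber P ≃+* κ ⊗[κ0] (p₀.Fiber P₀) :=
    ((Algebra.TensorProduct.congr (R := A) (AlgEquiv.refl : κ ≃ₐ[A] κ) e.symm).toRingEquiv.trans
      (Algebra.TensorProduct.cancelBaseChange A₀ A κ κ P₀).toRingEquiv).trans
      (Algebra.TensorProduct.cancelBaseChange A₀ κ0 κ κ P₀).symm.toRingEquiv
  have hE : ∀ s : P₀, E.symm (1 ⊗ₜ (1 ⊗ₜ s)) = 1 ⊗ₜ algebraMap P₀ P s := fun s => by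
    rw [RingEquiv.symm_apply_eq]
    simp [E, ← he]
  let ι : p₀.Fiber P₀ →ₐ[κ0] κ ⊗[κ0] (p₀.Fiber P₀) := Algebra.TensorProduct.includeRight
  let g : p₀.Fiber P₀ →+* p.Fiber P := E.symm.toRingHom.comp ι.toRingHom
  have hι : RingHom.Flat (R := p₀.Fiber P₀) (S := κ ⊗[κ0] (p₀.Fiber P₀)) ι.toRingHom := by
    letI : Algebra (p₀.Fiber P₀) (κ ⊗[κ0] (p₀.Fiber P₀)) := Algebra.TensorProduct.rightAlgebra
    have : Module.Flat (p₀.Fiber P₀) (κ ⊗[κ0] (p₀.Fiber P₀)) :=
      Module.Flat.of_linearEquiv (Algebra.TensorProduct.commRight κ0 (p₀.Fiber P₀) κ).symm.toLinearEquiv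
    exact RingHom.flat_algebraMap_iff.2 this
  have hg : g.Flat := hι.comp (RingHom.Flat.of_bijective E.symm.bijective)
  have hgQ : (fprime A₀ q₀).asIdeal = (fprime A q).asIdeal.comap g := by
    let Q : PrimeSpectrum (p₀.Fiber P₀) := ⟨(fprime A q).asIdeal.comap g, inferInstance⟩
    suffices fprime A₀ q₀ = Q from congrArg PrimeSpectrum.asIdeal this
    refine (PrimeSpectrum.preimageEquivFiber A₀ P₀ (q₀.comap (algebraMap A₀ P₀))).symm.injective (Subtype.ext ?_)
    refine PrimeSpectrum.ext ((fprime_comap A₀ q₀).trans ?_)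
    show (q.asIdeal.comap (algebraMap P₀ P)) = ((fprime A q).asIdeal.comap g).comap _
    conv_lhs => rw [← fprime_comap A q]
    rw [Ideal.comap_comap, Ideal.comap_comap]
    congr 1
    exact RingHom.ext fun s => (hE s).symm
  obtain ⟨e₀, he₀⟩ := exists_fibLocRing_equiv A₀ q₀
  obtain ⟨e₁, he₁⟩ := exists_fibLocRing_equiv A q
  let gl := Localization.localRingHom (fprime A₀ q₀).asIdeal (fprime A q).asIdeal g hgQ
  refine ⟨(e₁.toRingHom.comp gl).comp e₀.symm.toRingHom,
    (RingHom.Flat.of_bijective e₀.symm.bijective).comp ((hg.localRingHom _ _ hgQ).comp (RingHom.Flat.of_bijective e₁.bijective)),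
    ⟨fun a ha => ?_⟩, fun x => ?_⟩
  · have h1 : IsUnit (gl (e₀.symm a)) := (isUnit_map_iff e₁ _).1 ha
    exact (isUnit_map_iff e₀.symm a).1 ((Localization.isLocalHom_localRingHom _ _ g hgQ).1 _ h1)
  · show e₁ (gl (e₀.symm (algebraMap P₀ _ x))) = _
    rw [← he₀ x, e₀.symm_apply_apply, Localization.localRingHom_to_map]
    show e₁ (algebraMap _ _ (E.symm (1 ⊗ₜ (1 ⊗ₜ x)))) = _
    rw [hE, he₁]

variable (M₀ M : Type u) [AddCommGroup M₀] [Module P₀ M₀] [AddCommGroup M] [Module P M]

/-- The fibre module is the base change of the module to the fibre local ring. -/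
theorem nonempty_fibLocMod_equiv {A : Type u} {P : Type u} [CommRing A] [CommRing P] [Algebra A P] (M : Type u)
    [AddCommGroup M] [Module P M] (q : PrimeSpectrum P) :
    Nonempty (EGA4.FibLocRing A P q.asIdeal ⊗[P] M ≃ₗ[EGA4.FibLocRing A P q.asIdeal] EGA4.FibLocMod A P q.asIdeal M) := by
  let S := Localization.AtPrime q.asIdeal
  let N := LocalizedModule q.asIdeal.primeCompl M
  let L := EGA4.FibLocRing A P q.asIdeal
  let eN : N ≃ₗ[S] S ⊗[P] M := LocalizedModule.equivTensorProduct q.asIdeal.primeCompl M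
  let e1 : L ⊗[S] N ≃ₗ[L] EGA4.FibLocMod A P q.asIdeal M :=
    LinearEquiv.extendScalarsOfSurjective Ideal.Quotient.mk_surjective (TensorProduct.quotTensorEquivQuotSMul N _)
  exact ⟨((AlgebraTensorModule.congr (LinearEquiv.refl L L) eN).trans
    (AlgebraTensorModule.cancelBaseChange P S L L M)).symm.trans e1⟩

theorem pdLT_zero_iff {R M : Type u} [CommRing R] [AddCommGroup M] [Module R M] :
    PdLT R M 0 ↔ Subsingleton M :=
  (CategoryTheory.hasProjectiveDimensionLT_zero_iff_isZero _).trans ModuleCat.isZero_iff_subsingleton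

theorem pdLT_iff_of_faithfullyFlat {R : Type u} [CommRing R] [IsNoetherianRing R] (S : Type u) [CommRing S]
    [Algebra R S] [Module.FaithfullyFlat R S] (M : Type u) [AddCommGroup M] [Module R M] [Module.Finite R M] :
    ∀ j, PdLT S (S ⊗[R] M) j ↔ PdLT R M j
  | 0 => by rw [pdLT_zero_iff, pdLT_zero_iff, Module.FaithfullyFlat.subsingleton_tensorProduct_iff_right]
  | j + 1 => ⟨pdLT_descend S j M, pdLT_baseChange S j M⟩

/-- Projective dimensions of fibre modules are insensitive to base change. -/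
theorem pdLT_fibre_baseChange_iff [Algebra.IsPushout A₀ A P₀ P] [IsNoetherianRing A₀] [Algebra.FiniteType A₀ P₀]
    [Module.Finite P₀ M₀] [Module P₀ M] [IsScalarTower P₀ P M] {f : M₀ →ₗ[P₀] M} (hf : IsBaseChange P f)
    (q : PrimeSpectrum P) (j : ℕ) :
    PdLT (EGA4.FibLocRing A P q.asIdeal) (EGA4.FibLocMod A P q.asIdeal M) j ↔
      PdLT (EGA4.FibLocRing A₀ P₀ (PrimeSpectrum.comap (algebraMap P₀ P) q).asIdeal)
        (EGA4.FibLocMod A₀ P₀ (PrimeSpectrum.comap (algebraMap P₀ P) q).asIdeal M₀) j := by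
  let q₀ := PrimeSpectrum.comap (algebraMap P₀ P) q
  let L := EGA4.FibLocRing A P q.asIdeal
  let L₀ := EGA4.FibLocRing A₀ P₀ q₀.asIdeal
  obtain ⟨θ, hθ, hθl, hθc⟩ := exists_flat_fibMap A₀ A (P₀ := P₀) q
  have : IsLocalRing L := isLocalRing_fibLocRing A q.asIdeal
  have : IsLocalRing L₀ := isLocalRing_fibLocRing A₀ q₀.asIdeal
  haveI : IsNoetherianRing P₀ := Algebra.FiniteType.isNoetherianRing A₀ P₀
  haveI : IsNoetherianRing L₀ := inferInstance
  letI : Algebra L₀ L := θ.toAlgebra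
  haveI : IsScalarTower P₀ L₀ L := IsScalarTower.of_algebraMap_eq (R := P₀) (S := L₀) (A := L) fun x =>
    (IsScalarTower.algebraMap_apply P₀ P L x).trans (hθc x).symm
  haveI : IsLocalHom (algebraMap L₀ L) := hθl
  haveI : Module.Flat L₀ L := hθ
  haveI : Module.FaithfullyFlat L₀ L := Module.FaithfullyFlat.of_flat_of_isLocalHom
  obtain ⟨e⟩ := nonempty_fibLocMod_equiv (A := A) M q
  obtain ⟨e₀⟩ := nonempty_fibLocMod_equiv (A := A₀) M₀ q₀
  let E : L ⊗[L₀] EGA4.FibLocMod A₀ P₀ q₀.asIdeal M₀ ≃ₗ[L] EGA4.FibLocMod A P q.asIdeal M :=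
    (((AlgebraTensorModule.congr (LinearEquiv.refl L L) e₀.symm).trans
      (AlgebraTensorModule.cancelBaseChange P₀ L₀ L L M₀)).trans
        ((AlgebraTensorModule.cancelBaseChange P₀ P L L M₀).symm.trans
          (AlgebraTensorModule.congr (LinearEquiv.refl L L) hf.equiv))).trans e
  haveI : Module.Finite L₀ (EGA4.FibLocMod A₀ P₀ q₀.asIdeal M₀) := Module.Finite.equiv e₀
  rw [← pdLT_iff_of_faithfullyFlat L (EGA4.FibLocMod A₀ P₀ q₀.asIdeal M₀) j]
  exact ⟨fun h => pdLT_congr E.symm h, fun h => pdLT_congr E h⟩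

variable {n : ℕ}

/-- Rectified depth `≥ m` in terms of projective dimension only. -/
theorem le_fdepth_add_iff_pdLT {A : Type u} {P : Type u} [CommRing A] [CommRing P] [Algebra A P] (M : Type u)
    [AddCommGroup M] [Module P M] [Module.Finite P M] (q : PrimeSpectrum P)
    (e : (q.comap (algebraMap A P)).asIdeal.Fiber P ≃ₐ[(q.comap (algebraMap A P)).asIdeal.ResidueField]
      MvPolynomial (Fin n) (q.comap (algebraMap A P)).asIdeal.ResidueField) (m : ℕ) :
    (m : WithBot ℕ∞) ≤ (fdepth A M q : WithBot ℕ∞) + fdim A q ↔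
      PdLT (EGA4.FibLocRing A P q.asIdeal) (EGA4.FibLocMod A P q.asIdeal M) 0 ∨
        (m ≤ n ∧ PdLT (EGA4.FibLocRing A P q.asIdeal) (EGA4.FibLocMod A P q.asIdeal M) (n - m + 1)) := by
  rw [le_fdepth_add_iff A M q e m]
  refine or_congr ?_ Iff.rfl
  rw [pdLT_zero_iff, Module.notMem_support_iff]
  refine ⟨fun h => (Submodule.Quotient.mk_surjective _).subsingleton, fun h => ?_⟩
  by_contra hs
  rw [not_subsingleton_iff_nontrivial] at hs
  have htop := Submodule.Quotient.subsingleton_iff.1 h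
  exact (Submodule.top_ne_ideal_smul_of_le_jacobson_annihilator (R := Localization.AtPrime q.asIdeal)
    (((map_le_maximalIdeal A q.asIdeal).trans (IsLocalRing.maximalIdeal_le_jacobson _)))) htop.symm

end Groth.Agent.RectDepth
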