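import Mathlib
import Groth.Agent.RectDepth.RdBC
import Groth.Agent.GenFree.Noetherian
import Groth.Agent.FlatLocus.Model
import Groth.Agent.ConstrSets.Basic

/-!
Constructibility of the level sets of the rectified depth of fibre modules on affine space, without flatness.
-/

set_option autoImplicit false
set_option linter.all false
set_option synthInstance.maxHeartbeats 80000
noncomputable section

universe u

open TensorProduct IsLocalRing Topology Groth.Agent.CAlgReg

attribute [local instance] MvPolynomial.algebraMvPolynomial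

namespace Groth.Agent.RectDepth

variable (n m : ℕ)

/-- The points where the rectified depth of the fibre module is at least `m`. -/
def rdSet (A : Type u) [CommRing A] (P : Type u) [CommRing P] [Algebra A P] (M : Type u) [AddCommGroup M]
    [Module P M] : Set (PrimeSpectrum P) :=
  {q | PdLT (EGA4.FibLocRing A P q.asIdeal) (EGA4.FibLocMod A P q.asIdeal M) 0 ∨
    (m ≤ n ∧ PdLT (EGA4.FibLocRing A P q.asIdeal) (EGA4.FibLocMod A P q.asIdeal M) (n - m + 1))}

theorem rdSet_baseChange (A₀ A : Type u) {P₀ P : Type u} [CommRing A₀] [CommRing A] [CommRing P₀] [CommRing P]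
    [Algebra A₀ A] [Algebra A₀ P₀] [Algebra A P] [Algebra P₀ P] [Algebra A₀ P] [IsScalarTower A₀ A P]
    [IsScalarTower A₀ P₀ P] [Algebra.IsPushout A₀ A P₀ P] [IsNoetherianRing A₀] [Algebra.FiniteType A₀ P₀]
    (M₀ M : Type u) [AddCommGroup M₀] [Module P₀ M₀] [Module.Finite P₀ M₀] [AddCommGroup M] [Module P M]
    [Module P₀ M] [IsScalarTower P₀ P M] {f : M₀ →ₗ[P₀] M} (hf : IsBaseChange P f) :
    rdSet n m A P M = PrimeSpectrum.comap (algebraMap P₀ P) ⁻¹' rdSet n m A₀ P₀ M₀ :=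
  Set.ext fun q => or_congr (pdLT_fibre_baseChange_iff A₀ A M₀ M hf q _)
    (and_congr Iff.rfl (pdLT_fibre_baseChange_iff A₀ A M₀ M hf q _))

theorem isOpen_rdSet (A : Type u) [CommRing A] (M : Type u) [AddCommGroup M]
    [Module (MvPolynomial (Fin n) A) M] [Module A M] [IsScalarTower A (MvPolynomial (Fin n) A) M]
    [Module.Flat A M] [Module.FinitePresentation (MvPolynomial (Fin n) A) M] :
    IsOpen (rdSet n m A (MvPolynomial (Fin n) A) M) := by
  let eK : ∀ q : PrimeSpectrum (MvPolynomial (Fin n) A),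
      (q.comap (algebraMap A (MvPolynomial (Fin n) A))).asIdeal.Fiber (MvPolynomial (Fin n) A)
      ≃ₐ[(q.comap (algebraMap A (MvPolynomial (Fin n) A))).asIdeal.ResidueField]
      MvPolynomial (Fin n) (q.comap (algebraMap A (MvPolynomial (Fin n) A))).asIdeal.ResidueField :=
    fun q => MvPolynomial.algebraTensorAlgEquiv A _
  have : rdSet n m A (MvPolynomial (Fin n) A) M = {q | (m : WithBot ℕ∞) ≤ (fdepth A M q : WithBot ℕ∞) + fdim A q} :=
    Set.ext fun q => (le_fdepth_add_iff_pdLT M q (eK q) m).symm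
  rw [this]
  exact isOpen_le_fdepth_add A eK M m

theorem isConstructible_preimage_comap {R S : Type u} [CommRing R] [CommRing S] (φ : R →+* S)
    {s : Set (PrimeSpectrum R)} (hs : IsConstructible s) : IsConstructible (PrimeSpectrum.comap φ ⁻¹' s) := by
  refine hs.preimage (PrimeSpectrum.continuous_comap φ) fun t ht htc => ?_
  rw [QuasiSeparatedSpace.isRetrocompact_iff_isCompact ht] at htc
  rw [QuasiSeparatedSpace.isRetrocompact_iff_isCompact (ht.preimage (PrimeSpectrum.continuous_comap φ))]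
  classical
  obtain ⟨F, hF⟩ := PrimeSpectrum.isCompact_isOpen_iff.1 ⟨htc, ht⟩
  exact (PrimeSpectrum.isCompact_isOpen_iff.2 ⟨F.image φ, by
    rw [← hF, Set.preimage_compl, PrimeSpectrum.preimage_comap_zeroLocus, Finset.coe_image]⟩).1

/-- The image of a stratum of the base in a pushout. -/
theorem range_comap_stratum (A₀ P₀ P₂ : Type u) [CommRing A₀] [CommRing P₀] [CommRing P₂] [Algebra A₀ P₀]
    (I : Ideal A₀) (g : A₀) [Algebra A₀ P₂] [Algebra P₀ P₂] [IsScalarTower A₀ P₀ P₂]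
    [Algebra (Localization.Away (Ideal.Quotient.mk I g)) P₂]
    [IsScalarTower A₀ (Localization.Away (Ideal.Quotient.mk I g)) P₂]
    [Algebra.IsPushout A₀ (Localization.Away (Ideal.Quotient.mk I g)) P₀ P₂] :
    Set.range (PrimeSpectrum.comap (algebraMap P₀ P₂)) = PrimeSpectrum.comap (algebraMap A₀ P₀) ⁻¹'
      (PrimeSpectrum.zeroLocus (I : Set A₀) ∩ (PrimeSpectrum.zeroLocus {g})ᶜ) := by
  let A₂ := Localization.Away (Ideal.Quotient.mk I g)
  ext r
  simp only [Set.mem_preimage, Set.mem_inter_iff, Set.mem_compl_iff, PrimeSpectrum.mem_zeroLocus,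
    Set.singleton_subset_iff, SetLike.coe_subset_coe, SetLike.mem_coe, PrimeSpectrum.comap_asIdeal]
  have hcomm : ∀ a : A₀, algebraMap P₀ P₂ (algebraMap A₀ P₀ a) = algebraMap A₂ P₂ (algebraMap A₀ A₂ a) := fun a => by
    rw [← IsScalarTower.algebraMap_apply, ← IsScalarTower.algebraMap_apply]
  have hA₂ : ∀ a : A₀, algebraMap A₀ A₂ a = algebraMap (A₀ ⧸ I) A₂ (Ideal.Quotient.mk I a) := fun a =>
    IsScalarTower.algebraMap_apply A₀ (A₀ ⧸ I) A₂ a
  constructor
  · rintro ⟨r', rfl⟩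
    refine ⟨fun a ha => ?_, fun hg => ?_⟩
    · show algebraMap P₀ P₂ (algebraMap A₀ P₀ a) ∈ r'.asIdeal
      rw [hcomm, hA₂, Ideal.Quotient.eq_zero_iff_mem.2 ha, map_zero, map_zero]
      exact zero_mem _
    · have hg' : algebraMap P₀ P₂ (algebraMap A₀ P₀ g) ∈ r'.asIdeal := hg
      rw [hcomm, hA₂] at hg'
      exact r'.2.ne_top (Ideal.eq_top_of_isUnit_mem _ hg'
        ((IsLocalization.Away.algebraMap_isUnit (S := A₂) (Ideal.Quotient.mk I g)).map (algebraMap A₂ P₂)))
  · rintro ⟨hI, hg⟩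
    let κ := r.asIdeal.ResidueField
    let φ₁ : A₀ ⧸ I →+* κ := Ideal.Quotient.lift I ((algebraMap P₀ κ).comp (algebraMap A₀ P₀)) fun a ha => by
      rw [RingHom.comp_apply]
      exact Ideal.algebraMap_residueField_eq_zero.2 (hI ha)
    have hu : IsUnit (φ₁ (Ideal.Quotient.mk I g)) := Ne.isUnit fun h0 =>
      hg (show algebraMap A₀ P₀ g ∈ r.asIdeal from Ideal.algebraMap_residueField_eq_zero.1 h0)
    let φ₂ : A₂ →+* κ := IsLocalization.Away.lift (Ideal.Quotient.mk I g) hu
    have hφ₂ : ∀ a : A₀, φ₂ (algebraMap A₀ A₂ a) = algebraMap P₀ κ (algebraMap A₀ P₀ a) := fun a => by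
      rw [hA₂]
      exact IsLocalization.Away.lift_eq _ hu _
    let α : A₂ →ₐ[A₀] κ := { φ₂ with commutes' := fun a => (hφ₂ a).trans (IsScalarTower.algebraMap_apply A₀ P₀ κ a).symm }
    let ψ := Algebra.pushoutDesc P₂ α (IsScalarTower.toAlgHom A₀ P₀ κ) fun _ _ => Commute.all _ _
    refine ⟨⟨RingHom.ker ψ.toRingHom, RingHom.ker_isPrime _⟩, PrimeSpectrum.ext (Ideal.ext fun x => ?_)⟩
    show ψ (algebraMap P₀ P₂ x) = 0 ↔ x ∈ r.asIdeal
    rw [show ψ (algebraMap P₀ P₂ x) = algebraMap P₀ κ x from Algebra.pushoutDesc_right P₂ α (IsScalarTower.toAlgHom A₀ P₀ κ) (fun _ _ => Commute.all _ _) x]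
    exact Ideal.algebraMap_residueField_eq_zero

/-- Flatness over a stratum where the module is free. -/
theorem flat_stratum (A₀ A₁ P₀ P₁ P₂ : Type u) [CommRing A₀] [CommRing A₁] [CommRing P₀] [CommRing P₁] [CommRing P₂]
    [Algebra A₀ A₁] [Algebra A₀ P₀] [Algebra A₁ P₁] [Algebra P₀ P₁] [Algebra A₀ P₁] [IsScalarTower A₀ A₁ P₁]
    [IsScalarTower A₀ P₀ P₁] [Algebra.IsPushout A₀ A₁ P₀ P₁]
    (g : A₁) [Algebra A₀ P₂] [Algebra P₀ P₂] [IsScalarTower A₀ P₀ P₂] [Algebra (Localization.Away g) P₂]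
    [IsScalarTower A₀ (Localization.Away g) P₂] [Algebra.IsPushout A₀ (Localization.Away g) P₀ P₂]
    (M₀ : Type u) [AddCommGroup M₀] [Module P₀ M₀] [Module A₀ M₀] [IsScalarTower A₀ P₀ M₀]
    (hfree : GenFree.GFree g (P₁ ⊗[P₀] M₀)) : Module.Flat (Localization.Away g) (P₂ ⊗[P₀] M₀) := by
  haveI : Module.Free (Localization.Away g) (LocalizedModule.Away g (P₁ ⊗[P₀] M₀)) := hfree.free
  let e₁ : P₁ ⊗[P₀] M₀ ≃ₗ[A₁] A₁ ⊗[A₀] M₀ := Algebra.IsPushout.cancelBaseChange A₀ A₁ P₀ P₁ M₀
  let e₂ : P₂ ⊗[P₀] M₀ ≃ₗ[Localization.Away g] Localization.Away g ⊗[A₀] M₀ :=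
    Algebra.IsPushout.cancelBaseChange A₀ (Localization.Away g) P₀ P₂ M₀
  exact Module.Flat.of_linearEquiv (e₂.trans ((AlgebraTensorModule.cancelBaseChange A₀ A₁ (Localization.Away g) (Localization.Away g) M₀).symm.trans
    ((AlgebraTensorModule.congr (LinearEquiv.refl (Localization.Away g) (Localization.Away g)) e₁.symm).trans
      (LocalizedModule.equivTensorProduct (Submonoid.powers g) (P₁ ⊗[P₀] M₀)).symm)))

variable (A₀ : Type u) [CommRing A₀] [IsNoetherianRing A₀] (M₀ : Type u) [AddCommGroup M₀]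
  [Module (MvPolynomial (Fin n) A₀) M₀] [Module.Finite (MvPolynomial (Fin n) A₀) M₀]

/-- One stratum. -/
theorem exists_stratum_rdSet (I : Ideal A₀) [I.IsPrime] : ∃ g : A₀, g ∉ I ∧
    IsConstructible (rdSet n m A₀ (MvPolynomial (Fin n) A₀) M₀ ∩ PrimeSpectrum.comap (algebraMap A₀ (MvPolynomial (Fin n) A₀)) ⁻¹'
      (PrimeSpectrum.zeroLocus (I : Set A₀) ∩ (PrimeSpectrum.zeroLocus {g})ᶜ)) := by
  letI : Module A₀ M₀ := Module.compHom M₀ (algebraMap A₀ (MvPolynomial (Fin n) A₀))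
  haveI : IsScalarTower A₀ (MvPolynomial (Fin n) A₀) M₀ := .of_algebraMap_smul fun _ _ => rfl
  obtain ⟨g₁, hg₁, hfree⟩ := GenFree.exists_gFree (R := A₀ ⧸ I) (MvPolynomial (Fin n) (A₀ ⧸ I))
    (MvPolynomial (Fin n) (A₀ ⧸ I) ⊗[MvPolynomial (Fin n) A₀] M₀)
  obtain ⟨g, rfl⟩ := Ideal.Quotient.mk_surjective g₁
  refine ⟨g, fun hg => hg₁ (Ideal.Quotient.eq_zero_iff_mem.2 hg), ?_⟩
  haveI := flat_stratum A₀ (A₀ ⧸ I) (MvPolynomial (Fin n) A₀) (MvPolynomial (Fin n) (A₀ ⧸ I))
    (MvPolynomial (Fin n) (Localization.Away (Ideal.Quotient.mk I g))) (Ideal.Quotient.mk I g) M₀ hfree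
  set A₂ := Localization.Away (Ideal.Quotient.mk I g) with hA₂
  haveI : IsNoetherianRing A₂ := IsLocalization.isNoetherianRing (Submonoid.powers (Ideal.Quotient.mk I g)) A₂ inferInstance
  haveI : Module.FinitePresentation (MvPolynomial (Fin n) A₂) (MvPolynomial (Fin n) A₂ ⊗[MvPolynomial (Fin n) A₀] M₀) :=
    @Module.finitePresentation_of_finite (MvPolynomial (Fin n) A₂) (MvPolynomial (Fin n) A₂ ⊗[MvPolynomial (Fin n) A₀] M₀) _ _ _ inferInstance inferInstance
  have hopen := isOpen_rdSet n m A₂ (MvPolynomial (Fin n) A₂ ⊗[MvPolynomial (Fin n) A₀] M₀)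
  have hc := ((QuasiSeparatedSpace.isRetrocompact_iff_isCompact hopen).2
    (TopologicalSpace.NoetherianSpace.isCompact _)).isConstructible hopen
  have hbc := TensorProduct.isBaseChange (MvPolynomial (Fin n) A₀) M₀ (MvPolynomial (Fin n) A₂)
  have heq := rdSet_baseChange (P₀ := MvPolynomial (Fin n) A₀) (P := MvPolynomial (Fin n) A₂) n m A₀ A₂ M₀
    (MvPolynomial (Fin n) A₂ ⊗[MvPolynomial (Fin n) A₀] M₀) hbc
  rw [heq] at hc
  have hfp : (algebraMap (MvPolynomial (Fin n) A₀) (MvPolynomial (Fin n) A₂)).FinitePresentation := by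
    haveI : Algebra.FiniteType A₀ A₂ :=
      Algebra.FiniteType.trans (S := A₀ ⧸ I) inferInstance (IsLocalization.finiteType_of_monoid_fg (Submonoid.powers (Ideal.Quotient.mk I g)) _)
    haveI : Algebra.FiniteType A₀ (MvPolynomial (Fin n) A₂) := Algebra.FiniteType.trans (S := A₂) inferInstance inferInstance
    haveI : Algebra.FiniteType (MvPolynomial (Fin n) A₀) (MvPolynomial (Fin n) A₂) :=
      Algebra.FiniteType.of_restrictScalars_finiteType A₀ _ _
    exact RingHom.finitePresentation_algebraMap.2 ((Algebra.FinitePresentation.of_finiteType).1 inferInstance)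
  have h := PrimeSpectrum.isConstructible_comap_image hfp hc
  rw [Set.image_preimage_eq_inter_range] at h
  rw [range_comap_stratum A₀ (MvPolynomial (Fin n) A₀) (MvPolynomial (Fin n) A₂) I g] at h
  exact h

/-- The level sets are constructible over a noetherian base. -/
theorem isConstructible_rdSet_noetherian : IsConstructible (rdSet n m A₀ (MvPolynomial (Fin n) A₀) M₀) := by
  let P₀ := MvPolynomial (Fin n) A₀
  let c := PrimeSpectrum.comap (algebraMap A₀ P₀)
  suffices h : ∀ C : Set (PrimeSpectrum A₀), IsClosed C → IsConstructible (rdSet n m A₀ (MvPolynomial (Fin n) A₀) M₀ ∩ c ⁻¹' C) by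
    simpa using h Set.univ isClosed_univ
  intro C hC
  refine ConstrSets.closed_induction (p := fun C => IsConstructible (rdSet n m A₀ (MvPolynomial (Fin n) A₀) M₀ ∩ c ⁻¹' C))
    (by simp) (fun A B _ _ hA hB => by rw [Set.preimage_union, Set.inter_union_distrib_left]; exact hA.union hB) ?_ hC
  intro C hC hirr ih
  obtain ⟨p, hp⟩ := QuasiSober.sober hirr hC
  have hCp : C = PrimeSpectrum.zeroLocus (p.asIdeal : Set A₀) := by
    rw [← hp.def, PrimeSpectrum.closure_singleton]
  obtain ⟨g, hg, hgc⟩ := exists_stratum_rdSet n m A₀ M₀ p.asIdeal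
  rw [← hCp] at hgc
  have hD : C ∩ PrimeSpectrum.zeroLocus {g} ⊂ C := by
    refine ⟨Set.inter_subset_left, fun h => hg ?_⟩
    have := (h (hp.mem : p ∈ C)).2
    simpa [PrimeSpectrum.mem_zeroLocus] using this
  have h2 := ih _ (hC.inter (PrimeSpectrum.isClosed_zeroLocus _)) hD
  refine (congrArg IsConstructible ?_).mp (hgc.union h2)
  rw [← Set.inter_union_distrib_left, ← Set.preimage_union, ← Set.inter_union_distrib_left, Set.compl_union_self,
    Set.inter_univ]

variable {n m}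

/-- The level sets of the rectified depth of a finitely presented module are constructible. -/
theorem isConstructible_le_fdepth_add {A : Type u} [CommRing A] (M : Type u) [AddCommGroup M]
    [Module (MvPolynomial (Fin n) A) M] [Module.FinitePresentation (MvPolynomial (Fin n) A) M]
    (e : ∀ q : PrimeSpectrum (MvPolynomial (Fin n) A),
      (q.comap (algebraMap A (MvPolynomial (Fin n) A))).asIdeal.Fiber (MvPolynomial (Fin n) A)
      ≃ₐ[(q.comap (algebraMap A (MvPolynomial (Fin n) A))).asIdeal.ResidueField]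
      MvPolynomial (Fin n) (q.comap (algebraMap A (MvPolynomial (Fin n) A))).asIdeal.ResidueField) (m : ℕ) :
    IsConstructible {q : PrimeSpectrum (MvPolynomial (Fin n) A) | (m : WithBot ℕ∞) ≤ (fdepth A M q : WithBot ℕ∞) + fdim A q} := by
  obtain ⟨R, hR, -, M₁, _, _, _, ⟨eM⟩⟩ := FlatLocus.exists_module_model (B := A) n M ∅
  haveI : Algebra.FiniteType ℤ R := ⟨(Subalgebra.fg_top R).2 hR⟩
  haveI : IsNoetherianRing R := Algebra.FiniteType.isNoetherianRing ℤ R
  have h : IsConstructible (rdSet n m A (MvPolynomial (Fin n) A) (MvPolynomial (Fin n) A ⊗[MvPolynomial (Fin n) R] M₁)) := by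
    rw [rdSet_baseChange n m R A M₁ _ (TensorProduct.isBaseChange (MvPolynomial (Fin n) R) M₁ (MvPolynomial (Fin n) A))]
    exact isConstructible_preimage_comap _ (isConstructible_rdSet_noetherian n m R M₁)
  refine (congrArg IsConstructible ?_).mp h
  ext q
  rw [Set.mem_ofPred_eq, le_fdepth_add_iff_pdLT (A := A) M q (e q) m]
  obtain ⟨e₁⟩ := nonempty_fibLocMod_equiv (A := A) (MvPolynomial (Fin n) A ⊗[MvPolynomial (Fin n) R] M₁) q
  obtain ⟨e₂⟩ := nonempty_fibLocMod_equiv (A := A) M q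
  let E := e₁.symm.trans ((AlgebraTensorModule.congr (LinearEquiv.refl _ _) eM).trans e₂)
  exact or_congr ⟨pdLT_congr E, pdLT_congr E.symm⟩ (and_congr Iff.rfl ⟨pdLT_congr E, pdLT_congr E.symm⟩)

end Groth.Agent.RectDepth
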