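import Mathlib
import Groth.Agent.RectDepth.RdConstr
import Groth.Agent.RectDepth.Semicont

/-!
The rectified depth of the fibres is a locally constructible function.
-/

set_option autoImplicit false
set_option synthInstance.maxHeartbeats 80000
set_option linter.all false
noncomputable section

universe u

open CategoryTheory Limits AlgebraicGeometry TopologicalSpace TensorProduct Topology
open Groth.Agent.FlatOver

namespace Groth.Agent.RectDepth

variable {X Y : Scheme.{u}} (f : X ⟶ Y)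

theorem exists_constructible_chart [LocallyOfFinitePresentation f] (F : X.Modules) (hF : CohB1.IsFP F) (x : X) :
    ∃ (V : X.Opens) (d : ℕ), x ∈ V ∧
      (∀ m : ℕ, IsConstructible (Subtype.val ⁻¹' {y : X | (m : WithBot ℕ∞) ≤ rdepth f F y} : Set V)) ∧
      ∀ y ∈ V, ((d + 1 : ℕ) : WithBot ℕ∞) ≤ rdepth f F y → rdepth f F y = ((⊤ : ℕ∞) : WithBot ℕ∞) := by
  haveI := isQuasicoherent_of_isFP hF
  obtain ⟨U, hU, hxU, -⟩ := exists_isAffineOpen_mem_and_subset (x := f x) (U := ⊤) trivial
  obtain ⟨V, hV, hxV, e⟩ := exists_isAffineOpen_mem_and_subset (x := x) (U := f ⁻¹ᵁ U) hxU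
  letI : Algebra Γ(Y, U) Γ(X, V) := (f.appLE U V e).hom.toAlgebra
  haveI : Algebra.FinitePresentation Γ(Y, U) Γ(X, V) := Scheme.Hom.finitePresentation_appLE f hU hV e
  obtain ⟨d, φ, hφs, hker⟩ := Algebra.FinitePresentation.out (R := Γ(Y, U)) (A := Γ(X, V))
  let P := MvPolynomial (Fin d) Γ(Y, U)
  letI : Algebra P Γ(X, V) := φ.toRingHom.toAlgebra
  haveI : IsScalarTower Γ(Y, U) P Γ(X, V) := IsScalarTower.of_algebraMap_eq fun a => (φ.commutes a).symm
  letI : Module P Γ(F, V) := Module.compHom Γ(F, V) φ.toRingHom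
  haveI : IsScalarTower P Γ(X, V) Γ(F, V) := .of_algebraMap_smul fun _ _ ↦ rfl
  haveI : Module.FinitePresentation P Γ(X, V) :=
    Module.finitePresentation_of_surjective (Algebra.linearMap P Γ(X, V)) hφs (by exact hker)
  haveI : Module.FinitePresentation Γ(X, V) Γ(F, V) := FinLocFreeSections.finitePresentation_sections F hF hV
  haveI : Module.FinitePresentation P Γ(F, V) := Module.FinitePresentation.trans _ Γ(F, V) Γ(X, V)
  let eK : ∀ q : PrimeSpectrum P, (q.comap (algebraMap Γ(Y, U) P)).asIdeal.Fiber P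
      ≃ₐ[(q.comap (algebraMap Γ(Y, U) P)).asIdeal.ResidueField]
      MvPolynomial (Fin d) (q.comap (algebraMap Γ(Y, U) P)).asIdeal.ResidueField :=
    fun q => MvPolynomial.algebraTensorAlgEquiv Γ(Y, U) _
  have key : ∀ y (hy : y ∈ V), rdepth f F y =
      (fdepth Γ(Y, U) Γ(F, V) (chartPrime hV φ.toRingHom y hy) : WithBot ℕ∞) +
        fdim Γ(Y, U) (chartPrime hV φ.toRingHom y hy) := fun y hy => by
    haveI := (regular_and_dim Γ(Y, U) _ (eK (chartPrime hV φ.toRingHom y hy))).1
    exact rdepth_eq f F hV hU e φ.toRingHom hφs φ.comp_algebraMap (fun _ _ => rfl) y hy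
  refine ⟨V, d, hxV, fun m => ?_, fun y hy hle => ?_⟩
  · have hc := isConstructible_preimage_comap φ.toRingHom
      (isConstructible_le_fdepth_add (A := Γ(Y, U)) (n := d) Γ(F, V) eK m)
    let h : Spec Γ(X, V) ≅ V.toScheme := hV.isoSpec.symm
    have hc' := hc.preimage_of_isOpenEmbedding h.inv.isOpenEmbedding
    refine (congrArg IsConstructible ?_).mp hc'
    ext ⟨y, hy⟩
    show (m : WithBot ℕ∞) ≤ _ ↔ _ ≤ rdepth f F y
    rw [key y hy]
    have hy' : h.inv ⟨y, hy⟩ = hV.primeIdealOf ⟨y, hy⟩ := rfl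
    rw [hy']
    rfl
  · rw [key y hy] at hle ⊢
    rcases (le_fdepth_add_iff Γ(Y, U) Γ(F, V) (chartPrime hV φ.toRingHom y hy) (eK _) (d + 1)).1 hle with h | h
    · obtain ⟨-, k, r, hk, -, -⟩ := regular_and_dim Γ(Y, U) _ (eK (chartPrime hV φ.toRingHom y hy))
      rw [Module.notMem_support_iff] at h
      haveI : Subsingleton (EGA4.FibLocMod Γ(Y, U) P (chartPrime hV φ.toRingHom y hy).asIdeal Γ(F, V)) :=
        (Submodule.Quotient.mk_surjective _).subsingleton
      rw [hk, show fdepth Γ(Y, U) Γ(F, V) (chartPrime hV φ.toRingHom y hy) = ⊤ from Depth.idealDepth_of_subsingleton ..]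
      rfl
    · omega

/-- The level sets of the rectified depth are locally constructible. -/
theorem isLocallyConstructible_rdepth_eq [LocallyOfFinitePresentation f] (F : X.Modules) (hF : CohB1.IsFP F) (n : ℕ∞) :
    IsLocallyConstructible {x : X | rdepth f F x = (n : WithBot ℕ∞)} := by
  intro x
  obtain ⟨V, d, hxV, hc, htop⟩ := exists_constructible_chart f F hF x
  refine ⟨V, V.2.mem_nhds hxV, V.2, ?_⟩
  induction n using ENat.recTopCoe with
  | top =>
    refine (congrArg IsConstructible ?_).mp (hc (d + 1))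
    ext ⟨y, hy⟩
    exact ⟨htop y hy, fun h => le_top.trans (le_of_eq h.symm)⟩
  | coe n =>
    refine (congrArg IsConstructible ?_).mp ((hc n).sdiff (hc (n + 1)))
    ext ⟨y, hy⟩
    show (n : WithBot ℕ∞) ≤ rdepth f F y ∧ ¬ ((n + 1 : ℕ) : WithBot ℕ∞) ≤ rdepth f F y ↔
      rdepth f F y = ((n : ℕ∞) : WithBot ℕ∞)
    rw [Nat.cast_add, Nat.cast_one]
    constructor
    · rintro ⟨h1, h2⟩
      exact le_antisymm (not_lt.1 fun h3 => h2 (ENat.WithBot.add_one_le_iff.2 h3)) h1
    · intro h
      rw [h]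
      exact ⟨le_rfl, fun h' => (ENat.WithBot.add_one_le_iff.1 h').ne rfl⟩

end Groth.Agent.RectDepth
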